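import Mathlib

/-!
# Connected quotients of Noetherian rings (helper8)
-/

namespace Groth.Agent.H8.SF

theorem connectedSpace_of_idem (T : Type*) [CommRing T] [Nontrivial T]
    (h : ∀ e : T, IsIdempotentElem e → e = 0 ∨ e = 1) : ConnectedSpace (PrimeSpectrum T) := by
  rw [connectedSpace_iff_clopen]
  refine ⟨inferInstance, fun s hs => ?_⟩
  obtain ⟨e, he, rfl⟩ := PrimeSpectrum.isClopen_iff.mp hs
  rcases h e he with rfl | rfl
  · left; simp
  · right; simp

/-- A nontrivial Noetherian ring has a primitive idempotent. -/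
theorem exists_primitive_idempotent (T : Type*) [CommRing T] [IsNoetherianRing T] [Nontrivial T] :
    ∃ e : T, IsIdempotentElem e ∧ e ≠ 0 ∧
      ∀ f : T, IsIdempotentElem f → f * e = f → f = 0 ∨ f = e := by
  let S : Set (Ideal T) := {I | ∃ e : T, IsIdempotentElem e ∧ e ≠ 0 ∧ I = Ideal.span {1 - e}}
  have hS : S.Nonempty := ⟨_, 1, IsIdempotentElem.one, one_ne_zero, rfl⟩
  obtain ⟨I, ⟨e, he, he0, rfl⟩, hmax⟩ :=
    (set_has_maximal_iff_noetherian (R := T) (M := T)).mpr inferInstance S hS
  refine ⟨e, he, he0, fun f hf hfe => ?_⟩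
  by_cases hf0 : f = 0
  · exact Or.inl hf0
  right
  have hle : Ideal.span {1 - e} ≤ Ideal.span {1 - f} := by
    rw [Ideal.span_singleton_le_span_singleton]
    refine ⟨1 - e, ?_⟩
    have : (1 - f) * (1 - e) = 1 - e - f + f * e := by ring
    rw [this, hfe]; ring
  have hnlt := hmax _ ⟨f, hf, hf0, rfl⟩
  have hge : Ideal.span {1 - f} ≤ Ideal.span {1 - e} := by
    by_contra hne; exact hnlt (lt_of_le_not_ge hle hne)
  obtain ⟨t, ht⟩ := Ideal.span_singleton_le_span_singleton.mp hge
  -- ht : 1 - f = (1 - e) * t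
  have h1 : e * (1 - f) = 0 := by
    rw [ht, ← mul_assoc]
    have : e * (1 - e) = 0 := by rw [mul_sub, mul_one, he.eq, sub_self]
    rw [this, zero_mul]
  have h2 : e = e * f := by
    have : e * (1 - f) = e - e * f := by ring
    rw [this] at h1
    exact sub_eq_zero.mp h1
  rw [h2, mul_comm, hfe]

/-- The quotient by `1 - e` for a primitive idempotent `e` is connected. -/
theorem connectedSpace_quot_primitive {T : Type*} [CommRing T] (e : T) (he : IsIdempotentElem e)
    (he0 : e ≠ 0) (hprim : ∀ f : T, IsIdempotentElem f → f * e = f → f = 0 ∨ f = e) :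
    ConnectedSpace (PrimeSpectrum (T ⧸ Ideal.span {1 - e})) := by
  have hee : e * (1 - e) = 0 := by rw [mul_sub, mul_one, he.eq, sub_self]
  have hne : Ideal.span {1 - e} ≠ ⊤ := by
    intro htop
    have h1 : (1 : T) ∈ Ideal.span {1 - e} := by rw [htop]; trivial
    obtain ⟨t, ht⟩ := Ideal.mem_span_singleton'.mp h1
    apply he0
    calc e = e * 1 := (mul_one e).symm
      _ = e * (t * (1 - e)) := by rw [ht]
      _ = t * (e * (1 - e)) := by ring
      _ = 0 := by rw [hee, mul_zero]
  haveI : Nontrivial (T ⧸ Ideal.span {1 - e}) := Ideal.Quotient.nontrivial_iff.mpr hne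
  have hmk : Ideal.Quotient.mk (Ideal.span {1 - e}) e = 1 := by
    have : Ideal.Quotient.mk (Ideal.span {1 - e}) (1 - e) = 0 :=
      Ideal.Quotient.eq_zero_iff_mem.mpr (Ideal.mem_span_singleton_self _)
    rw [map_sub, map_one, sub_eq_zero] at this
    exact this.symm
  apply connectedSpace_of_idem
  intro f' hf'
  obtain ⟨t, rfl⟩ := Ideal.Quotient.mk_surjective f'
  have hmem : t * t - t ∈ Ideal.span {1 - e} := by
    rw [← Ideal.Quotient.eq_zero_iff_mem, map_sub, map_mul, hf'.eq, sub_self]
  obtain ⟨s, hs⟩ := Ideal.mem_span_singleton'.mp hmem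
  have het : e * (t * t) = e * t := by
    have : e * (t * t - t) = 0 := by
      rw [← hs]
      calc e * (s * (1 - e)) = s * (e * (1 - e)) := by ring
        _ = 0 := by rw [hee, mul_zero]
    rw [mul_sub] at this
    exact sub_eq_zero.mp this
  have hidem : IsIdempotentElem (e * t) := by
    show e * t * (e * t) = e * t
    calc e * t * (e * t) = (e * e) * (t * t) := by ring
      _ = e * (t * t) := by rw [he.eq]
      _ = e * t := het
  have hfe : e * t * e = e * t := by
    calc e * t * e = (e * e) * t := by ring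
      _ = e * t := by rw [he.eq]
  have hmkt : Ideal.Quotient.mk (Ideal.span {1 - e}) (e * t) = Ideal.Quotient.mk _ t := by
    rw [map_mul, hmk, one_mul]
  rcases hprim (e * t) hidem hfe with h0 | h1
  · left; rw [← hmkt, h0, map_zero]
  · right; rw [← hmkt, h1, hmk]

/-- A nontrivial Noetherian ring has a connected quotient by an idempotent. -/
theorem exists_connected_quot (T : Type*) [CommRing T] [IsNoetherianRing T] [Nontrivial T] :
    ∃ e : T, IsIdempotentElem e ∧ e ≠ 0 ∧
      ConnectedSpace (PrimeSpectrum (T ⧸ Ideal.span {1 - e})) := by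
  obtain ⟨e, he, he0, hprim⟩ := exists_primitive_idempotent T
  exact ⟨e, he, he0, connectedSpace_quot_primitive e he he0 hprim⟩

end Groth.Agent.H8.SF
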