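import Mathlib
import Groth.Prelude.Def_SchFin
import Groth.Prelude.Def_SchFin2

/-! # Toolkit for `IsBCAlong`: the universal property -/

set_option autoImplicit false

open TensorProduct

universe u

namespace Groth.Agent.H8.SF

open SchFin

section

variable {R S : Type u} [CommRing R] [CommRing S] (g : R →+* S)
  {M N : Type u} [AddCommGroup M] [AddCommGroup N] [Module R M] [Module S N] (f : M →ₛₗ[g] N)

/-- The universal property characterisation of `IsBCAlong` (instance-free). -/
theorem isBCAlong_iff_existsUnique :
    IsBCAlong g f ↔ ∀ (Q : Type u) [AddCommGroup Q] [Module S Q] (ψ : M →ₛₗ[g] Q),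
      ∃! L : N →ₗ[S] Q, ∀ m, L (f m) = ψ m := by
  letI : Algebra R S := g.toAlgebra
  letI : Module R N := Module.compHom N g
  haveI : IsScalarTower R S N := IsScalarTower.of_algebraMap_smul fun _ _ => rfl
  constructor
  · intro h Q _ _ ψ
    letI : Module R Q := Module.compHom Q g
    haveI : IsScalarTower R S Q := IsScalarTower.of_algebraMap_smul fun _ _ => rfl
    have h' : IsBaseChange S
      ({ toFun := f, map_add' := f.map_add, map_smul' := f.map_smulₛₗ } : M →ₗ[R] N) := h
    refine ⟨h'.lift ({ toFun := ψ, map_add' := ψ.map_add, map_smul' := ψ.map_smulₛₗ } : M →ₗ[R] Q),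
      fun m => h'.lift_eq _ m, fun L' hL' => ?_⟩
    refine h'.algHom_ext _ _ fun m => ?_
    exact (hL' m).trans (h'.lift_eq
      ({ toFun := ψ, map_add' := ψ.map_add, map_smul' := ψ.map_smulₛₗ } : M →ₗ[R] Q) m).symm
  · intro h
    show IsBaseChange S
      ({ toFun := f, map_add' := f.map_add, map_smul' := f.map_smulₛₗ } : M →ₗ[R] N)
    apply IsBaseChange.of_lift_unique
    intro Q _ _ _ _ g₀
    letI : AddCommGroup Q := Module.addCommMonoidToAddCommGroup S
    let ψ : M →ₛₗ[g] Q :=
      { toFun := g₀, map_add' := g₀.map_add,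
        map_smul' := fun r m => by
          show g₀ (r • m) = g r • g₀ m
          rw [g₀.map_smul]
          exact (algebraMap_smul S r (g₀ m)).symm }
    obtain ⟨L, hL, hu⟩ := h Q ψ
    refine ⟨L, LinearMap.ext fun m => hL m, fun L' hL' => hu L' fun m => ?_⟩
    exact LinearMap.congr_fun hL' m

variable {g f}

/-- existence part -/
theorem isBCAlong_lift_exists (h : IsBCAlong g f) {Q : Type u} [AddCommGroup Q] [Module S Q]
    (ψ : M →ₛₗ[g] Q) : ∃ L : N →ₗ[S] Q, ∀ m, L (f m) = ψ m :=
  ((isBCAlong_iff_existsUnique g f).1 h Q ψ).exists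

/-- uniqueness part -/
theorem isBCAlong_hom_ext (h : IsBCAlong g f) {Q : Type u} [AddCommGroup Q] [Module S Q]
    (L L' : N →ₗ[S] Q) (e : ∀ m, L (f m) = L' (f m)) : L = L' := by
  let ψ : M →ₛₗ[g] Q :=
    { toFun := fun m => L (f m), map_add' := fun a b => by rw [map_add, map_add],
      map_smul' := fun r m => by rw [f.map_smulₛₗ, L.map_smul] }
  exact ((isBCAlong_iff_existsUnique g f).1 h Q ψ).unique (fun _ => rfl) (fun m => (e m).symm)

/-- additive uniqueness -/
theorem isBCAlong_apply_ext (h : IsBCAlong g f) {Q : Type u} [AddCommGroup Q] [Module S Q]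
    (L L' : N →ₗ[S] Q) (e : ∀ m, L (f m) = L' (f m)) (n : N) : L n = L' n :=
  LinearMap.congr_fun (isBCAlong_hom_ext h L L' e) n

/-- span: `N` is generated over `S` by the image of `f`. -/
theorem isBCAlong_span_range (h : IsBCAlong g f) :
    Submodule.span S (Set.range f) = ⊤ := by
  by_contra hne
  -- the quotient by the span receives two maps agreeing on the image
  let P := Submodule.span S (Set.range f)
  have := isBCAlong_hom_ext h (P.mkQ) 0 fun m => by
    rw [LinearMap.zero_apply]
    exact (Submodule.Quotient.mk_eq_zero P).2 (Submodule.subset_span ⟨m, rfl⟩)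
  apply hne
  rw [eq_top_iff]
  intro n _
  have hn : P.mkQ n = 0 := by rw [this]; rfl
  exact (Submodule.Quotient.mk_eq_zero P).1 hn

/-- induction principle -/
theorem isBCAlong_induction (h : IsBCAlong g f) {motive : N → Prop} (n : N)
    (zero : motive 0) (img : ∀ m, motive (f m)) (smul : ∀ (s : S) n, motive n → motive (s • n))
    (add : ∀ n n', motive n → motive n' → motive (n + n')) : motive n := by
  have hn : n ∈ Submodule.span S (Set.range f) := by rw [isBCAlong_span_range h]; trivial
  induction hn using Submodule.span_induction with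
  | mem x hx => obtain ⟨m, rfl⟩ := hx; exact img m
  | zero => exact zero
  | add x y _ _ hx hy => exact add x y hx hy
  | smul a x _ hx => exact smul a x hx

end

end Groth.Agent.H8.SF
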