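import Mathlib

/-!
# Products of modules over products of rings (helper8)
-/

set_option autoImplicit false

open TensorProduct

universe u

namespace Groth.Agent.H8.SF

attribute [local instance] RestrictScalars.moduleOrig

section

variable {ι : Type u} [Finite ι] (S : ι → Type u) [∀ q, CommRing (S q)]

/-- a factor as an algebra over the product ring -/
@[reducible] def projAlg (q : ι) : Algebra (∀ q, S q) (S q) := (Pi.evalRingHom S q).toAlgebra

theorem projAlg_flat (q : ι) : letI := projAlg S q; Module.Flat (∀ q, S q) (S q) := by
  classical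
  letI := projAlg S q
  let i : S q →ₗ[∀ q, S q] (∀ q, S q) :=
    { toFun := fun a => Pi.single q a
      map_add' := fun a b => Pi.single_add q a b
      map_smul' := fun p a => by
        funext j
        show Pi.single q (p q * a) j = p j * Pi.single q a j
        by_cases hj : j = q
        · subst hj; rw [Pi.single_eq_same, Pi.single_eq_same]
        · rw [Pi.single_eq_of_ne hj, Pi.single_eq_of_ne hj, mul_zero] }
  let r : (∀ q, S q) →ₗ[∀ q, S q] S q :=
    { toFun := fun p => p q
      map_add' := fun _ _ => rfl
      map_smul' := fun _ _ => rfl }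
  refine Module.Flat.of_retract i r ?_
  ext a
  show Pi.single q a q = a
  rw [Pi.single_eq_same]

theorem projAlg_surjective (q : ι) :
    letI := projAlg S q; Function.Surjective (algebraMap (∀ q, S q) (S q)) := by
  classical
  intro a
  exact ⟨Pi.single q a, Pi.single_eq_same q a⟩

variable (M : ι → Type u) [∀ q, AddCommGroup (M q)] [∀ q, Module (S q) (M q)]

/-- the identity, from the product of the restrictions of scalars to the product with its
componentwise module structure -/
def restrictPiEquiv :
    letI : ∀ q, Algebra (∀ q, S q) (S q) := projAlg S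
    (∀ q, RestrictScalars (∀ q, S q) (S q) (M q)) ≃ₗ[∀ q, S q] (∀ q, M q) :=
  letI : ∀ q, Algebra (∀ q, S q) (S q) := projAlg S
  { toFun := fun x => x
    invFun := fun x => x
    map_add' := fun _ _ => rfl
    map_smul' := fun _ _ => rfl
    left_inv := fun _ => rfl
    right_inv := fun _ => rfl }

theorem flat_pi' (h : ∀ q, Module.Flat (S q) (M q)) :
    Module.Flat (∀ q, S q) (∀ q, M q) := by
  classical
  cases nonempty_fintype ι
  letI : ∀ q, Algebra (∀ q, S q) (S q) := projAlg S
  haveI : ∀ q, Module.Flat (∀ q, S q) (RestrictScalars (∀ q, S q) (S q) (M q)) := fun q => by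
    haveI := projAlg_flat S q
    haveI : Module.Flat (S q) (RestrictScalars (∀ q, S q) (S q) (M q)) := h q
    exact Module.Flat.trans (∀ q, S q) (S q) _
  haveI h1 : Module.Flat (∀ q, S q) (∀ q, RestrictScalars (∀ q, S q) (S q) (M q)) :=
    Module.Flat.of_linearEquiv (DirectSum.linearEquivFunOnFintype (∀ q, S q) ι
      (fun q => RestrictScalars (∀ q, S q) (S q) (M q))).symm
  exact Module.Flat.of_linearEquiv (restrictPiEquiv S M).symm

theorem finite_pi' (h : ∀ q, Module.Finite (S q) (M q)) :
    Module.Finite (∀ q, S q) (∀ q, M q) := by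
  letI : ∀ q, Algebra (∀ q, S q) (S q) := projAlg S
  haveI : ∀ q, Module.Finite (∀ q, S q) (RestrictScalars (∀ q, S q) (S q) (M q)) := fun q => by
    haveI : Module.Finite (∀ q, S q) (S q) :=
      Module.Finite.of_surjective (Algebra.linearMap (∀ q, S q) (S q)) (projAlg_surjective S q)
    haveI : Module.Finite (S q) (RestrictScalars (∀ q, S q) (S q) (M q)) := h q
    exact Module.Finite.trans (S q) _
  haveI h1 : Module.Finite (∀ q, S q) (∀ q, RestrictScalars (∀ q, S q) (S q) (M q)) :=
    Module.Finite.pi
  exact Module.Finite.equiv (restrictPiEquiv S M)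

end

end Groth.Agent.H8.SF
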