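import Mathlib
import Groth.Agent.Lib.Helper8.SchFin.PiPi

/-!
# Base change to a finite product of rings, and descent along a jointly faithfully flat family
(helper8)
-/

set_option autoImplicit false

open TensorProduct

universe u

namespace Groth.Agent.H8.SF

section

variable {ι : Type u} [Finite ι] {R : Type u} [CommRing R] (S : ι → Type u)
  [∀ q, CommRing (S q)] [∀ q, Algebra R (S q)]
  {N : Type u} [AddCommGroup N] [Module R N]
  (M : ι → Type u) [∀ q, AddCommGroup (M q)] [∀ q, Module (S q) (M q)] [∀ q, Module R (M q)]
  [∀ q, IsScalarTower R (S q) (M q)]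

/-- A family of base changes along `R → S q` assembles to a base change along `R → ∏ S q`. -/
theorem isBaseChange_pi_family (f : ∀ q, N →ₗ[R] M q) (hf : ∀ q, IsBaseChange (S q) (f q)) :
    IsBaseChange (∀ q, S q) (LinearMap.pi f) := by
  classical
  cases nonempty_fintype ι
  let Λ : (∀ q, S q) ⊗[R] N →ₗ[∀ q, S q] (∀ q, M q) := (LinearMap.pi f).liftBaseChange (∀ q, S q)
  have hΛ : ∀ (p : ∀ q, S q) (n : N) (q : ι), Λ (p ⊗ₜ n) q = p q • f q n := by
    intro p n q
    show ((LinearMap.pi f).liftBaseChange (∀ q, S q) (p ⊗ₜ n)) q = _
    rw [LinearMap.liftBaseChange_tmul]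
    rfl
  have hcomp : ∀ (z : (∀ q, S q) ⊗[R] N) (q : ι),
      Λ z q = (hf q).equiv (TensorProduct.piLeft R N S z q) := by
    intro z q
    induction z using TensorProduct.induction_on with
    | zero => simp only [map_zero, Pi.zero_apply]
    | tmul p n =>
        rw [hΛ]
        have : TensorProduct.piLeft R N S (p ⊗ₜ n) q = p q ⊗ₜ n := by
          simp [TensorProduct.piLeft]
        rw [this, IsBaseChange.equiv_tmul]
    | add y y' hy hy' => simp only [map_add, Pi.add_apply, hy, hy']
  have hbij : Function.Bijective Λ := by
    have : (Λ : (∀ q, S q) ⊗[R] N → (∀ q, M q)) =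
        (fun w : ∀ q, S q ⊗[R] N => fun q => (hf q).equiv (w q)) ∘
          (TensorProduct.piLeft R N S) := by
      funext z q
      exact hcomp z q
    rw [this]
    refine Function.Bijective.comp ?_ (TensorProduct.piLeft R N S).bijective
    constructor
    · intro w w' h
      funext q
      exact (hf q).equiv.injective (congrFun h q)
    · intro m
      exact ⟨fun q => (hf q).equiv.symm (m q), funext fun q => (hf q).equiv.apply_symm_apply _⟩
  refine IsBaseChange.of_equiv (LinearEquiv.ofBijective Λ hbij) fun n => ?_
  funext q
  show Λ (1 ⊗ₜ n) q = f q n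
  rw [hΛ]
  show (1 : S q) • f q n = f q n
  rw [one_smul]

end

end Groth.Agent.H8.SF

namespace Groth.Agent.H8.SF

section Descent

variable {A R P : Type u} [CommRing A] [CommRing R] [CommRing P] [Algebra A R] [Algebra R P]
  [Algebra A P] [IsScalarTower A R P] [Module.FaithfullyFlat R P]
  {M N N' : Type u} [AddCommGroup M] [AddCommGroup N] [AddCommGroup N']
  [Module A M] [Module A N] [Module R N] [IsScalarTower A R N]
  [Module A N'] [Module R N'] [Module P N'] [IsScalarTower A R N'] [IsScalarTower R P N']
  [IsScalarTower A P N']

/-- Descent of base change along a faithfully flat map: if `g` and `g ∘ f` are base changes to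
`P` and `P` is faithfully flat over `R`, then `f` is a base change to `R`. -/
theorem isBaseChange_of_comp_of_faithfullyFlat (f : M →ₗ[A] N) (g : N →ₗ[R] N')
    (hg : IsBaseChange P g) (hgf : IsBaseChange P ((g.restrictScalars A).comp f)) :
    IsBaseChange R f := by
  let α : R ⊗[A] M →ₗ[R] N := f.liftBaseChange R
  have hα : ∀ (r : R) (m : M), α (r ⊗ₜ m) = r • f m := fun r m =>
    LinearMap.liftBaseChange_tmul _ _ _ _
  have hsq : ∀ z : P ⊗[R] (R ⊗[A] M),
      hg.equiv (LinearMap.lTensor P α z) =
        hgf.equiv (TensorProduct.AlgebraTensorModule.cancelBaseChange A R P P M z) := by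
    intro z
    induction z using TensorProduct.induction_on with
    | zero => simp only [map_zero]
    | tmul p w =>
        induction w using TensorProduct.induction_on with
        | zero => simp only [TensorProduct.tmul_zero, map_zero]
        | tmul r m =>
            rw [LinearMap.lTensor_tmul, hα, IsBaseChange.equiv_tmul,
              TensorProduct.AlgebraTensorModule.cancelBaseChange_tmul, IsBaseChange.equiv_tmul]
            show p • g (r • f m) = (r • p) • g (f m)
            rw [map_smul, smul_assoc r p, smul_comm]
        | add w w' hw hw' =>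
            simp only [TensorProduct.tmul_add, map_add, hw, hw']
    | add y y' hy hy' => simp only [map_add, hy, hy']
  have hbij : Function.Bijective (LinearMap.lTensor P α) := by
    have : (LinearMap.lTensor P α : P ⊗[R] (R ⊗[A] M) → P ⊗[R] N) =
        hg.equiv.symm ∘ hgf.equiv ∘
          (TensorProduct.AlgebraTensorModule.cancelBaseChange A R P P M) := by
      funext z
      show _ = hg.equiv.symm (hgf.equiv _)
      rw [← hsq, LinearEquiv.symm_apply_apply]
    rw [this]
    exact hg.equiv.symm.bijective.comp (hgf.equiv.bijective.comp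
      (TensorProduct.AlgebraTensorModule.cancelBaseChange A R P P M).bijective)
  have hαbij : Function.Bijective α :=
    (Module.FaithfullyFlat.lTensor_bijective_iff_bijective R P α).1 hbij
  refine IsBaseChange.of_equiv (LinearEquiv.ofBijective α hαbij) fun m => ?_
  show α (1 ⊗ₜ m) = f m
  rw [hα, one_smul]

end Descent

end Groth.Agent.H8.SF
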