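import Mathlib
import Groth.Prelude.Def_SchFin
import Groth.Prelude.Def_SchFin2
import Groth.Agent.Lib.Helper8.SchFin.BC
import Groth.Agent.Lib.Helper8.SchFin.PiDescent

/-!
# Sections over an affine up-closed subset (helper8)
-/

set_option autoImplicit false

open TensorProduct

universe u

namespace Groth.Agent.H8.SF

open SchFin

section Wrappers

/-- a family of base changes assembles to a base change to the product (in `IsBCAlong` form) -/
theorem isBCAlong_pi_family {ι : Type u} [Finite ι] {R : Type u} [CommRing R] {S : ι → Type u}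
    [∀ q, CommRing (S q)] (g : ∀ q, R →+* S q) {N : Type u} [AddCommGroup N] [Module R N]
    {M : ι → Type u} [∀ q, AddCommGroup (M q)] [∀ q, Module (S q) (M q)]
    (f : ∀ q, N →ₛₗ[g q] M q) (hf : ∀ q, IsBCAlong (g q) (f q))
    (F : N →ₛₗ[RingHom.pi g] (∀ q, M q)) (hF : ∀ n q, F n q = f q n) :
    IsBCAlong (RingHom.pi g) F := by
  letI : ∀ q, Algebra R (S q) := fun q => (g q).toAlgebra
  letI : ∀ q, Module R (M q) := fun q => Module.compHom (M q) (g q)
  haveI : ∀ q, IsScalarTower R (S q) (M q) := fun q =>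
    IsScalarTower.of_algebraMap_smul fun _ _ => rfl
  have hf' : ∀ q, IsBaseChange (S q)
      ({ toFun := f q, map_add' := (f q).map_add, map_smul' := (f q).map_smulₛₗ } :
        N →ₗ[R] M q) := hf
  have key := isBaseChange_pi_family S M _ hf'
  rw [isBCAlong_iff_existsUnique]
  intro Q _ _ ψ
  letI : Module R Q := Module.compHom Q (RingHom.pi g)
  haveI : IsScalarTower R (∀ q, S q) Q := IsScalarTower.of_algebraMap_smul fun _ _ => rfl
  let ψ' : N →ₗ[R] Q :=
    { toFun := ψ, map_add' := ψ.map_add, map_smul' := ψ.map_smulₛₗ }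
  have hFpi : ∀ n, F n = LinearMap.pi (fun q =>
      ({ toFun := f q, map_add' := (f q).map_add, map_smul' := (f q).map_smulₛₗ } :
        N →ₗ[R] M q)) n := fun n => funext fun q => hF n q
  refine ⟨key.lift ψ', fun n => ?_, fun L' hL' => ?_⟩
  · rw [hFpi, key.lift_eq]
    rfl
  · refine key.algHom_ext _ _ fun n => ?_
    rw [key.lift_eq, ← hFpi, hL']
    rfl

/-- descent of base change along a faithfully flat ring map (in `IsBCAlong` form) -/
theorem isBCAlong_of_comp_ff {A R P : Type u} [CommRing A] [CommRing R] [CommRing P]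
    (g₁ : A →+* R) (g₂ : R →+* P) (hff : g₂.FaithfullyFlat)
    {M N N' : Type u} [AddCommGroup M] [AddCommGroup N] [AddCommGroup N']
    [Module A M] [Module R N] [Module P N']
    (f₁ : M →ₛₗ[g₁] N) (f₂ : N →ₛₗ[g₂] N') (f₂₁ : M →ₛₗ[g₂.comp g₁] N')
    (hcomp : ∀ m, f₂₁ m = f₂ (f₁ m))
    (h₂ : IsBCAlong g₂ f₂) (h₂₁ : IsBCAlong (g₂.comp g₁) f₂₁) : IsBCAlong g₁ f₁ := by
  letI : Algebra A R := g₁.toAlgebra
  letI : Algebra R P := g₂.toAlgebra
  letI : Algebra A P := (g₂.comp g₁).toAlgebra
  haveI : IsScalarTower A R P := IsScalarTower.of_algebraMap_eq fun _ => rfl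
  haveI : Module.FaithfullyFlat R P := hff
  letI : Module A N := Module.compHom N g₁
  haveI : IsScalarTower A R N := IsScalarTower.of_algebraMap_smul fun _ _ => rfl
  letI : Module R N' := Module.compHom N' g₂
  haveI : IsScalarTower R P N' := IsScalarTower.of_algebraMap_smul fun _ _ => rfl
  letI : Module A N' := Module.compHom N' (g₂.comp g₁)
  haveI : IsScalarTower A P N' := IsScalarTower.of_algebraMap_smul fun _ _ => rfl
  haveI : IsScalarTower A R N' := IsScalarTower.of_algebraMap_smul fun _ _ => rfl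
  have h₂' : IsBaseChange P
      ({ toFun := f₂, map_add' := f₂.map_add, map_smul' := f₂.map_smulₛₗ } : N →ₗ[R] N') := h₂
  have h₂₁' : IsBaseChange P
      ({ toFun := f₂₁, map_add' := f₂₁.map_add, map_smul' := f₂₁.map_smulₛₗ } : M →ₗ[A] N') :=
    h₂₁
  have heq : ({ toFun := f₂₁, map_add' := f₂₁.map_add, map_smul' := f₂₁.map_smulₛₗ } :
      M →ₗ[A] N') =
      (({ toFun := f₂, map_add' := f₂.map_add, map_smul' := f₂.map_smulₛₗ } :
        N →ₗ[R] N').restrictScalars A).comp
      ({ toFun := f₁, map_add' := f₁.map_add, map_smul' := f₁.map_smulₛₗ } : M →ₗ[A] N) :=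
    LinearMap.ext hcomp
  rw [heq] at h₂₁'
  exact isBaseChange_of_comp_of_faithfullyFlat _ _ h₂' h₂₁'

/-- transport of a base change along isomorphisms of the source data -/
theorem isBCAlong_transport {R R' S : Type u} [CommRing R] [CommRing R'] [CommRing S]
    {g : R →+* S} {g' : R' →+* S} {M M' N : Type u} [AddCommGroup M] [AddCommGroup M']
    [AddCommGroup N] [Module R M] [Module R' M'] [Module S N]
    {f : M →ₛₗ[g] N} (h : IsBCAlong g f) (f' : M' →ₛₗ[g'] N)
    (ρ : R →+* R') (τ : M →+ M') (hτ : Function.Surjective τ)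
    (hg : ∀ r, g' (ρ r) = g r) (hτs : ∀ r m, τ (r • m) = ρ r • τ m)
    (hf : ∀ m, f' (τ m) = f m) : IsBCAlong g' f' := by
  rw [isBCAlong_iff_existsUnique]
  intro Q _ _ ψ'
  let ψ : M →ₛₗ[g] Q :=
    { toFun := fun m => ψ' (τ m)
      map_add' := fun a b => by rw [map_add, map_add]
      map_smul' := fun r m => by rw [hτs, ψ'.map_smulₛₗ, hg] }
  obtain ⟨L, hL, hu⟩ := (isBCAlong_iff_existsUnique g f).1 h Q ψ
  refine ⟨L, fun m' => ?_, fun L' hL' => hu L' fun m => ?_⟩
  · obtain ⟨m, rfl⟩ := hτ m'
    rw [hf, hL]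
    rfl
  · rw [← hf, hL']
    rfl

end Wrappers

variable {X : RSpace.{u}}

/-- the counit isomorphism over an affine subset, phrased with sections over the subset -/
theorem counit_sub (U : Set X.pt) (hUa : (X.restrict U).IsAffine) (M : OMod X) (hM : M.IsQcoh)
    (q : U) : IsBCAlong (X.evalRing U q) (M.evalMod U q) := by
  have hM' : (M.restrict U).IsQcoh := fun p p' h => hM p.1 p'.1 h
  have h := hUa.2.2.1 (M.restrict U) hM' q
  let ρ : (X.restrict U).sectRing Set.univ →+* X.sectRing U :=
    { toFun := fun s => ⟨fun q' => s.1 ⟨q', trivial⟩, fun a b hab =>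
        s.2 ⟨a, trivial⟩ ⟨b, trivial⟩ hab⟩
      map_one' := rfl
      map_mul' := fun _ _ => rfl
      map_zero' := rfl
      map_add' := fun _ _ => rfl }
  let τ : (M.restrict U).sect Set.univ →+ M.sect U :=
    { toFun := fun s => ⟨fun q' => s.1 ⟨q', trivial⟩, fun a b hab =>
        s.2 ⟨a, trivial⟩ ⟨b, trivial⟩ hab⟩
      map_zero' := rfl
      map_add' := fun _ _ => rfl }
  refine isBCAlong_transport h (M.evalMod U q) ρ τ ?_ (fun _ => rfl) (fun _ _ => rfl)
    (fun _ => rfl)
  intro s
  exact ⟨⟨fun q' => s.1 q'.1, fun a b hab => s.2 a.1 b.1 hab⟩, rfl⟩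

/-- the inclusion of the sections into the product is a base change to the product of the rings -/
theorem isBCAlong_sect_subtype (U : Set X.pt) (hUa : (X.restrict U).IsAffine) (M : OMod X)
    (hM : M.IsQcoh) (F : M.sect U →ₛₗ[(X.sectRing U).subtype] ((q : U) → M.carrier q.1))
    (hF : ∀ s, F s = s.1) : IsBCAlong (X.sectRing U).subtype F := by
  have h := isBCAlong_pi_family (fun q : U => X.evalRing U q) (fun q : U => M.evalMod U q)
    (fun q => counit_sub U hUa M hM q)
    ({ toFun := F, map_add' := F.map_add, map_smul' := fun r s => F.map_smulₛₗ r s } :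
      M.sect U →ₛₗ[RingHom.pi fun q : U => X.evalRing U q] ((q : U) → M.carrier q.1))
    (fun s q => by
      show F s q = s.1 q
      rw [hF])
  exact h

/-- the inclusion of sections into the product, as a semilinear map -/
def sectIncl (U : Set X.pt) (M : OMod X) :
    M.sect U →ₛₗ[(X.sectRing U).subtype] ((q : U) → M.carrier q.1) where
  toFun s := s.1
  map_add' _ _ := rfl
  map_smul' _ _ := rfl

theorem isBCAlong_sectIncl (U : Set X.pt) (hUa : (X.restrict U).IsAffine) (M : OMod X)
    (hM : M.IsQcoh) : IsBCAlong (X.sectRing U).subtype (sectIncl U M) :=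
  isBCAlong_sect_subtype U hUa M hM _ fun _ => rfl

/-- restriction from a point to the product over a set of points above it -/
def resPi (x : X.pt) (U : Set X.pt) (hU : U ⊆ X.up x) (M : OMod X) :
    M.carrier x →ₛₗ[(X.sectRing U).subtype.comp (X.resSect x U hU)]
      ((q : U) → M.carrier q.1) where
  toFun m := fun q => M.res (hU q.2) m
  map_add' a b := funext fun _ => map_add _ a b
  map_smul' a m := funext fun q => (M.res (hU q.2)).map_smulₛₗ a m

theorem isBCAlong_resPi (x : X.pt) (U : Set X.pt) (hU : U ⊆ X.up x) (M : OMod X)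
    (hM : M.IsQcoh) :
    IsBCAlong ((X.sectRing U).subtype.comp (X.resSect x U hU)) (resPi x U hU M) := by
  have h := isBCAlong_pi_family (fun q : U => X.res (hU q.2)) (fun q : U => M.res (hU q.2))
    (fun q => hM x q.1 (hU q.2))
    ({ toFun := resPi x U hU M, map_add' := (resPi x U hU M).map_add,
       map_smul' := fun r s => (resPi x U hU M).map_smulₛₗ r s } :
      M.carrier x →ₛₗ[RingHom.pi fun q : U => X.res (hU q.2)] ((q : U) → M.carrier q.1))
    (fun _ _ => rfl)
  exact h

theorem isBCAlong_resSect_of_isAffine (x : X.pt) (U : Set X.pt) (hU : U ⊆ X.up x)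
    (hUa : (X.restrict U).IsAffine)
    (hff : Module.FaithfullyFlat (X.sectRing U) ((q : ↥U) → X.ring q.1)) (M : OMod X)
    (hM : M.IsQcoh) : IsBCAlong (X.resSect x U hU) (M.resSect x U hU) :=
  isBCAlong_of_comp_ff (X.resSect x U hU) (X.sectRing U).subtype hff
    (M.resSect x U hU) (sectIncl U M) (resPi x U hU M) (fun _ => rfl)
    (isBCAlong_sectIncl U hUa M hM) (isBCAlong_resPi x U hU M hM)

end Groth.Agent.H8.SF
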