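import Mathlib
import Groth.Prelude.Def_SchFin
import Groth.Prelude.Def_SchFin2
import Groth.Agent.Lib.Helper8.SchFin.AffSect

/-!
# Flat / faithfully flat / finite criteria for sections of a quasi-coherent algebra over an affine
subset (helper8)
-/

set_option autoImplicit false

open TensorProduct

universe u

namespace Groth.Agent.H8.SF

open SchFin

section BC

variable {R S : Type u} [CommRing R] [CommRing S] {g : R →+* S}
  {M N : Type u} [AddCommGroup M] [AddCommGroup N] [Module R M] [Module S N] {f : M →ₛₗ[g] N}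

theorem flat_of_isBCAlong (h : IsBCAlong g f) [Module.Flat R M] : Module.Flat S N := by
  letI : Algebra R S := g.toAlgebra
  letI : Module R N := Module.compHom N g
  haveI : IsScalarTower R S N := IsScalarTower.of_algebraMap_smul fun _ _ => rfl
  have h' : IsBaseChange S
    ({ toFun := f, map_add' := f.map_add, map_smul' := f.map_smulₛₗ } : M →ₗ[R] N) := h
  exact Module.Flat.of_linearEquiv h'.equiv.symm

theorem finite_of_isBCAlong (h : IsBCAlong g f) [Module.Finite R M] : Module.Finite S N := by
  letI : Algebra R S := g.toAlgebra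
  letI : Module R N := Module.compHom N g
  haveI : IsScalarTower R S N := IsScalarTower.of_algebraMap_smul fun _ _ => rfl
  have h' : IsBaseChange S
    ({ toFun := f, map_add' := f.map_add, map_smul' := f.map_smulₛₗ } : M →ₗ[R] N) := h
  exact Module.Finite.equiv h'.equiv

theorem ff_of_isBCAlong (h : IsBCAlong g f) [Module.FaithfullyFlat R M] :
    Module.FaithfullyFlat S N := by
  letI : Algebra R S := g.toAlgebra
  letI : Module R N := Module.compHom N g
  haveI : IsScalarTower R S N := IsScalarTower.of_algebraMap_smul fun _ _ => rfl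
  have h' : IsBaseChange S
    ({ toFun := f, map_add' := f.map_add, map_smul' := f.map_smulₛₗ } : M →ₗ[R] N) := h
  exact Module.FaithfullyFlat.of_linearEquiv S (S ⊗[R] M) h'.equiv.symm

theorem flat_of_isBCAlong_ff (hg : g.FaithfullyFlat) (h : IsBCAlong g f) [Module.Flat S N] :
    Module.Flat R M := by
  letI : Algebra R S := g.toAlgebra
  haveI : Module.FaithfullyFlat R S := hg
  letI : Module R N := Module.compHom N g
  haveI : IsScalarTower R S N := IsScalarTower.of_algebraMap_smul fun _ _ => rfl
  have h' : IsBaseChange S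
    ({ toFun := f, map_add' := f.map_add, map_smul' := f.map_smulₛₗ } : M →ₗ[R] N) := h
  haveI : Module.Flat S (S ⊗[R] M) := Module.Flat.of_linearEquiv h'.equiv
  exact Module.Flat.of_flat_tensorProduct R M S

theorem finite_of_isBCAlong_ff (hg : g.FaithfullyFlat) (h : IsBCAlong g f) [Module.Finite S N] :
    Module.Finite R M := by
  letI : Algebra R S := g.toAlgebra
  haveI : Module.FaithfullyFlat R S := hg
  letI : Module R N := Module.compHom N g
  haveI : IsScalarTower R S N := IsScalarTower.of_algebraMap_smul fun _ _ => rfl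
  have h' : IsBaseChange S
    ({ toFun := f, map_add' := f.map_add, map_smul' := f.map_smulₛₗ } : M →ₗ[R] N) := h
  haveI : Module.Finite S (S ⊗[R] M) := Module.Finite.equiv h'.equiv.symm
  exact Module.Finite.of_finite_tensorProduct_of_faithfullyFlat S

end BC

variable {X : RSpace.{u}} (A : Alg X) (U : Set X.pt)

/-- sections of the underlying module of an algebra are the sections of its total space -/
def sectEquiv :
    letI : Algebra (X.sectRing U) (A.total.sectRing U) := (A.sectMap U).toAlgebra
    A.toMod.sect U ≃ₗ[X.sectRing U] A.total.sectRing U :=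
  letI : Algebra (X.sectRing U) (A.total.sectRing U) := (A.sectMap U).toAlgebra
  { toFun := fun s => ⟨s.1, s.2⟩
    invFun := fun s => ⟨s.1, s.2⟩
    map_add' := fun _ _ => rfl
    map_smul' := fun r s => by
      apply Subtype.ext
      funext q
      show r.1 q • (show A.carrier q.1 from s.1 q) =
        algebraMap (X.ring q.1) (A.carrier q.1) (r.1 q) * (show A.carrier q.1 from s.1 q)
      rw [Algebra.smul_def]
    left_inv := fun _ => rfl
    right_inv := fun _ => rfl }

variable {A U}

theorem flat_sectMap_iff (hA : A.IsQcoh) (hUa : (X.restrict U).IsAffine)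
    (hφ : Module.FaithfullyFlat (X.sectRing U) ((q : ↥U) → X.ring q.1)) :
    (∀ q : X.pt, q ∈ U → Module.Flat (X.ring q) (A.carrier q)) ↔ (A.sectMap U).Flat := by
  have hφ' : (X.sectRing U).subtype.FaithfullyFlat := hφ
  constructor
  · intro h
    haveI : Module.Flat ((q : U) → X.ring q.1) ((q : U) → A.toMod.carrier q.1) :=
      flat_pi' (fun q : U => X.ring q.1) (fun q : U => A.carrier q.1) fun q => h q.1 q.2
    haveI : Module.Flat (X.sectRing U) (A.toMod.sect U) :=
      flat_of_isBCAlong_ff hφ' (isBCAlong_sectIncl U hUa A.toMod hA)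
    letI : Algebra (X.sectRing U) (A.total.sectRing U) := (A.sectMap U).toAlgebra
    show Module.Flat (X.sectRing U) (A.total.sectRing U)
    exact Module.Flat.of_linearEquiv (sectEquiv A U).symm
  · intro h q hq
    letI : Algebra (X.sectRing U) (A.total.sectRing U) := (A.sectMap U).toAlgebra
    haveI : Module.Flat (X.sectRing U) (A.total.sectRing U) := h
    haveI : Module.Flat (X.sectRing U) (A.toMod.sect U) :=
      Module.Flat.of_linearEquiv (sectEquiv A U)
    exact flat_of_isBCAlong (counit_sub U hUa A.toMod hA ⟨q, hq⟩)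

theorem finite_sectMap_iff (hA : A.IsQcoh) (hUa : (X.restrict U).IsAffine)
    (hφ : Module.FaithfullyFlat (X.sectRing U) ((q : ↥U) → X.ring q.1)) :
    (∀ q : X.pt, q ∈ U → Module.Finite (X.ring q) (A.carrier q)) ↔ (A.sectMap U).Finite := by
  have hφ' : (X.sectRing U).subtype.FaithfullyFlat := hφ
  constructor
  · intro h
    haveI : Module.Finite ((q : U) → X.ring q.1) ((q : U) → A.toMod.carrier q.1) :=
      finite_pi' (fun q : U => X.ring q.1) (fun q : U => A.carrier q.1) fun q => h q.1 q.2
    haveI : Module.Finite (X.sectRing U) (A.toMod.sect U) :=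
      finite_of_isBCAlong_ff hφ' (isBCAlong_sectIncl U hUa A.toMod hA)
    letI : Algebra (X.sectRing U) (A.total.sectRing U) := (A.sectMap U).toAlgebra
    show Module.Finite (X.sectRing U) (A.total.sectRing U)
    exact Module.Finite.equiv (sectEquiv A U)
  · intro h q hq
    letI : Algebra (X.sectRing U) (A.total.sectRing U) := (A.sectMap U).toAlgebra
    haveI : Module.Finite (X.sectRing U) (A.total.sectRing U) := h
    haveI : Module.Finite (X.sectRing U) (A.toMod.sect U) :=
      Module.Finite.equiv (sectEquiv A U).symm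
    exact finite_of_isBCAlong (counit_sub U hUa A.toMod hA ⟨q, hq⟩)

theorem ff_sectMap_iff (hA : A.IsQcoh) (hUa : (X.restrict U).IsAffine)
    (hφ : Module.FaithfullyFlat (X.sectRing U) ((q : ↥U) → X.ring q.1)) :
    (∀ q : X.pt, q ∈ U → Module.FaithfullyFlat (X.ring q) (A.carrier q)) ↔
      (A.sectMap U).FaithfullyFlat := by
  have hφ' : (X.sectRing U).subtype.FaithfullyFlat := hφ
  constructor
  · intro h
    rw [RingHom.FaithfullyFlat.iff_flat_and_comap_surjective]
    refine ⟨(flat_sectMap_iff hA hUa hφ).1 fun q hq => (h q hq).toFlat, fun 𝔭 => ?_⟩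
    obtain ⟨𝔓, h𝔓⟩ := (RingHom.FaithfullyFlat.iff_flat_and_comap_surjective.1 hφ').2 𝔭
    obtain ⟨q, 𝔭q, rfl⟩ := PrimeSpectrum.exists_comap_evalRingHom_eq 𝔓
    haveI := h q.1 q.2
    obtain ⟨𝔮, h𝔮⟩ := PrimeSpectrum.comap_surjective_of_faithfullyFlat
      (A := X.ring q.1) (B := A.carrier q.1) 𝔭q
    refine ⟨PrimeSpectrum.comap (A.total.evalRing U q) 𝔮, ?_⟩
    rw [← h𝔓, ← h𝔮]
    rfl
  · intro h q hq
    letI : Algebra (X.sectRing U) (A.total.sectRing U) := (A.sectMap U).toAlgebra
    haveI : Module.FaithfullyFlat (X.sectRing U) (A.total.sectRing U) := h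
    haveI : Module.FaithfullyFlat (X.sectRing U) (A.toMod.sect U) :=
      Module.FaithfullyFlat.of_linearEquiv _ _ (sectEquiv A U)
    exact ff_of_isBCAlong (counit_sub U hUa A.toMod hA ⟨q, hq⟩)

end Groth.Agent.H8.SF
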