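import Mathlib
import Groth.Agent.Lib.Helper8.SchFin.PiPi
import Groth.Agent.Lib.Helper8.SchFin.PiDescent

/-!
# Étale descent along a jointly faithfully flat finite family (helper8)
-/

set_option autoImplicit false

open TensorProduct

universe u

namespace Groth.Agent.H8.SF

section

variable {ι : Type u} [Finite ι] (S : ι → Type u) [∀ q, CommRing (S q)]

theorem projAlg_etale (q : ι) : letI := projAlg S q; Algebra.Etale (∀ q, S q) (S q) := by
  classical
  letI := projAlg S q
  haveI : IsLocalization.Away (Pi.single q (1 : S q) : ∀ q, S q) (S q) := by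
    refine IsLocalization.away_of_isIdempotentElem_of_mul ?_ (fun x y => ?_)
      (projAlg_surjective S q)
    · show Pi.single q (1 : S q) * Pi.single q (1 : S q) = Pi.single q (1 : S q)
      rw [← Pi.single_mul, mul_one]
    · show x q = y q ↔ _
      constructor
      · intro h
        funext j
        by_cases hj : j = q
        · subst hj
          show Pi.single j (1 : S j) j * x j = Pi.single j (1 : S j) j * y j
          rw [h]
        · show Pi.single q (1 : S q) j * x j = Pi.single q (1 : S q) j * y j
          rw [Pi.single_eq_of_ne hj, zero_mul, zero_mul]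
      · intro h
        have := congrFun h q
        simp only [Pi.mul_apply, Pi.single_eq_same, one_mul] at this
        exact this
  exact Algebra.Etale.of_isLocalizationAway (Pi.single q (1 : S q) : ∀ q, S q)

variable (A : ι → Type u) [∀ q, CommRing (A q)] [∀ q, Algebra (S q) (A q)]

/-- an algebra over a factor as an algebra over the product ring -/
@[reducible] def projAlg' (q : ι) : Algebra (∀ q, S q) (A q) :=
  ((algebraMap (S q) (A q)).comp (Pi.evalRingHom S q)).toAlgebra

theorem etale_piPi (h : ∀ q, Algebra.Etale (S q) (A q)) :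
    @Algebra.Etale (∀ q, S q) (∀ q, A q) _ _ (@Pi.algebra ι (∀ q, S q) A _ _ (projAlg' S A)) := by
  letI : ∀ q, Algebra (∀ q, S q) (A q) := projAlg' S A
  haveI : ∀ q, Algebra.Etale (∀ q, S q) (A q) := fun q => by
    letI := projAlg S q
    haveI : IsScalarTower (∀ q, S q) (S q) (A q) := IsScalarTower.of_algebraMap_eq fun _ => rfl
    haveI := projAlg_etale S q
    haveI := h q
    exact Algebra.Etale.comp (∀ q, S q) (S q) (A q)
  infer_instance

/-- the product of algebras over the factors as an algebra over the product ring, with the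
componentwise scalar multiplication -/
@[reducible] def piPiAlg : Algebra (∀ q, S q) (∀ q, A q) :=
  Algebra.ofModule
    (fun p a b => funext fun q => smul_mul_assoc (p q) (a q) (b q))
    (fun p a b => funext fun q => mul_smul_comm (p q) (a q) (b q))

theorem piPiAlg_eq : @Pi.algebra ι (∀ q, S q) A _ _ (projAlg' S A) = piPiAlg S A := by
  apply Algebra.algebra_ext
  intro p
  funext q
  show algebraMap (S q) (A q) (p q) = p q • (1 : A q)
  rw [Algebra.algebraMap_eq_smul_one]

theorem etale_piPiAlg (h : ∀ q, Algebra.Etale (S q) (A q)) :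
    @Algebra.Etale (∀ q, S q) (∀ q, A q) _ _ (piPiAlg S A) := by
  rw [← piPiAlg_eq]
  exact etale_piPi S A h

end

section Descent

variable {ι : Type u} [Finite ι] {R B : Type u} [CommRing R] [CommRing B] [Algebra R B]
  (S : ι → Type u) [∀ q, CommRing (S q)] [∀ q, Algebra R (S q)]
  (A : ι → Type u) [∀ q, CommRing (A q)] [∀ q, Algebra (S q) (A q)] [∀ q, Algebra R (A q)]
  [∀ q, IsScalarTower R (S q) (A q)]

theorem etale_of_pi_family [Module.FaithfullyFlat R (∀ q, S q)]
    (ev' : ∀ q, B →ₐ[R] A q)
    (hbc : IsBaseChange (∀ q, S q) (LinearMap.pi fun q => (ev' q).toLinearMap))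
    (h : ∀ q, Algebra.Etale (S q) (A q)) : Algebra.Etale R B := by
  letI alg₂ : Algebra (∀ q, S q) (∀ q, A q) := piPiAlg S A
  haveI hEt : Algebra.Etale (∀ q, S q) (∀ q, A q) := etale_piPiAlg S A h
  let Ψ : (∀ q, S q) ⊗[R] B →ₐ[∀ q, S q] (∀ q, A q) :=
    Algebra.TensorProduct.lift (Algebra.ofId (∀ q, S q) (∀ q, A q)) (AlgHom.pi ev')
      (fun _ _ => Commute.all _ _)
  have hΨ : ∀ z, Ψ z = hbc.equiv z := by
    intro z
    induction z using TensorProduct.induction_on with
    | zero => simp only [map_zero]
    | tmul p b =>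
        rw [IsBaseChange.equiv_tmul]
        show Algebra.TensorProduct.lift (Algebra.ofId (∀ q, S q) (∀ q, A q)) (AlgHom.pi ev')
          (fun _ _ => Commute.all _ _) (p ⊗ₜ b) = _
        rw [Algebra.TensorProduct.lift_tmul]
        funext q
        show (p q • (1 : A q)) * ev' q b = p q • ev' q b
        rw [smul_mul_assoc, one_mul]
    | add y y' hy hy' => simp only [map_add, hy, hy']
  have hbij : Function.Bijective Ψ := by
    have : (Ψ : (∀ q, S q) ⊗[R] B → (∀ q, A q)) = hbc.equiv := funext hΨ
    rw [this]
    exact hbc.equiv.bijective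
  haveI : Algebra.Etale (∀ q, S q) ((∀ q, S q) ⊗[R] B) :=
    Algebra.Etale.of_equiv (AlgEquiv.ofBijective Ψ hbij).symm
  exact Algebra.Etale.of_etale_tensorProduct_of_faithfullyFlat (∀ q, S q)

end Descent

end Groth.Agent.H8.SF
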