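import Mathlib
import Groth.Prelude.Def_SchFin
import Groth.Prelude.Def_SchFin2
import Groth.Agent.Lib.Helper8.SchFin.AffEtale
import Groth.Agent.Lib.Helper8.SchFin.AffAlg

/-!
# Étale criterion for sections of a quasi-coherent algebra over an affine subset (helper8)
-/

set_option autoImplicit false

open TensorProduct

universe u

namespace Groth.Agent.H8.SF

open SchFin

/-- base change of an étale algebra, in `IsBaseChange` form -/
theorem etale_of_isBaseChange_algHom {R B S A : Type u} [CommRing R] [CommRing B] [CommRing S]
    [CommRing A] [Algebra R B] [Algebra R S] [Algebra S A] [Algebra R A] [IsScalarTower R S A]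
    (ev' : B →ₐ[R] A) (hbc : IsBaseChange S ev'.toLinearMap) [Algebra.Etale R B] :
    Algebra.Etale S A := by
  let Ψ : S ⊗[R] B →ₐ[S] A :=
    Algebra.TensorProduct.lift (Algebra.ofId S A) ev' (fun _ _ => Commute.all _ _)
  have hΨ : ∀ z, Ψ z = hbc.equiv z := by
    intro z
    induction z using TensorProduct.induction_on with
    | zero => simp only [map_zero]
    | tmul s b =>
        rw [IsBaseChange.equiv_tmul]
        show Algebra.TensorProduct.lift (Algebra.ofId S A) ev' (fun _ _ => Commute.all _ _)
          (s ⊗ₜ b) = _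
        rw [Algebra.TensorProduct.lift_tmul]
        show algebraMap S A s * ev' b = s • ev' b
        rw [Algebra.smul_def]
    | add y y' hy hy' => simp only [map_add, hy, hy']
  have hbij : Function.Bijective Ψ := by
    have : (Ψ : S ⊗[R] B → A) = hbc.equiv := funext hΨ
    rw [this]
    exact hbc.equiv.bijective
  exact Algebra.Etale.of_equiv (AlgEquiv.ofBijective Ψ hbij)

variable {X : RSpace.{u}} {A : Alg X} {U : Set X.pt}

theorem etale_sectMap_iff (hA : A.IsQcoh) (hUa : (X.restrict U).IsAffine)
    (hφ : Module.FaithfullyFlat (X.sectRing U) ((q : ↥U) → X.ring q.1)) :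
    (∀ q : X.pt, q ∈ U → Algebra.Etale (X.ring q) (A.carrier q)) ↔ (A.sectMap U).Etale := by
  letI algB : Algebra (X.sectRing U) (A.total.sectRing U) := (A.sectMap U).toAlgebra
  letI algS : ∀ q : U, Algebra (X.sectRing U) (X.ring q.1) := fun q =>
    (X.evalRing U q).toAlgebra
  letI algA : ∀ q : U, Algebra (X.sectRing U) (A.carrier q.1) := fun q =>
    Algebra.compHom (A.carrier q.1) (X.evalRing U q)
  haveI tower : ∀ q : U, IsScalarTower (X.sectRing U) (X.ring q.1) (A.carrier q.1) := fun q =>
    ⟨fun r s a => mul_smul (X.evalRing U q r) s a⟩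
  let ev' : ∀ q : U, A.total.sectRing U →ₐ[X.sectRing U] A.carrier q.1 := fun q =>
    { toRingHom := A.total.evalRing U q
      commutes' := fun r => rfl }
  -- the base change property of each evaluation
  have hq : ∀ q : U, IsBaseChange (X.ring q.1) (ev' q).toLinearMap := by
    intro q
    have h0 : IsBCAlong (X.evalRing U q) (A.toMod.evalMod U q) := counit_sub U hUa A.toMod hA q
    have h1 : IsBaseChange (X.ring q.1)
        ({ toFun := A.toMod.evalMod U q, map_add' := (A.toMod.evalMod U q).map_add,
           map_smul' := (A.toMod.evalMod U q).map_smulₛₗ } :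
          A.toMod.sect U →ₗ[X.sectRing U] A.carrier q.1) := h0
    have h2 := IsBaseChange.comp_equiv (sectEquiv A U).symm _ h1
    exact h2
  constructor
  · intro h
    haveI : Module.FaithfullyFlat (X.sectRing U) ((q : U) → X.ring q.1) := hφ
    have hbc : IsBaseChange ((q : U) → X.ring q.1)
        (LinearMap.pi fun q : U => (ev' q).toLinearMap) :=
      isBaseChange_pi_family (fun q : U => X.ring q.1) (fun q : U => A.carrier q.1) _ hq
    exact etale_of_pi_family (fun q : U => X.ring q.1) (fun q : U => A.carrier q.1) ev' hbc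
      fun q => h q.1 q.2
  · intro h q hq'
    haveI : Algebra.Etale (X.sectRing U) (A.total.sectRing U) := h
    have := etale_of_isBaseChange_algHom (ev' ⟨q, hq'⟩) (hq ⟨q, hq'⟩)
    exact this

end Groth.Agent.H8.SF
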