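import Mathlib

/-!
# Left exact sequences and flat base change; invariants of a finite family of endomorphisms (helper8)
-/

set_option autoImplicit false

open TensorProduct

namespace Groth.Agent.H8.SF

section

variable {R S : Type*} [CommRing R] [CommRing S] [Algebra R S] [Module.Flat R S]
  {K M M' K' N N' : Type*}
  [AddCommGroup K] [AddCommGroup M] [AddCommGroup M'] [AddCommGroup K'] [AddCommGroup N]
  [AddCommGroup N']
  [Module R K] [Module R M] [Module R M'] [Module S K'] [Module S N] [Module S N']
  [Module R K'] [Module R N] [Module R N']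
  [IsScalarTower R S K'] [IsScalarTower R S N] [IsScalarTower R S N']

/-- Flat base change preserves kernels: if `0 → K → M → M'` and `0 → K' → N → N'` are exact, and
`M → N`, `M' → N'` are base changes along a flat `R → S` compatible with the maps, then the
induced map `K → K'` is a base change. -/
theorem isBaseChange_of_exact
    (ι : K →ₗ[R] M) (φ : M →ₗ[R] M') (ι' : K' →ₗ[S] N) (φ' : N →ₗ[S] N')
    (hι : Function.Injective ι) (hex : Function.Exact ι φ)
    (hι' : Function.Injective ι') (hex' : Function.Exact ι' φ')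
    (fK : K →ₗ[R] K') (fM : M →ₗ[R] N) (fM' : M' →ₗ[R] N')
    (hM : IsBaseChange S fM) (hM' : IsBaseChange S fM')
    (h1 : ∀ k, ι' (fK k) = fM (ι k)) (h2 : ∀ m, φ' (fM m) = fM' (φ m)) :
    IsBaseChange S fK := by
  -- the comparison map
  let e₀ : S ⊗[R] K →ₗ[S] K' := fK.liftBaseChange S
  have he₀ : ∀ (s : S) (k : K), e₀ (s ⊗ₜ k) = s • fK k := fun s k => by
    simp [e₀]
  -- the square with `ι`
  have hsq1 : ∀ z : S ⊗[R] K, ι' (e₀ z) = hM.equiv (LinearMap.lTensor S ι z) := by
    intro z
    induction z using TensorProduct.induction_on with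
    | zero => simp only [map_zero]
    | tmul s k =>
        rw [he₀, LinearMap.lTensor_tmul, IsBaseChange.equiv_tmul, map_smul, h1]
    | add y y' hy hy' => simp only [map_add, hy, hy']
  have hsq2 : ∀ y : S ⊗[R] M, φ' (hM.equiv y) = hM'.equiv (LinearMap.lTensor S φ y) := by
    intro y
    induction y using TensorProduct.induction_on with
    | zero => simp only [map_zero]
    | tmul s m =>
        rw [LinearMap.lTensor_tmul, IsBaseChange.equiv_tmul, IsBaseChange.equiv_tmul, map_smul,
          h2]
    | add y y' hy hy' => simp only [map_add, hy, hy']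
  have hinj : Function.Injective e₀ := by
    intro z z' hzz
    have h := congrArg ι' hzz
    rw [hsq1, hsq1] at h
    exact Module.Flat.lTensor_preserves_injective_linearMap ι hι (hM.equiv.injective h)
  have hexT : Function.Exact (LinearMap.lTensor S ι) (LinearMap.lTensor S φ) :=
    Module.Flat.lTensor_exact S hex
  have hsurj : Function.Surjective e₀ := by
    intro k'
    have hk' : φ' (ι' k') = 0 := (hex' _).2 ⟨k', rfl⟩
    have hy0 : LinearMap.lTensor S φ (hM.equiv.symm (ι' k')) = 0 := by
      apply hM'.equiv.injective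
      rw [← hsq2, LinearEquiv.apply_symm_apply, map_zero]
      exact hk'
    obtain ⟨z, hz⟩ := (hexT _).1 hy0
    refine ⟨z, hι' ?_⟩
    rw [hsq1, hz, LinearEquiv.apply_symm_apply]
  refine IsBaseChange.of_equiv (LinearEquiv.ofBijective e₀ ⟨hinj, hsurj⟩) fun k => ?_
  show e₀ (1 ⊗ₜ k) = fK k
  rw [he₀, one_smul]

/-- Flat base change commutes with the invariants of a finite family of endomorphisms. -/
theorem isBaseChange_fixed {G : Type*} [Finite G]
    (σ : G → (M →ₗ[R] M)) (τ : G → (N →ₗ[S] N))
    (ι : K →ₗ[R] M) (ι' : K' →ₗ[S] N)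
    (hι : Function.Injective ι) (hι' : Function.Injective ι')
    (hK : ∀ m, m ∈ Set.range ι ↔ ∀ g, σ g m = m)
    (hK' : ∀ n, n ∈ Set.range ι' ↔ ∀ g, τ g n = n)
    (fK : K →ₗ[R] K') (fM : M →ₗ[R] N) (hM : IsBaseChange S fM)
    (h1 : ∀ k, ι' (fK k) = fM (ι k)) (hστ : ∀ g m, τ g (fM m) = fM (σ g m)) :
    IsBaseChange S fK := by
  let φ : M →ₗ[R] (G → M) := LinearMap.pi fun g => σ g - LinearMap.id
  let φ' : N →ₗ[S] (G → N) := LinearMap.pi fun g => τ g - LinearMap.id
  have hφ : ∀ m g, φ m g = σ g m - m := fun m g => rfl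
  have hφ' : ∀ n g, φ' n g = τ g n - n := fun n g => rfl
  refine isBaseChange_of_exact ι φ ι' φ' hι ?_ hι' ?_ fK fM (fM.compLeft G) hM
    (IsBaseChange.finitePow G hM) h1 ?_
  · intro m
    rw [hK m]
    constructor
    · intro h g
      have := congrFun h g
      rw [hφ, Pi.zero_apply, sub_eq_zero] at this
      exact this
    · intro h
      funext g
      rw [hφ, Pi.zero_apply, sub_eq_zero]
      exact h g
  · intro n
    rw [hK' n]
    constructor
    · intro h g
      have := congrFun h g
      rw [hφ', Pi.zero_apply, sub_eq_zero] at this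
      exact this
    · intro h
      funext g
      rw [hφ', Pi.zero_apply, sub_eq_zero]
      exact h g
  · intro m
    funext g
    rw [hφ', hστ]
    show fM (σ g m) - fM m = fM (φ m g)
    rw [hφ, map_sub]

end

end Groth.Agent.H8.SF
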