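import Mathlib

/-!
# Nonzero finite flat algebras over connected Noetherian rings are faithfully flat (helper8)
-/

namespace Groth.Agent.H8.SF

/-- A nonzero finite flat algebra over a Noetherian ring with connected spectrum is faithfully
flat. -/
theorem faithfullyFlat_of_connected (R S : Type*) [CommRing R] [CommRing S] [Algebra R S]
    [IsNoetherianRing R] [ConnectedSpace (PrimeSpectrum R)] [Module.Finite R S] [Module.Flat R S]
    [Nontrivial S] : Module.FaithfullyFlat R S := by
  apply Module.FaithfullyFlat.of_comap_surjective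
  rw [← PrimeSpectrum.rankAtStalk_pos_iff_comap_surjective]
  haveI : Module.FinitePresentation R S := Module.finitePresentation_of_finite R S
  have hlc : IsLocallyConstant (Module.rankAtStalk (R := R) S) :=
    Module.isLocallyConstant_rankAtStalk
  obtain ⟨q⟩ : Nonempty (PrimeSpectrum S) := inferInstance
  have hq : 0 < Module.rankAtStalk (R := R) S (PrimeSpectrum.comap (algebraMap R S) q) :=
    (PrimeSpectrum.rankAtStalk_pos_iff_mem_range_comap _).mpr ⟨q, rfl⟩
  intro p
  rw [hlc.apply_eq_of_preconnectedSpace p (PrimeSpectrum.comap (algebraMap R S) q)]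
  exact hq

/-- The quotient of a finite flat algebra by an idempotent is finite and, when nonzero and the base
is connected, faithfully flat. -/
theorem faithfullyFlat_quot_idem {R T : Type*} [CommRing R] [CommRing T] [Algebra R T]
    [IsNoetherianRing R] [ConnectedSpace (PrimeSpectrum R)] [Module.Finite R T] [Module.Flat R T]
    (e : T) (he : IsIdempotentElem e) [Nontrivial (T ⧸ Ideal.span {1 - e})] :
    Module.Finite R (T ⧸ Ideal.span {1 - e}) ∧
      Module.FaithfullyFlat R (T ⧸ Ideal.span {1 - e}) := by
  have hfin : Module.Finite R (T ⧸ Ideal.span {1 - e}) :=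
    Module.Finite.of_surjective (Ideal.Quotient.mkₐ R (Ideal.span {1 - e})).toLinearMap
      (Ideal.Quotient.mkₐ_surjective R _)
  haveI : Module.Flat T (T ⧸ Ideal.span {1 - e}) := by
    apply Ideal.Pure.of_isIdempotentElem
    · exact ⟨{1 - e}, by simp⟩
    · rw [Ideal.isIdempotentElem_iff_of_fg _ ⟨{1 - e}, by simp⟩]
      exact ⟨1 - e, he.one_sub, rfl⟩
  haveI : Module.Flat R (T ⧸ Ideal.span {1 - e}) := Module.Flat.trans R T _
  exact ⟨hfin, faithfullyFlat_of_connected R _⟩

end Groth.Agent.H8.SF
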