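import Mathlib

/-!
# Invariants of a family of endomorphisms of a split algebra over a connected ring (helper8)
-/

set_option autoImplicit false

namespace Groth.Agent.H8.SF

/-- The subalgebra of elements fixed by every member of a family of algebra endomorphisms. -/
def invSub {R A : Type*} [CommSemiring R] [Semiring A] [Algebra R A] {G : Type*}
    (σ : G → (A →ₐ[R] A)) : Subalgebra R A where
  carrier := {x | ∀ g, σ g x = x}
  mul_mem' := fun {a b} ha hb g => by rw [map_mul, ha g, hb g]
  add_mem' := fun {a b} ha hb g => by rw [map_add, ha g, hb g]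
  algebraMap_mem' := fun r g => (σ g).commutes r

theorem mem_invSub {R A : Type*} [CommSemiring R] [Semiring A] [Algebra R A] {G : Type*}
    (σ : G → (A →ₐ[R] A)) (x : A) : x ∈ invSub σ ↔ ∀ g, σ g x = x := Iff.rfl

/-- (helper6's lemma, restated) idempotents of a ring with connected spectrum are trivial. -/
theorem idem_eq_zero_or_one' {R : Type*} [CommRing R] [ConnectedSpace (PrimeSpectrum R)]
    (e : R) (he : IsIdempotentElem e) : e = 0 ∨ e = 1 := by
  have hcl : IsClopen (PrimeSpectrum.basicOpen e : Set (PrimeSpectrum R)) :=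
    PrimeSpectrum.isClopen_iff.mpr ⟨e, he, rfl⟩
  rcases isClopen_iff.mp hcl with h | h
  · left
    apply PrimeSpectrum.basicOpen_injOn_isIdempotentElem he IsIdempotentElem.zero
    apply TopologicalSpace.Opens.ext
    rw [h]; simp
  · right
    apply PrimeSpectrum.basicOpen_injOn_isIdempotentElem he IsIdempotentElem.one
    apply TopologicalSpace.Opens.ext
    rw [h]; simp

/-- (helper6's lemma, restated) An algebra map `R^F → R` over a ring with connected spectrum is
evaluation at an index. -/
theorem exists_index_eval {R : Type*} [CommRing R] [ConnectedSpace (PrimeSpectrum R)]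
    {F : Type*} [Finite F] (χ : (F → R) →ₐ[R] R) : ∃ i : F, ∀ g : F → R, χ g = g i := by
  classical
  cases nonempty_fintype F
  haveI : Nontrivial R := by
    have : Nonempty (PrimeSpectrum R) := inferInstance
    exact (PrimeSpectrum.nonempty_iff_nontrivial.mp this)
  have hid : ∀ i, IsIdempotentElem (χ (Pi.single i 1)) := by
    intro i
    rw [IsIdempotentElem, ← map_mul, ← Pi.single_mul, mul_one]
  have horth : ∀ i j, i ≠ j → χ (Pi.single i 1) * χ (Pi.single j 1) = 0 := by
    intro i j hij
    rw [← map_mul]
    have : (Pi.single i (1 : R) : F → R) * Pi.single j 1 = 0 := by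
      funext l
      by_cases hl : l = i
      · subst hl; simp [Pi.single_eq_of_ne hij]
      · simp [Pi.single_eq_of_ne hl]
    rw [this, map_zero]
  have hsum : ∑ i, χ (Pi.single i 1) = 1 := by
    rw [← map_sum, Finset.univ_sum_single]
    exact map_one χ
  have hex : ∃ i, χ (Pi.single i 1) = 1 := by
    by_contra hne
    push Not at hne
    have : ∀ i, χ (Pi.single i 1) = 0 := fun i =>
      (idem_eq_zero_or_one' _ (hid i)).resolve_right (hne i)
    rw [Finset.sum_eq_zero (fun i _ => this i)] at hsum
    exact zero_ne_one hsum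
  obtain ⟨i, hi⟩ := hex
  have hz : ∀ j, j ≠ i → χ (Pi.single j 1) = 0 := by
    intro j hj
    have := horth j i hj
    rwa [hi, mul_one] at this
  refine ⟨i, fun g => ?_⟩
  have hg : g = ∑ l, g l • (Pi.single l (1 : R) : F → R) := by
    funext l
    simp [Finset.sum_apply, Pi.single_apply]
  conv_lhs => rw [hg]
  rw [map_sum]
  simp only [map_smul, smul_eq_mul]
  rw [Finset.sum_eq_single i (fun j _ hj => by rw [hz j hj, mul_zero])
    (fun h => absurd (Finset.mem_univ i) h), hi, mul_one]

/-- An algebra map between split algebras over a connected ring is induced by a map of index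
sets. -/
theorem exists_index_map {R : Type*} [CommRing R] [ConnectedSpace (PrimeSpectrum R)]
    {F F' : Type*} [Finite F] (ψ : (F → R) →ₐ[R] (F' → R)) :
    ∃ τ : F' → F, ∀ (x : F → R) (k : F'), ψ x k = x (τ k) := by
  have h : ∀ k : F', ∃ i : F, ∀ x : F → R, ψ x k = x i := fun k =>
    exists_index_eval ((Pi.evalAlgHom R (fun _ : F' => R) k).comp ψ)
  choose τ hτ using h
  exact ⟨τ, fun x k => hτ k x⟩

/-- The invariants of a family of endomorphisms of a split algebra over a connected ring form a
split algebra. -/
theorem isFiniteSplit_invSub {T E : Type*} [CommRing T] [CommRing E] [Algebra T E]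
    [ConnectedSpace (PrimeSpectrum T)] {n : ℕ} (φ : E ≃ₐ[T] (Fin n → T))
    {G : Type*} (σ : G → (E →ₐ[T] E)) : Algebra.IsFiniteSplit T (invSub σ) := by
  -- transport the endomorphisms
  have h : ∀ g : G, ∃ τ : Fin n → Fin n, ∀ (x : Fin n → T) (k : Fin n),
      φ (σ g (φ.symm x)) k = x (τ k) := fun g =>
    exists_index_map ((φ.toAlgHom.comp (σ g)).comp φ.symm.toAlgHom)
  choose τ hτ using h
  let r : Fin n → Fin n → Prop := fun i j => ∃ g, τ g i = j
  -- the comparison map
  let pre : (Quot r → T) →ₐ[T] (Fin n → T) :=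
    AlgHom.pi fun i => Pi.evalAlgHom T (fun _ : Quot r => T) (Quot.mk r i)
  have hpre : ∀ (x : Quot r → T) (i : Fin n), pre x i = x (Quot.mk r i) := fun x i => rfl
  have hmem : ∀ x : Quot r → T, φ.symm (pre x) ∈ invSub σ := by
    intro x g
    apply φ.injective
    rw [AlgEquiv.apply_symm_apply]
    funext k
    rw [hτ g (pre x) k, hpre, hpre]
    exact congrArg x (Quot.sound ⟨g, rfl⟩).symm
  let Θ : (Quot r → T) →ₐ[T] invSub σ :=
    AlgHom.codRestrict (φ.symm.toAlgHom.comp pre) (invSub σ) hmem
  have hΘ : ∀ x, ((Θ x : invSub σ) : E) = φ.symm (pre x) := fun x => rfl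
  have hinj : Function.Injective Θ := by
    intro x y hxy
    have h1 : φ.symm (pre x) = φ.symm (pre y) := by rw [← hΘ, ← hΘ, hxy]
    have h2 : pre x = pre y := φ.symm.injective h1
    funext q
    obtain ⟨i, rfl⟩ := Quot.exists_rep q
    have := congrFun h2 i
    rwa [hpre, hpre] at this
  have hsurj : Function.Surjective Θ := by
    rintro ⟨y, hy⟩
    have hz : ∀ i j, r i j → φ y i = φ y j := by
      rintro i j ⟨g, rfl⟩
      have := hτ g (φ y) i
      rw [AlgEquiv.symm_apply_apply, hy g] at this
      exact this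
    refine ⟨Quot.lift (φ y) hz, Subtype.ext ?_⟩
    rw [hΘ]
    apply φ.injective
    rw [AlgEquiv.apply_symm_apply]
    funext i
    rw [hpre]
  exact Algebra.IsFiniteSplit.of_algEquiv (AlgEquiv.ofBijective Θ ⟨hinj, hsurj⟩)

end Groth.Agent.H8.SF
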