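import Mathlib
import Groth.Agent.Lib.Helper8.SchFin.Conn
import Groth.Agent.Lib.Helper8.SchFin.ConnFF
import Groth.Agent.Lib.Helper8.SchFin.ExactBC
import Groth.Agent.Lib.Helper8.SchFin.Perm

/-!
# Invariants of a finite family of endomorphisms of a locally split algebra are étale (helper8)
-/

set_option autoImplicit false

open TensorProduct

universe u v

namespace Groth.Agent.H8.SF

/-- A split cover over a Noetherian connected base can be refined to a connected faithfully flat
one. -/
theorem exists_connected_split {R A : Type u} [CommRing R] [CommRing A] [Algebra R A]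
    [IsNoetherianRing R] [ConnectedSpace (PrimeSpectrum R)]
    (T : Type u) [CommRing T] [Algebra R T] [Module.Finite R T] [Module.FaithfullyFlat R T]
    {n : ℕ} (e : T ⊗[R] A ≃ₐ[T] (Fin n → T)) :
    ∃ (T' : Type u) (_ : CommRing T') (_ : Algebra R T'), Module.Finite R T' ∧
      Module.FaithfullyFlat R T' ∧ ConnectedSpace (PrimeSpectrum T') ∧
      Nonempty (T' ⊗[R] A ≃ₐ[T'] (Fin n → T')) := by
  haveI : IsNoetherianRing T := IsNoetherianRing.of_finite R T
  haveI : Nontrivial R := by
    have : Nonempty (PrimeSpectrum R) := inferInstance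
    exact PrimeSpectrum.nonempty_iff_nontrivial.mp this
  haveI : Nontrivial T :=
    (FaithfulSMul.algebraMap_injective R T).nontrivial
  obtain ⟨e₀, he₀, he₀0, hconn⟩ := exists_connected_quot T
  haveI : Nontrivial (T ⧸ Ideal.span {1 - e₀}) := by
    have : Nonempty (PrimeSpectrum (T ⧸ Ideal.span {1 - e₀})) := inferInstance
    exact PrimeSpectrum.nonempty_iff_nontrivial.mp this
  obtain ⟨hfin, hff⟩ := faithfullyFlat_quot_idem (R := R) e₀ he₀
  refine ⟨T ⧸ Ideal.span {1 - e₀}, inferInstance, inferInstance, hfin, hff, hconn, ⟨?_⟩⟩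
  exact (Algebra.TensorProduct.cancelBaseChange R T (T ⧸ Ideal.span {1 - e₀})
      (T ⧸ Ideal.span {1 - e₀}) A).symm.trans <|
    (Algebra.TensorProduct.congr AlgEquiv.refl e).trans <|
    (Algebra.TensorProduct.piRight T (T ⧸ Ideal.span {1 - e₀}) (T ⧸ Ideal.span {1 - e₀})
      (fun _ : Fin n => T)).trans <|
    AlgEquiv.piCongrRight fun _ => Algebra.TensorProduct.rid T (T ⧸ Ideal.span {1 - e₀})
      (T ⧸ Ideal.span {1 - e₀})

/-- Over a connected faithfully flat splitting cover, the invariants are étale. -/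
theorem etale_invSub_of_connected_split {R A : Type u} [CommRing R] [CommRing A] [Algebra R A]
    (T : Type u) [CommRing T] [Algebra R T] [Module.FaithfullyFlat R T]
    [ConnectedSpace (PrimeSpectrum T)]
    {n : ℕ} (e : T ⊗[R] A ≃ₐ[T] (Fin n → T))
    {G : Type v} [Finite G] (σ : G → (A →ₐ[R] A)) : Algebra.Etale R (invSub σ) := by
  let σ' : G → (T ⊗[R] A →ₐ[T] T ⊗[R] A) := fun g =>
    Algebra.TensorProduct.map (AlgHom.id T T) (σ g)
  have hσ' : ∀ g (s : T) (a : A), σ' g (s ⊗ₜ a) = s ⊗ₜ σ g a := fun g s a => rfl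
  haveI : Algebra.IsFiniteSplit T (invSub σ') := isFiniteSplit_invSub e σ'
  -- the restricted map
  have hmem1 : ∀ a : invSub σ, (1 : T) ⊗ₜ[R] (a : A) ∈ invSub σ' := fun a g => by
    rw [hσ', a.2 g]
  let fK : invSub σ →ₗ[R] invSub σ' :=
    { toFun := fun a => ⟨(1 : T) ⊗ₜ[R] (a : A), hmem1 a⟩
      map_add' := fun a b => Subtype.ext (TensorProduct.tmul_add _ _ _)
      map_smul' := fun r a => Subtype.ext (TensorProduct.tmul_smul _ _ _) }
  have hfK : ∀ a : invSub σ, ((fK a : invSub σ') : T ⊗[R] A) = (1 : T) ⊗ₜ[R] (a : A) :=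
    fun a => rfl
  have hBC : IsBaseChange T fK := by
    refine isBaseChange_fixed (fun g => (σ g).toLinearMap) (fun g => (σ' g).toLinearMap)
      (invSub σ).val.toLinearMap (invSub σ').val.toLinearMap
      Subtype.val_injective Subtype.val_injective ?_ ?_ fK (TensorProduct.mk R T A 1)
      (TensorProduct.isBaseChange R A T) (fun a => rfl) (fun g a => ?_)
    · intro m
      constructor
      · rintro ⟨a, rfl⟩ g
        exact a.2 g
      · intro h
        exact ⟨⟨m, h⟩, rfl⟩
    · intro m
      constructor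
      · rintro ⟨a, rfl⟩ g
        exact a.2 g
      · intro h
        exact ⟨⟨m, h⟩, rfl⟩
    · exact hσ' g 1 a
  -- the algebra comparison map
  let Ψ₀ : T ⊗[R] invSub σ →ₐ[T] T ⊗[R] A :=
    Algebra.TensorProduct.map (AlgHom.id T T) (invSub σ).val
  have hΨ₀ : ∀ z, Ψ₀ z = ((hBC.equiv z : invSub σ') : T ⊗[R] A) := by
    intro z
    induction z using TensorProduct.induction_on with
    | zero => simp only [map_zero]; rfl
    | tmul s a =>
        rw [IsBaseChange.equiv_tmul]
        show s ⊗ₜ[R] (a : A) = ((s • fK a : invSub σ') : T ⊗[R] A)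
        rw [Subalgebra.coe_smul, hfK, TensorProduct.smul_tmul', smul_eq_mul, mul_one]
    | add y y' hy hy' =>
        rw [map_add, map_add, hy, hy']; rfl
  let Ψ : T ⊗[R] invSub σ →ₐ[T] invSub σ' :=
    AlgHom.codRestrict Ψ₀ (invSub σ') fun z => by rw [hΨ₀]; exact (hBC.equiv z).2
  have hΨ : ∀ z, Ψ z = hBC.equiv z := fun z => Subtype.ext (hΨ₀ z)
  have hbij : Function.Bijective Ψ := by
    have : (Ψ : T ⊗[R] invSub σ → invSub σ') = hBC.equiv := funext hΨ
    rw [this]
    exact hBC.equiv.bijective
  haveI : Algebra.Etale T (T ⊗[R] invSub σ) :=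
    Algebra.Etale.of_equiv (AlgEquiv.ofBijective Ψ hbij).symm
  exact Algebra.Etale.of_etale_tensorProduct_of_faithfullyFlat T

/-- The invariants of a finite family of endomorphisms of an algebra over a Noetherian connected
ring that is split by a finite faithfully flat cover are étale. -/
theorem etale_invSub {R A : Type u} [CommRing R] [CommRing A] [Algebra R A]
    [IsNoetherianRing R] [ConnectedSpace (PrimeSpectrum R)]
    (T : Type u) [CommRing T] [Algebra R T] [Module.Finite R T] [Module.FaithfullyFlat R T]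
    {n : ℕ} (e : T ⊗[R] A ≃ₐ[T] (Fin n → T))
    {G : Type v} [Finite G] (σ : G → (A →ₐ[R] A)) : Algebra.Etale R (invSub σ) := by
  obtain ⟨T', _, _, _, _, _, ⟨e'⟩⟩ := exists_connected_split T e
  exact etale_invSub_of_connected_split T' e' σ

end Groth.Agent.H8.SF
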