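import Mathlib
import Groth.Prelude.Def_SchFin
import Groth.Prelude.Def_SchFin2
import Groth.Agent.Lib.Helper8.SchFin.BC
import Groth.Agent.Lib.Helper8.SchFin.ExactBC
import Groth.Agent.Lib.Helper8.SchFin.Perm
import Groth.Agent.Lib.Helper8.SchFin.InvEtale

/-!
# Invariants of a finite family of endomorphisms of an étale cover (helper8)
-/

set_option autoImplicit false

open TensorProduct CategoryTheory CategoryTheory.Limits

universe u v

namespace Groth.Agent.H8.SF

open SchFin

section BC

variable {R S : Type u} [CommRing R] [CommRing S] {g : R →+* S}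
  {K M K' N : Type u} [AddCommGroup K] [AddCommGroup M] [AddCommGroup K'] [AddCommGroup N]
  [Module R K] [Module R M] [Module S K'] [Module S N]

/-- Flat base change commutes with invariants (in `IsBCAlong` form). -/
theorem isBCAlong_fixed (hg : g.Flat) {fM : M →ₛₗ[g] N} (hM : IsBCAlong g fM)
    {G : Type v} [Finite G] (σ : G → (M →ₗ[R] M)) (τ : G → (N →ₗ[S] N))
    (ι : K →ₗ[R] M) (ι' : K' →ₗ[S] N)
    (hι : Function.Injective ι) (hι' : Function.Injective ι')
    (hK : ∀ m, m ∈ Set.range ι ↔ ∀ g, σ g m = m)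
    (hK' : ∀ n, n ∈ Set.range ι' ↔ ∀ g, τ g n = n)
    (fK : K →ₛₗ[g] K') (h1 : ∀ k, ι' (fK k) = fM (ι k))
    (hστ : ∀ g m, τ g (fM m) = fM (σ g m)) : IsBCAlong g fK := by
  letI : Algebra R S := g.toAlgebra
  haveI : Module.Flat R S := hg
  letI : Module R N := Module.compHom N g
  haveI : IsScalarTower R S N := IsScalarTower.of_algebraMap_smul fun _ _ => rfl
  letI : Module R K' := Module.compHom K' g
  haveI : IsScalarTower R S K' := IsScalarTower.of_algebraMap_smul fun _ _ => rfl
  have hM₀ : IsBaseChange S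
    ({ toFun := fM, map_add' := fM.map_add, map_smul' := fM.map_smulₛₗ } : M →ₗ[R] N) := hM
  exact isBaseChange_fixed σ τ ι ι' hι hι' hK hK'
    ({ toFun := fK, map_add' := fK.map_add, map_smul' := fK.map_smulₛₗ } : K →ₗ[R] K') _ hM₀
    h1 hστ

end BC

variable {X : RSpace.{u}}

/-- pointwise invariants of a family of endomorphisms of an algebra -/
def algInv (A : Alg X) {G : Type v} (σ : G → (A ⟶ A)) : Alg X where
  carrier p := invSub fun g => (σ g).app p
  res {p q} h :=
    { toFun := fun a => ⟨A.res h a.1, fun g => by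
        show (σ g).app q (A.res h a.1) = A.res h a.1
        rw [← (σ g).compat h, a.2 g]⟩
      map_one' := Subtype.ext (map_one (A.res h))
      map_mul' := fun a b => Subtype.ext (map_mul (A.res h) a.1 b.1)
      map_zero' := Subtype.ext (map_zero (A.res h))
      map_add' := fun a b => Subtype.ext (map_add (A.res h) a.1 b.1) }
  res_algebraMap h a := Subtype.ext (A.res_algebraMap h a)
  res_self p b := Subtype.ext (A.res_self p b.1)
  res_comp h h' b := Subtype.ext (A.res_comp h h' b.1)

/-- the inclusion of the invariants -/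
def algInvι (A : Alg X) {G : Type v} (σ : G → (A ⟶ A)) : algInv A σ ⟶ A :=
  ⟨fun p => (invSub fun g => (σ g).app p).val, fun _ _ => rfl⟩

theorem algInvι_injective (A : Alg X) {G : Type v} (σ : G → (A ⟶ A)) (p : X.pt) :
    Function.Injective ((algInvι A σ).app p) := Subtype.val_injective

theorem algInvι_comp (A : Alg X) {G : Type v} (σ : G → (A ⟶ A)) (g : G) :
    algInvι A σ ≫ σ g = algInvι A σ := by
  apply Alg.hom_ext
  intro p
  apply AlgHom.ext
  intro a
  exact a.2 g

/-- the universal property of the invariants -/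
def algInvLift (A : Alg X) {G : Type v} (σ : G → (A ⟶ A)) {T : Alg X} (f : T ⟶ A)
    (hf : ∀ g, f ≫ σ g = f) : T ⟶ algInv A σ :=
  ⟨fun p => AlgHom.codRestrict (f.app p) (invSub fun g => (σ g).app p) fun t g => by
      have := congrArg (fun k : T ⟶ A => k.app p t) (hf g)
      exact this,
    fun h b => Subtype.ext (f.compat h b)⟩

theorem algInvLift_ι (A : Alg X) {G : Type v} (σ : G → (A ⟶ A)) {T : Alg X} (f : T ⟶ A)
    (hf : ∀ g, f ≫ σ g = f) : algInvLift A σ f hf ≫ algInvι A σ = f := by
  apply Alg.hom_ext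
  intro p
  apply AlgHom.ext
  intro a
  rfl

theorem algInv_isQcoh (hX : X.IsFinSp) {A : Alg X} (hA : A.IsQcoh) {G : Type v} [Finite G]
    (σ : G → (A ⟶ A)) : (algInv A σ).IsQcoh := by
  intro p q h
  refine isBCAlong_fixed (hX.2 p q h) (hA p q h)
    (fun g => ((σ g).app p).toLinearMap) (fun g => ((σ g).app q).toLinearMap)
    (invSub fun g => (σ g).app p).val.toLinearMap (invSub fun g => (σ g).app q).val.toLinearMap
    Subtype.val_injective Subtype.val_injective ?_ ?_ _ (fun k => rfl) (fun g m => ?_)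
  · intro m
    constructor
    · rintro ⟨a, rfl⟩ g
      exact a.2 g
    · intro hm
      exact ⟨⟨m, hm⟩, rfl⟩
  · intro m
    constructor
    · rintro ⟨a, rfl⟩ g
      exact a.2 g
    · intro hm
      exact ⟨⟨m, hm⟩, rfl⟩
  · exact ((σ g).compat h m).symm

theorem algInv_isEtCover (hX : X.IsFinSp) (hpw : X.IsPwConnected) {A : Alg X} (hA : A.IsEtCover)
    (hlt : ∃ (B : Alg X) (n : ℕ), B.IsCovering ∧ ∀ p : X.pt,
      Nonempty (TensorProduct (X.ring p) (B.carrier p) (A.carrier p) ≃ₐ[B.carrier p]
        (Fin n → B.carrier p)))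
    {G : Type v} [Finite G] (σ : G → (A ⟶ A)) : (algInv A σ).IsEtCover := by
  refine ⟨algInv_isQcoh hX hA.1 σ, fun p => ?_⟩
  haveI : IsNoetherianRing (X.ring p) := hX.1 p
  haveI : Module.Finite (X.ring p) (A.carrier p) := (hA.2 p).1
  constructor
  · exact Module.Finite.of_injective (invSub fun g => (σ g).app p).val.toLinearMap
      Subtype.val_injective
  · obtain ⟨B, n, hB, hiso⟩ := hlt
    obtain ⟨e⟩ := hiso p
    haveI : ConnectedSpace (PrimeSpectrum (X.ring p)) := hpw p
    haveI : Module.Finite (X.ring p) (B.carrier p) := (hB.2 p).1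
    haveI : Module.FaithfullyFlat (X.ring p) (B.carrier p) := (hB.2 p).2
    exact etale_invSub (B.carrier p) e fun g => (σ g).app p

end Groth.Agent.H8.SF
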