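import Mathlib

/-! # Étale-ness of binary products and of the zero algebra -/

set_option autoImplicit false

universe u v

namespace Groth.Agent.H8.SF

section

variable (R : Type u) [CommRing R] (A B : Type v) [CommRing A] [CommRing B]
  [Algebra R A] [Algebra R B]

/-- the two-member family -/
def Fam2 : Bool → Type v
  | true => A
  | false => B

instance Fam2.commRing : ∀ b, CommRing (Fam2 A B b)
  | true => inferInstanceAs (CommRing A)
  | false => inferInstanceAs (CommRing B)

instance Fam2.algebra : ∀ b, Algebra R (Fam2 A B b)
  | true => inferInstanceAs (Algebra R A)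
  | false => inferInstanceAs (Algebra R B)

/-- product as Pi over `Bool` -/
def prodEquivFam2 : (A × B) ≃ₐ[R] (∀ b, Fam2 A B b) where
  toFun x b := match b with
    | true => x.1
    | false => x.2
  invFun f := (f true, f false)
  left_inv _ := rfl
  right_inv f := by funext b; cases b <;> rfl
  map_mul' x y := by funext b; cases b <;> rfl
  map_add' x y := by funext b; cases b <;> rfl
  commutes' r := by funext b; cases b <;> rfl

instance etale_prod [Algebra.Etale R A] [Algebra.Etale R B] : Algebra.Etale R (A × B) := by
  haveI : ∀ b, Algebra.Etale R (Fam2 A B b)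
    | true => inferInstanceAs (Algebra.Etale R A)
    | false => inferInstanceAs (Algebra.Etale R B)
  exact Algebra.Etale.of_equiv (prodEquivFam2 R A B).symm

end

/-- the zero algebra is étale -/
theorem etale_of_subsingleton (R : Type u) [CommRing R] (Z : Type v) [CommRing Z] [Algebra R Z]
    [Subsingleton Z] : Algebra.Etale R Z := by
  haveI : IsLocalization.Away (0 : R) Z :=
    { map_units := fun _ => isUnit_of_subsingleton _
      surj := fun z => ⟨(0, ⟨0, 1, pow_one 0⟩), Subsingleton.elim _ _⟩
      exists_of_eq := fun {x y} _ => ⟨⟨0, 1, pow_one 0⟩, by simp⟩ }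
  exact Algebra.Etale.of_isLocalizationAway (0 : R)

end Groth.Agent.H8.SF
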