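import Mathlib
import Groth.Prelude.Def_SchFin
import Groth.Prelude.Def_SchFin2
import Groth.Agent.Lib.Helper8.SchFin.BC
import Groth.Agent.Lib.Helper8.SchFin.EtaleProd

/-! # Products and the zero object in the category of algebras over a finite ringed poset -/

set_option autoImplicit false

open TensorProduct CategoryTheory CategoryTheory.Limits

universe u

namespace Groth.Agent.H8.SF

open SchFin

section BCprod

variable {R S : Type u} [CommRing R] [CommRing S] {g : R →+* S}
  {M₁ M₂ N₁ N₂ : Type u} [AddCommGroup M₁] [AddCommGroup M₂] [AddCommGroup N₁] [AddCommGroup N₂]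
  [Module R M₁] [Module R M₂] [Module S N₁] [Module S N₂]
  {f₁ : M₁ →ₛₗ[g] N₁} {f₂ : M₂ →ₛₗ[g] N₂}

theorem isBCAlong_prod (h₁ : IsBCAlong g f₁) (h₂ : IsBCAlong g f₂)
    (f : (M₁ × M₂) →ₛₗ[g] (N₁ × N₂)) (hf : ∀ x, f x = (f₁ x.1, f₂ x.2)) : IsBCAlong g f := by
  rw [isBCAlong_iff_existsUnique]
  intro Q _ _ ψ
  let ψ₁ : M₁ →ₛₗ[g] Q :=
    { toFun := fun a => ψ (a, 0)
      map_add' := fun a b => by rw [← map_add, Prod.mk_add_mk, add_zero]
      map_smul' := fun r a => by rw [← ψ.map_smulₛₗ, Prod.smul_mk, smul_zero] }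
  let ψ₂ : M₂ →ₛₗ[g] Q :=
    { toFun := fun a => ψ (0, a)
      map_add' := fun a b => by rw [← map_add, Prod.mk_add_mk, add_zero]
      map_smul' := fun r a => by rw [← ψ.map_smulₛₗ, Prod.smul_mk, smul_zero] }
  obtain ⟨L₁, hL₁⟩ := isBCAlong_lift_exists h₁ ψ₁
  obtain ⟨L₂, hL₂⟩ := isBCAlong_lift_exists h₂ ψ₂
  refine ⟨L₁.coprod L₂, fun m => ?_, fun L' hL' => ?_⟩
  · rw [hf, LinearMap.coprod_apply, hL₁, hL₂]
    show ψ (m.1, 0) + ψ (0, m.2) = ψ m
    rw [← map_add, Prod.mk_add_mk, add_zero, zero_add]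
  · have e₁ : L'.comp (LinearMap.inl S N₁ N₂) = L₁ :=
      isBCAlong_hom_ext h₁ _ _ fun a => by
        rw [hL₁]
        show L' (f₁ a, 0) = ψ (a, 0)
        rw [← hL', hf, map_zero]
    have e₂ : L'.comp (LinearMap.inr S N₁ N₂) = L₂ :=
      isBCAlong_hom_ext h₂ _ _ fun a => by
        rw [hL₂]
        show L' (0, f₂ a) = ψ (0, a)
        rw [← hL', hf, map_zero]
    rw [← e₁, ← e₂]
    exact (LinearMap.coprod_comp_inl_inr L').symm

end BCprod

variable {X : RSpace.{u}}

/-- pointwise product of algebras -/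
def algProd (A B : Alg X) : Alg X where
  carrier p := A.carrier p × B.carrier p
  res h := RingHom.prodMap (A.res h) (B.res h)
  res_algebraMap h a := Prod.ext (A.res_algebraMap h a) (B.res_algebraMap h a)
  res_self p b := Prod.ext (A.res_self p b.1) (B.res_self p b.2)
  res_comp h h' b := Prod.ext (A.res_comp h h' b.1) (B.res_comp h h' b.2)

def algProdFst (A B : Alg X) : algProd A B ⟶ A := ⟨fun _ => AlgHom.fst _ _ _, fun _ _ => rfl⟩

def algProdSnd (A B : Alg X) : algProd A B ⟶ B := ⟨fun _ => AlgHom.snd _ _ _, fun _ _ => rfl⟩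

def algProdLift {T A B : Alg X} (f : T ⟶ A) (g : T ⟶ B) : T ⟶ algProd A B :=
  ⟨fun p => AlgHom.prod (f.app p) (g.app p), fun h b => Prod.ext (f.compat h b) (g.compat h b)⟩

theorem algProd_isQcoh {A B : Alg X} (hA : A.IsQcoh) (hB : B.IsQcoh) : (algProd A B).IsQcoh := by
  intro p q h
  exact isBCAlong_prod (hA p q h) (hB p q h) _ fun _ => rfl

theorem algProd_isEtCover {A B : Alg X} (hA : A.IsEtCover) (hB : B.IsEtCover) :
    (algProd A B).IsEtCover := by
  refine ⟨algProd_isQcoh hA.1 hB.1, fun p => ?_⟩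
  haveI := (hA.2 p).1
  haveI := (hA.2 p).2
  haveI := (hB.2 p).1
  haveI := (hB.2 p).2
  exact ⟨inferInstanceAs (Module.Finite (X.ring p) (A.carrier p × B.carrier p)),
    inferInstanceAs (Algebra.Etale (X.ring p) (A.carrier p × B.carrier p))⟩

/-- the zero algebra -/
def algZero (X : RSpace.{u}) : Alg X where
  carrier _ := PUnit.{u+1}
  res _ := RingHom.id _
  res_algebraMap _ _ := rfl
  res_self _ _ := rfl
  res_comp _ _ _ := rfl

/-- the map to the zero algebra -/
def toPUnitAlgHom (R A : Type u) [CommRing R] [CommRing A] [Algebra R A] : A →ₐ[R] PUnit.{u+1} where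
  toFun _ := PUnit.unit
  map_one' := rfl
  map_mul' _ _ := rfl
  map_zero' := rfl
  map_add' _ _ := rfl
  commutes' _ := rfl

def algToZero (A : Alg X) : A ⟶ algZero X :=
  ⟨fun p => toPUnitAlgHom (X.ring p) (A.carrier p), fun _ _ => rfl⟩

theorem algZero_isEtCover (X : RSpace.{u}) : (algZero X).IsEtCover := by
  refine ⟨?_, fun p => ⟨?_, ?_⟩⟩
  · intro p q h
    rw [isBCAlong_iff_existsUnique]
    intro Q _ _ ψ
    refine ⟨0, fun m => ?_, fun L' _ => ?_⟩
    · have : m = 0 := Subsingleton.elim (α := PUnit.{u+1}) _ _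
      rw [this, map_zero, map_zero, map_zero]
    · ext n
      have : n = 0 := Subsingleton.elim (α := PUnit.{u+1}) _ _
      rw [this, map_zero, map_zero]
  · exact inferInstanceAs (Module.Finite (X.ring p) PUnit.{u+1})
  · exact etale_of_subsingleton (X.ring p) PUnit.{u+1}

end Groth.Agent.H8.SF

namespace Groth.Agent.H8.SF

open SchFin

variable {X : RSpace.{u}}

/-- the product in `FEt X` -/
def fetProd (A B : FEt X) : FEt X := ⟨algProd A.obj B.obj, algProd_isEtCover A.property B.property⟩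

def fetProdFst (A B : FEt X) : fetProd A B ⟶ A := ObjectProperty.homMk (algProdFst A.obj B.obj)

def fetProdSnd (A B : FEt X) : fetProd A B ⟶ B := ObjectProperty.homMk (algProdSnd A.obj B.obj)

/-- the product cone is a limit -/
def fetProdIsLimit (A B : FEt X) : IsLimit (BinaryFan.mk (fetProdFst A B) (fetProdSnd A B)) :=
  BinaryFan.IsLimit.mk _ (fun f g => ObjectProperty.homMk (algProdLift f.hom g.hom))
    (fun _ _ => rfl) (fun _ _ => rfl) (fun f g m h₁ h₂ => by
      apply ObjectProperty.hom_ext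
      apply Alg.hom_ext
      intro p
      apply AlgHom.ext
      intro x
      subst h₁ h₂
      exact Prod.ext rfl rfl)

theorem fet_hasBinaryProducts (X : RSpace.{u}) : HasBinaryProducts (FEt X) :=
  haveI : ∀ A B : FEt X, HasLimit (pair A B) := fun A B => ⟨⟨⟨_, fetProdIsLimit A B⟩⟩⟩
  hasBinaryProducts_of_hasLimit_pair _

/-- the terminal object of `FEt X` -/
def fetZero (X : RSpace.{u}) : FEt X := ⟨algZero X, algZero_isEtCover X⟩

def fetZeroIsTerminal (X : RSpace.{u}) : IsTerminal (fetZero X) :=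
  IsTerminal.ofUniqueHom (fun A => ObjectProperty.homMk (algToZero A.obj)) (fun A m => by
    apply ObjectProperty.hom_ext
    apply Alg.hom_ext
    intro p
    apply AlgHom.ext
    intro x
    exact Subsingleton.elim (α := PUnit.{u+1}) _ _)

theorem fet_hasTerminal (X : RSpace.{u}) : HasTerminal (FEt X) :=
  (fetZeroIsTerminal X).hasTerminal

end Groth.Agent.H8.SF
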