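import Mathlib
import Groth.Prelude.Def_SchFin
import Groth.Prelude.Def_SchFin2
import Groth.Agent.Lib.Helper8.SchFin.BC

/-! # Quotient of an algebra over a finite ringed poset by a compatible family of idempotents -/

set_option autoImplicit false

open TensorProduct CategoryTheory

universe u

namespace Groth.Agent.H8.SF

open SchFin

section BCquot

variable {R S : Type u} [CommRing R] [CommRing S] {g : R →+* S}
  {M N M' N' : Type u} [AddCommGroup M] [AddCommGroup N] [AddCommGroup M'] [AddCommGroup N']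
  [Module R M] [Module S N] [Module R M'] [Module S N']
  {f : M →ₛₗ[g] N}

/-- right exactness of base change, in `IsBCAlong` form -/
theorem isBCAlong_quot (h : IsBCAlong g f) (π : M →ₗ[R] M') (π' : N →ₗ[S] N')
    (hπ : Function.Surjective π) (hπ' : Function.Surjective π') (f' : M' →ₛₗ[g] N')
    (hsq : ∀ m, f' (π m) = π' (f m))
    (hker : LinearMap.ker π' ≤ Submodule.span S (f '' (LinearMap.ker π : Set M))) :
    IsBCAlong g f' := by
  rw [isBCAlong_iff_existsUnique]
  intro Q _ _ ψ'
  let ψ : M →ₛₗ[g] Q :=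
    { toFun := fun m => ψ' (π m)
      map_add' := fun a b => by rw [map_add, map_add]
      map_smul' := fun r a => by rw [map_smul, ψ'.map_smulₛₗ] }
  obtain ⟨L₀, hL₀⟩ := isBCAlong_lift_exists h ψ
  have hle : LinearMap.ker π' ≤ LinearMap.ker L₀ := by
    refine hker.trans ?_
    rw [Submodule.span_le]
    rintro _ ⟨k, hk, rfl⟩
    show L₀ (f k) = 0
    rw [hL₀]
    show ψ' (π k) = 0
    rw [LinearMap.mem_ker.1 hk, map_zero]
  let E := LinearMap.quotKerEquivOfSurjective π' hπ'
  let L : N' →ₗ[S] Q := ((LinearMap.ker π').liftQ L₀ hle).comp E.symm.toLinearMap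
  have hLπ : ∀ n, L (π' n) = L₀ n := by
    intro n
    show ((LinearMap.ker π').liftQ L₀ hle) (E.symm (π' n)) = L₀ n
    have : E.symm (π' n) = Submodule.Quotient.mk n := by
      rw [LinearEquiv.symm_apply_eq]
      rfl
    rw [this]
    rfl
  refine ⟨L, fun m' => ?_, fun L' hL' => ?_⟩
  · obtain ⟨m, rfl⟩ := hπ m'
    rw [hsq, hLπ, hL₀]
    rfl
  · have h1 : L'.comp π' = L₀ := isBCAlong_hom_ext h _ _ fun m => by
      rw [hL₀]
      show L' (π' (f m)) = ψ' (π m)
      rw [← hsq, hL']
    ext n'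
    obtain ⟨n, rfl⟩ := hπ' n'
    rw [hLπ, ← h1]
    rfl

end BCquot

section BCquotRing

variable {R S : Type u} [CommRing R] [CommRing S] {g : R →+* S}
  {A A' : Type u} [CommRing A] [CommRing A'] [Algebra R A] [Algebra S A']

/-- base change of a quotient by a principal ideal -/
theorem isBCAlong_quot_span (ρ : A →+* A') (f : A →ₛₗ[g] A') (hf : ∀ a, f a = ρ a)
    (h : IsBCAlong g f) (ε : A) (ε' : A') (hε : ρ ε = ε')
    (f' : (A ⧸ Ideal.span {ε}) →ₛₗ[g] (A' ⧸ Ideal.span {ε'}))
    (hf' : ∀ a, f' (Ideal.Quotient.mk _ a) = Ideal.Quotient.mk _ (ρ a)) : IsBCAlong g f' := by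
  refine isBCAlong_quot h (Ideal.Quotient.mkₐ R (Ideal.span {ε})).toLinearMap
    (Ideal.Quotient.mkₐ S (Ideal.span {ε'})).toLinearMap
    (Ideal.Quotient.mkₐ_surjective R _) (Ideal.Quotient.mkₐ_surjective S _) f'
    (fun m => (hf' m).trans (by rw [hf]; rfl)) ?_
  intro x hx
  have hx' : x ∈ Ideal.span {ε'} := by
    have : Ideal.Quotient.mk (Ideal.span {ε'}) x = 0 := hx
    exact Ideal.Quotient.eq_zero_iff_mem.1 this
  obtain ⟨c, rfl⟩ := Ideal.mem_span_singleton'.1 hx'
  refine isBCAlong_induction h (motive := fun c : A' => c * ε' ∈ Submodule.span S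
    (f '' (LinearMap.ker (Ideal.Quotient.mkₐ R (Ideal.span {ε})).toLinearMap : Set A))) c
    ?_ ?_ ?_ ?_
  · rw [zero_mul]; exact Submodule.zero_mem _
  · intro a
    refine Submodule.subset_span ⟨a * ε, ?_, ?_⟩
    · show Ideal.Quotient.mk (Ideal.span {ε}) (a * ε) = 0
      exact Ideal.Quotient.eq_zero_iff_mem.2 (Ideal.mul_mem_left _ _ (Ideal.subset_span rfl))
    · rw [hf, hf, map_mul, hε]
  · intro s n hn
    have : (s • n) * ε' = s • (n * ε') := smul_mul_assoc s n ε'
    rw [this]
    exact Submodule.smul_mem _ _ hn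
  · intro n n' hn hn'
    rw [add_mul]
    exact Submodule.add_mem _ hn hn'

end BCquotRing

variable {X : RSpace.{u}}

/-- quotient by a compatible family of principal ideals -/
def algQuot (A : Alg X) (ε : ∀ p, A.carrier p)
    (hc : ∀ (p q : X.pt) (h : p ≤ q), A.res h (ε p) = ε q) : Alg X where
  carrier p := A.carrier p ⧸ Ideal.span {ε p}
  res {p q} h := Ideal.quotientMap (Ideal.span {ε q}) (A.res h) (by
    rw [Ideal.span_singleton_le_iff_mem, Ideal.mem_comap, hc p q h]
    exact Ideal.subset_span rfl)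
  res_algebraMap {p q} h a := by
    show Ideal.quotientMap _ (A.res h) _ (Ideal.Quotient.mk _ (algebraMap _ _ a)) = _
    rw [Ideal.quotientMap_mk, A.res_algebraMap]
    rfl
  res_self p b := by
    obtain ⟨a, rfl⟩ := Ideal.Quotient.mk_surjective b
    rw [Ideal.quotientMap_mk, A.res_self]
  res_comp {p q s} h h' b := by
    obtain ⟨a, rfl⟩ := Ideal.Quotient.mk_surjective b
    rw [Ideal.quotientMap_mk, Ideal.quotientMap_mk, Ideal.quotientMap_mk, A.res_comp]

/-- the quotient morphism -/
def algQuotMk (A : Alg X) (ε : ∀ p, A.carrier p)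
    (hc : ∀ (p q : X.pt) (h : p ≤ q), A.res h (ε p) = ε q) : A ⟶ algQuot A ε hc :=
  ⟨fun p => Ideal.Quotient.mkₐ (X.ring p) (Ideal.span {ε p}), fun _ _ => rfl⟩

/-- the induced morphism out of the quotient -/
def algQuotLift {A B : Alg X} (ε : ∀ p, A.carrier p)
    (hc : ∀ (p q : X.pt) (h : p ≤ q), A.res h (ε p) = ε q) (f : A ⟶ B)
    (h0 : ∀ p, f.app p (ε p) = 0) : algQuot A ε hc ⟶ B :=
  ⟨fun p => Ideal.Quotient.liftₐ (Ideal.span {ε p}) (f.app p) (by
      intro a ha
      obtain ⟨c, rfl⟩ := Ideal.mem_span_singleton'.1 ha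
      rw [map_mul, h0 p, mul_zero]),
    fun {p q} h b => by
      obtain ⟨a, rfl⟩ := Ideal.Quotient.mk_surjective b
      show B.res h (f.app p a) = f.app q (A.res h a)
      exact f.compat h a⟩

theorem algQuot_isQcoh {A : Alg X} (hA : A.IsQcoh) (ε : ∀ p, A.carrier p)
    (hc : ∀ (p q : X.pt) (h : p ≤ q), A.res h (ε p) = ε q) : (algQuot A ε hc).IsQcoh := by
  intro p q h
  exact isBCAlong_quot_span (A.res h) (A.toMod.res h) (fun _ => rfl) (hA p q h) (ε p) (ε q)
    (hc p q h) _ (fun _ => rfl)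

theorem algQuot_isEtCover {A : Alg X} (hA : A.IsEtCover) (ε : ∀ p, A.carrier p)
    (hε : ∀ p, IsIdempotentElem (ε p))
    (hc : ∀ (p q : X.pt) (h : p ≤ q), A.res h (ε p) = ε q) : (algQuot A ε hc).IsEtCover := by
  refine ⟨algQuot_isQcoh hA.1 ε hc, fun p => ?_⟩
  haveI := (hA.2 p).1
  haveI := (hA.2 p).2
  constructor
  · exact Module.Finite.of_surjective (Ideal.Quotient.mkₐ (X.ring p) (Ideal.span {ε p})).toLinearMap
      (Ideal.Quotient.mkₐ_surjective (X.ring p) _)
  · haveI : Algebra.Etale (A.carrier p) (A.carrier p ⧸ Ideal.span {ε p}) :=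
      { formallyEtale := by
          rw [Algebra.FormallyEtale.iff_of_surjective Ideal.Quotient.mk_surjective]
          have : RingHom.ker (algebraMap (A.carrier p) (A.carrier p ⧸ Ideal.span {ε p})) =
              Ideal.span {ε p} := Ideal.mk_ker
          rw [this]
          show Ideal.span {ε p} * Ideal.span {ε p} = Ideal.span {ε p}
          rw [Ideal.span_singleton_mul_span_singleton, (hε p).eq]
        finitePresentation :=
          Algebra.FinitePresentation.quotient (R := A.carrier p) (A := A.carrier p)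
            (I := Ideal.span {ε p}) ⟨{ε p}, by simp⟩ }
    exact Algebra.Etale.comp (X.ring p) (A.carrier p) (A.carrier p ⧸ Ideal.span {ε p})

end Groth.Agent.H8.SF
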