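import Mathlib
import Groth.Prelude.Def_SchFin
import Groth.Prelude.Def_SchFin2
import Groth.Agent.Lib.Helper8.SchFin.BC

/-! # Base change commutes with tensor products (in `IsBCAlong` form) -/

set_option autoImplicit false

open TensorProduct

universe u

namespace Groth.Agent.H8.SF

open SchFin

section

variable {R S : Type u} [CommRing R] [CommRing S] {g : R →+* S}
  {M N : Type u} [AddCommGroup M] [AddCommGroup N] [Module R M] [Module S N] {f : M →ₛₗ[g] N}

/-- a chosen lift -/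
noncomputable def bcLift (h : IsBCAlong g f) {Q : Type u} [AddCommGroup Q] [Module S Q]
    (ψ : M →ₛₗ[g] Q) : N →ₗ[S] Q := Classical.choose (isBCAlong_lift_exists h ψ)

theorem bcLift_apply (h : IsBCAlong g f) {Q : Type u} [AddCommGroup Q] [Module S Q]
    (ψ : M →ₛₗ[g] Q) (m : M) : bcLift h ψ (f m) = ψ m :=
  Classical.choose_spec (isBCAlong_lift_exists h ψ) m

theorem bcLift_add (h : IsBCAlong g f) {Q : Type u} [AddCommGroup Q] [Module S Q]
    (ψ ψ' : M →ₛₗ[g] Q) : bcLift h (ψ + ψ') = bcLift h ψ + bcLift h ψ' :=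
  isBCAlong_hom_ext h _ _ fun m => by
    rw [bcLift_apply, LinearMap.add_apply, LinearMap.add_apply, bcLift_apply, bcLift_apply]

theorem bcLift_smul (h : IsBCAlong g f) {Q : Type u} [AddCommGroup Q] [Module S Q]
    (s : S) (ψ : M →ₛₗ[g] Q) : bcLift h (s • ψ) = s • bcLift h ψ :=
  isBCAlong_hom_ext h _ _ fun m => by
    rw [bcLift_apply, LinearMap.smul_apply, LinearMap.smul_apply, bcLift_apply]

end

section

variable {R S : Type u} [CommRing R] [CommRing S] {g : R →+* S}
  {A B A' B' : Type u} [AddCommGroup A] [AddCommGroup B] [AddCommGroup A'] [AddCommGroup B']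
  [Module R A] [Module R B] [Module S A'] [Module S B']
  {fA : A →ₛₗ[g] A'} {fB : B →ₛₗ[g] B'}

/-- Base change commutes with tensor products. -/
theorem isBCAlong_tensor (hA : IsBCAlong g fA) (hB : IsBCAlong g fB)
    (fT : (A ⊗[R] B) →ₛₗ[g] (A' ⊗[S] B')) (hT : ∀ a b, fT (a ⊗ₜ b) = fA a ⊗ₜ fB b) :
    IsBCAlong g fT := by
  rw [isBCAlong_iff_existsUnique]
  intro Q _ _ ψ
  -- step 1: for each `a`, lift `b ↦ ψ (a ⊗ b)`
  let ψa : A → (B →ₛₗ[g] Q) := fun a =>
    { toFun := fun b => ψ (a ⊗ₜ b)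
      map_add' := fun b b' => by rw [TensorProduct.tmul_add, map_add]
      map_smul' := fun r b => by rw [TensorProduct.tmul_smul, ψ.map_smulₛₗ] }
  have ψa_add : ∀ a a', ψa (a + a') = ψa a + ψa a' := fun a a' => by
    ext b
    show ψ ((a + a') ⊗ₜ b) = ψ (a ⊗ₜ b) + ψ (a' ⊗ₜ b)
    rw [TensorProduct.add_tmul, map_add]
  have ψa_smul : ∀ (r : R) a, ψa (r • a) = g r • ψa a := fun r a => by
    ext b
    show ψ ((r • a) ⊗ₜ b) = g r • ψ (a ⊗ₜ b)
    rw [← TensorProduct.smul_tmul', ψ.map_smulₛₗ]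
  let β : A →ₛₗ[g] (B' →ₗ[S] Q) :=
    { toFun := fun a => bcLift hB (ψa a)
      map_add' := fun a a' => by rw [ψa_add, bcLift_add]
      map_smul' := fun r a => by rw [ψa_smul, bcLift_smul] }
  let Λ : A' →ₗ[S] (B' →ₗ[S] Q) := bcLift hA β
  have hΛ : ∀ a b, Λ (fA a) (fB b) = ψ (a ⊗ₜ b) := by
    intro a b
    show bcLift hA β (fA a) (fB b) = _
    rw [bcLift_apply]
    show bcLift hB (ψa a) (fB b) = _
    rw [bcLift_apply]
    rfl
  refine ⟨TensorProduct.lift Λ, fun t => ?_, fun L' hL' => ?_⟩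
  · induction t using TensorProduct.induction_on with
    | zero => rw [map_zero, map_zero, map_zero]
    | tmul a b => rw [hT, TensorProduct.lift.tmul, hΛ]
    | add t t' ht ht' => rw [map_add, map_add, map_add, ht, ht']
  · apply TensorProduct.ext'
    intro a' b'
    rw [TensorProduct.lift.tmul]
    -- first vary `a'` with `b' = fB b`
    have h1 : ∀ (b : B) (a' : A'), L' (a' ⊗ₜ fB b) = Λ a' (fB b) := by
      intro b
      have := isBCAlong_hom_ext hA
        (L'.comp ((TensorProduct.mk S A' B').flip (fB b)))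
        ((LinearMap.applyₗ (fB b)).comp Λ) (fun a => by
          show L' (fA a ⊗ₜ fB b) = Λ (fA a) (fB b)
          rw [← hT, hL', hΛ])
      intro a'
      exact LinearMap.congr_fun this a'
    have h2 := isBCAlong_hom_ext hB (L'.comp (TensorProduct.mk S A' B' a')) (Λ a') (fun b => by
      show L' (a' ⊗ₜ fB b) = Λ a' (fB b)
      exact h1 b a')
    exact LinearMap.congr_fun h2 b'

end

end Groth.Agent.H8.SF
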