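import Mathlib
import Groth.Prelude.Def_SchFin
import Groth.Prelude.Def_SchFin2
import Groth.Agent.Lib.Helper8.SchFin.BC
import Groth.Agent.Lib.Helper8.SchFin.BCTensor

/-! # The tensor product (coproduct) of algebras over a finite ringed poset -/

set_option autoImplicit false

open TensorProduct CategoryTheory

universe u

namespace Groth.Agent.H8.SF

open SchFin

section RingLevel

variable {R S : Type u} [CommRing R] [CommRing S] (g : R →+* S)
  {A B A' B' : Type u} [CommRing A] [CommRing B] [CommRing A'] [CommRing B']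
  [Algebra R A] [Algebra R B] [Algebra S A'] [Algebra S B']
  (α : A →+* A') (β : B →+* B')
  (hα : ∀ r, α (algebraMap R A r) = algebraMap S A' (g r))
  (hβ : ∀ r, β (algebraMap R B r) = algebraMap S B' (g r))

/-- tensor product of two ring maps over a base ring map -/
noncomputable def tensorRingMap : A ⊗[R] B →+* A' ⊗[S] B' :=
  letI : Algebra R (A' ⊗[S] B') := ((algebraMap S (A' ⊗[S] B')).comp g).toAlgebra
  (Algebra.TensorProduct.productMap
    ({ toRingHom := (Algebra.TensorProduct.includeLeftRingHom (R := S) (A := A') (B := B')).comp α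
       commutes' := fun r => by
        show (α (algebraMap R A r)) ⊗ₜ[S] (1 : B') = algebraMap S (A' ⊗[S] B') (g r)
        rw [hα, Algebra.TensorProduct.algebraMap_apply] } : A →ₐ[R] A' ⊗[S] B')
    ({ toRingHom := (Algebra.TensorProduct.includeRight (R := S) (A := A') (B := B')).toRingHom.comp β
       commutes' := fun r => by
        show (1 : A') ⊗ₜ[S] (β (algebraMap R B r)) = algebraMap S (A' ⊗[S] B') (g r)
        rw [hβ, Algebra.TensorProduct.algebraMap_apply, Algebra.algebraMap_eq_smul_one,
          Algebra.algebraMap_eq_smul_one, TensorProduct.tmul_smul, TensorProduct.smul_tmul'] } :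
      B →ₐ[R] A' ⊗[S] B')).toRingHom

theorem tensorRingMap_tmul (a : A) (b : B) :
    tensorRingMap g α β hα hβ (a ⊗ₜ b) = α a ⊗ₜ β b := by
  letI : Algebra R (A' ⊗[S] B') := ((algebraMap S (A' ⊗[S] B')).comp g).toAlgebra
  show (α a ⊗ₜ[S] (1 : B')) * ((1 : A') ⊗ₜ[S] β b) = _
  rw [Algebra.TensorProduct.tmul_mul_tmul, mul_one, one_mul]

/-- ring homs out of a tensor product are determined by pure tensors -/
theorem tensor_ringHom_ext {T : Type u} [Semiring T] {φ ψ : A ⊗[R] B →+* T}
    (h : ∀ a b, φ (a ⊗ₜ b) = ψ (a ⊗ₜ b)) : φ = ψ := by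
  apply RingHom.ext
  intro t
  induction t using TensorProduct.induction_on with
  | zero => rw [map_zero, map_zero]
  | tmul a b => exact h a b
  | add t t' ht ht' => rw [map_add, map_add, ht, ht']

theorem tensor_apply_ext {T : Type u} [Semiring T] (φ ψ : A ⊗[R] B →+* T)
    (h : ∀ a b, φ (a ⊗ₜ b) = ψ (a ⊗ₜ b)) (t : A ⊗[R] B) : φ t = ψ t := by
  rw [tensor_ringHom_ext h]

end RingLevel

variable {X : RSpace.{u}}

/-- pointwise tensor product of algebras -/
noncomputable def algTensor (A B : Alg X) : Alg X where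
  carrier p := A.carrier p ⊗[X.ring p] B.carrier p
  res {p q} h := tensorRingMap (X.res h) (A.res h) (B.res h) (A.res_algebraMap h) (B.res_algebraMap h)
  res_algebraMap {p q} h a := by
    rw [Algebra.TensorProduct.algebraMap_apply, tensorRingMap_tmul, A.res_algebraMap, map_one,
      Algebra.TensorProduct.algebraMap_apply]
  res_self p b := by
    refine tensor_apply_ext _ (RingHom.id _) (fun a b => ?_) b
    rw [tensorRingMap_tmul, A.res_self, B.res_self]
    rfl
  res_comp {p q s} h h' b := by
    refine tensor_apply_ext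
      ((tensorRingMap (X.res h') (A.res h') (B.res h') (A.res_algebraMap h') (B.res_algebraMap h')).comp
        (tensorRingMap (X.res h) (A.res h) (B.res h) (A.res_algebraMap h) (B.res_algebraMap h)))
      (tensorRingMap (X.res (h.trans h')) (A.res (h.trans h')) (B.res (h.trans h'))
        (A.res_algebraMap (h.trans h')) (B.res_algebraMap (h.trans h'))) (fun a b => ?_) b
    rw [RingHom.comp_apply, tensorRingMap_tmul, tensorRingMap_tmul, tensorRingMap_tmul,
      A.res_comp, B.res_comp]

theorem algTensor_res_tmul (A B : Alg X) {p q : X.pt} (h : p ≤ q) (a : A.carrier p)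
    (b : B.carrier p) : (algTensor A B).res h (a ⊗ₜ b) = A.res h a ⊗ₜ B.res h b :=
  tensorRingMap_tmul (X.res h) (A.res h) (B.res h) (A.res_algebraMap h) (B.res_algebraMap h) a b

/-- left inclusion -/
noncomputable def algTensorInl (A B : Alg X) : A ⟶ algTensor A B :=
  ⟨fun _ => Algebra.TensorProduct.includeLeft, fun {p q} h a => by
    show (algTensor A B).res h (a ⊗ₜ 1) = A.res h a ⊗ₜ 1
    rw [algTensor_res_tmul, map_one]⟩

/-- right inclusion -/
noncomputable def algTensorInr (A B : Alg X) : B ⟶ algTensor A B :=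
  ⟨fun _ => Algebra.TensorProduct.includeRight, fun {p q} h b => by
    show (algTensor A B).res h (1 ⊗ₜ b) = 1 ⊗ₜ B.res h b
    rw [algTensor_res_tmul, map_one]⟩

/-- copairing -/
noncomputable def algTensorDesc {A B T : Alg X} (u : A ⟶ T) (v : B ⟶ T) : algTensor A B ⟶ T :=
  ⟨fun p => Algebra.TensorProduct.productMap (u.app p) (v.app p), fun {p q} h t => by
    refine tensor_apply_ext ((T.res h).comp (Algebra.TensorProduct.productMap (u.app p) (v.app p)).toRingHom)
      ((Algebra.TensorProduct.productMap (u.app q) (v.app q)).toRingHom.comp ((algTensor A B).res h))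
      (fun a b => ?_) t
    show T.res h (Algebra.TensorProduct.productMap (u.app p) (v.app p) (a ⊗ₜ b)) =
      Algebra.TensorProduct.productMap (u.app q) (v.app q) ((algTensor A B).res h (a ⊗ₜ b))
    rw [algTensor_res_tmul, Algebra.TensorProduct.productMap_apply_tmul,
      Algebra.TensorProduct.productMap_apply_tmul, map_mul, u.compat, v.compat]⟩

theorem algTensorDesc_app_tmul {A B T : Alg X} (u : A ⟶ T) (v : B ⟶ T) (p : X.pt)
    (a : A.carrier p) (b : B.carrier p) :
    (algTensorDesc u v).app p (a ⊗ₜ b) = u.app p a * v.app p b :=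
  Algebra.TensorProduct.productMap_apply_tmul _ _ a b

/-- functoriality -/
noncomputable def algTensorMap {A B A' B' : Alg X} (f : A ⟶ A') (g : B ⟶ B') :
    algTensor A B ⟶ algTensor A' B' :=
  algTensorDesc (f ≫ algTensorInl A' B') (g ≫ algTensorInr A' B')

theorem algTensorMap_app_tmul {A B A' B' : Alg X} (f : A ⟶ A') (g : B ⟶ B') (p : X.pt)
    (a : A.carrier p) (b : B.carrier p) :
    (algTensorMap f g).app p (a ⊗ₜ b) = f.app p a ⊗ₜ g.app p b := by
  show (algTensorDesc _ _).app p (a ⊗ₜ b) = _
  rw [algTensorDesc_app_tmul]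
  show (f.app p a ⊗ₜ[X.ring p] (1 : B'.carrier p)) * ((1 : A'.carrier p) ⊗ₜ[X.ring p] g.app p b) = _
  rw [Algebra.TensorProduct.tmul_mul_tmul, mul_one, one_mul]

theorem algTensor_isQcoh {A B : Alg X} (hA : A.IsQcoh) (hB : B.IsQcoh) :
    (algTensor A B).IsQcoh := by
  intro p q h
  exact isBCAlong_tensor (hA p q h) (hB p q h) _ (fun a b => algTensor_res_tmul A B h a b)

theorem algTensor_isEtCover {A B : Alg X} (hA : A.IsEtCover) (hB : B.IsEtCover) :
    (algTensor A B).IsEtCover := by
  refine ⟨algTensor_isQcoh hA.1 hB.1, fun p => ?_⟩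
  haveI := (hA.2 p).1
  haveI := (hA.2 p).2
  haveI := (hB.2 p).1
  haveI := (hB.2 p).2
  constructor
  · exact inferInstanceAs (Module.Finite (X.ring p) (A.carrier p ⊗[X.ring p] B.carrier p))
  · haveI : Algebra.Etale (A.carrier p) (A.carrier p ⊗[X.ring p] B.carrier p) := inferInstance
    exact Algebra.Etale.comp (X.ring p) (A.carrier p) (A.carrier p ⊗[X.ring p] B.carrier p)

end Groth.Agent.H8.SF
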