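import Mathlib

/-! # The annihilator of a finite projective module is generated by an idempotent;
kernels of maps of finite étale algebras -/

set_option autoImplicit false

universe u v

namespace Groth.Agent.H8.SF

/-- The annihilator of a finite projective module is generated by an idempotent. -/
theorem exists_idempotent_annihilator (A : Type u) (M : Type v) [CommRing A] [AddCommGroup M]
    [Module A M] [Module.Finite A M] [Module.Projective A M] :
    ∃ e : A, IsIdempotentElem e ∧ Module.annihilator A M = Ideal.span {e} := by
  obtain ⟨n, f, g, -, -, hfg⟩ := Module.Finite.exists_comp_eq_id_of_projective A M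
  -- the trace ideal
  let τ : Ideal A := Ideal.span (Set.range fun p : Fin n × M => g p.2 p.1)
  have hτ : ∀ (i : Fin n) (m : M), g m i ∈ τ := fun i m => Ideal.subset_span ⟨(i, m), rfl⟩
  have hM : (⊤ : Submodule A M) ≤ τ • (⊤ : Submodule A M) := by
    intro m _
    have hm : m = f (g m) := by
      have := LinearMap.congr_fun hfg m
      exact this.symm
    have h2 : g m = ∑ i, g m i • (Pi.single i (1 : A) : Fin n → A) := by
      funext j
      simp [Finset.sum_apply, Pi.single_apply]
    rw [hm, h2, map_sum]
    refine Submodule.sum_mem _ fun i _ => ?_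
    rw [map_smul]
    exact Submodule.smul_mem_smul (hτ i m) trivial
  obtain ⟨r, hr1, hr0⟩ := Submodule.exists_sub_one_mem_and_smul_eq_zero_of_fg_of_le_smul τ ⊤
    (Module.Finite.fg_top) hM
  have hrann : r ∈ Module.annihilator A M :=
    Module.mem_annihilator.2 fun m => hr0 m trivial
  -- annihilator times trace ideal is zero
  have hat : ∀ a ∈ Module.annihilator A M, ∀ t ∈ τ, a * t = 0 := by
    intro a ha t ht
    induction ht using Submodule.span_induction with
    | mem x hx =>
        obtain ⟨⟨i, m⟩, rfl⟩ := hx
        show a * g m i = 0
        have : a • g m = 0 := by rw [← map_smul, Module.mem_annihilator.1 ha m, map_zero]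
        have := congrFun this i
        simpa using this
    | zero => rw [mul_zero]
    | add x y _ _ hx hy => rw [mul_add, hx, hy, add_zero]
    | smul c x _ hx => rw [smul_eq_mul, mul_left_comm, hx, mul_zero]
  have h1r : 1 - r ∈ τ := by
    have := τ.neg_mem hr1
    rwa [neg_sub] at this
  refine ⟨r, ?_, le_antisymm ?_ ?_⟩
  · have := hat r hrann (1 - r) h1r
    show r * r = r
    linear_combination -this
  · intro a ha
    have := hat a ha (1 - r) h1r
    rw [Ideal.mem_span_singleton']
    exact ⟨a, by linear_combination -this⟩
  · rw [Ideal.span_singleton_le_iff_mem]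
    exact hrann

/-- An idempotent generator of an ideal is unique. -/
theorem idempotent_generator_unique {A : Type u} [CommRing A] {e e' : A} (he : IsIdempotentElem e)
    (he' : IsIdempotentElem e') (h : Ideal.span {e} = Ideal.span {e'}) : e = e' := by
  have h1 : e ∈ Ideal.span {e'} := h ▸ Ideal.subset_span rfl
  have h2 : e' ∈ Ideal.span {e} := h.symm ▸ Ideal.subset_span rfl
  obtain ⟨x, hx⟩ := Ideal.mem_span_singleton'.1 h1
  obtain ⟨y, hy⟩ := Ideal.mem_span_singleton'.1 h2
  have e1 : e * e' = e := by rw [← hx, mul_assoc, he'.eq]
  have e2 : e' * e = e' := by rw [← hy, mul_assoc, he.eq]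
  rw [← e1, mul_comm, e2]

/-- The kernel of a map of finite étale algebras is generated by an idempotent. -/
theorem exists_idempotent_ker {R : Type u} {A B : Type u} [CommRing R] [CommRing A] [CommRing B]
    [Algebra R A] [Algebra R B] [Module.Finite R A] [Module.Finite R B]
    [Algebra.Etale R A] [Algebra.Etale R B] (φ : A →ₐ[R] B) :
    ∃ e : A, IsIdempotentElem e ∧ RingHom.ker φ.toRingHom = Ideal.span {e} := by
  letI : Algebra A B := φ.toRingHom.toAlgebra
  haveI : IsScalarTower R A B := IsScalarTower.of_algebraMap_eq fun r => (φ.commutes r).symm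
  haveI : Algebra.Etale A B := Algebra.Etale.of_restrictScalars R A B
  haveI : Module.Finite A B := Module.Finite.of_restrictScalars_finite R A B
  haveI : Module.FinitePresentation A B := Module.FinitePresentation.of_finite_of_finitePresentation A B
  haveI : Module.Flat A B := inferInstance
  haveI : Module.Projective A B := Module.Flat.projective_of_finitePresentation
  obtain ⟨e, he, hann⟩ := exists_idempotent_annihilator A B
  refine ⟨e, he, ?_⟩
  rw [← hann]
  ext a
  rw [RingHom.mem_ker, Module.mem_annihilator]
  constructor
  · intro ha b
    rw [Algebra.smul_def]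
    show φ a * b = 0
    have : φ a = 0 := ha
    rw [this, zero_mul]
  · intro ha
    have := ha 1
    rw [Algebra.smul_def, mul_one] at this
    exact this

end Groth.Agent.H8.SF
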