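import Mathlib
import Groth.Prelude.Def_SchFin

/-! # Degree zero cohomology of the standard complex on a finite ringed poset -/

set_option autoImplicit false

open TensorProduct

universe u

namespace Groth.Agent.H8.SF

open SchFin

variable {X : RSpace.{u}} {U : Set X.pt} {R : Type u} [CommRing R] (φ : Coef X U R) (M : OMod X)

lemma fin01_eq_zero (i : Fin (0 + 1)) : i = 0 := by
  obtain ⟨i, hi⟩ := i
  have : i = 0 := by omega
  subst this
  rfl

/-- The `0`-chain at a point. -/
def chain0 (q : U) : Chain U 0 :=
  OrderEmbedding.ofMapLEIff (fun _ => q) (fun a b => by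
    rw [fin01_eq_zero a, fin01_eq_zero b]
    simp)

@[simp] lemma chain0_apply (q : U) (i : Fin 1) : chain0 q i = q := rfl

lemma chain0_surj (σ : Chain U 0) : σ = chain0 (σ 0) := by
  apply RelEmbedding.ext
  intro i
  rw [fin01_eq_zero i]
  rfl

/-- The `1`-chain `q < q'`. -/
def chain1 (q q' : U) (h : q < q') : Chain U 1 :=
  OrderEmbedding.ofStrictMono (fun i : Fin 2 => if i = 0 then q else q') (by
    intro a b hab
    fin_cases a <;> fin_cases b <;> simp_all)

lemma chain1_zero (q q' : U) (h : q < q') : chain1 q q' h 0 = q := rfl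
lemma chain1_one (q q' : U) (h : q < q') : chain1 q q' h 1 = q' := rfl

lemma chain1_face_zero (q q' : U) (h : q < q') : (chain1 q q' h).face 0 = chain0 q' := by
  apply RelEmbedding.ext
  intro i
  rw [fin01_eq_zero i]
  rfl

lemma chain1_face_one (q q' : U) (h : q < q') : (chain1 q q' h).face 1 = chain0 q := by
  apply RelEmbedding.ext
  intro i
  rw [fin01_eq_zero i]
  rfl

lemma chain1_surj (σ : Chain U 1) :
    σ = chain1 (σ 0) (σ 1) (σ.strictMono (by decide)) := by
  apply RelEmbedding.ext
  intro i
  fin_cases i <;> rfl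

end Groth.Agent.H8.SF
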