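import Mathlib
import Groth.Prelude.Def_SchFin
import Groth.Agent.Lib.Helper8.SchFin.H0a

set_option autoImplicit false

open TensorProduct

universe u

namespace Groth.Agent.H8.SF

open SchFin

variable {X : RSpace.{u}} {U : Set X.pt} {R : Type u} [CommRing R] (φ : Coef X U R) (M : OMod X)

variable {φ M} in
/-- The value of a `0`-cochain at a point. -/
def val0 (c : Cochain φ M 0) (q : U) : M.carrier q.1 := c (chain0 q)

variable {φ M} in
lemma val0_add (c c' : Cochain φ M 0) (q : U) : val0 (c + c') q = val0 c q + val0 c' q := rfl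

variable {φ M} in
lemma val0_zero (q : U) : val0 (0 : Cochain φ M 0) q = 0 := rfl

variable {φ M} in
lemma val0_smul (a : R) (c : Cochain φ M 0) (q : U) : val0 (a • c) q = φ.map q a • val0 c q := rfl

variable {φ M} in
lemma val0_ext {c c' : Cochain φ M 0} (h : ∀ q, val0 c q = val0 c' q) : c = c' := by
  funext σ
  rw [chain0_surj σ]
  exact h _

variable {φ M} in
lemma faceVal_eq (c : Cochain φ M 0) (σ : Chain U 1) (j : Fin 2) (τ : Chain U 0)
    (hτ : σ.face j = τ) (hle : (τ (Fin.last 0)).1 ≤ (σ (Fin.last 1)).1) :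
    c.faceVal σ j = M.res hle (c τ) := by
  subst hτ
  rfl

/-- The value of the differential on a `1`-chain. -/
def dval (c : Cochain φ M 0) (q q' : U) (h : q < q') : M.carrier q'.1 :=
  diff φ M 0 c (chain1 q q' h)

lemma dval_eq (c : Cochain φ M 0) (q q' : U) (h : q < q') :
    dval φ M c q q' h = val0 c q' - M.res (le_of_lt h : q.1 ≤ q'.1) (val0 c q) := by
  show (∑ j : Fin 2, ((-1 : ℤ) ^ (j : ℕ)) • c.faceVal (chain1 q q' h) j) = _
  rw [Fin.sum_univ_two]
  rw [faceVal_eq c (chain1 q q' h) 0 (chain0 q') (chain1_face_zero q q' h) (le_refl _),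
    faceVal_eq c (chain1 q q' h) 1 (chain0 q) (chain1_face_one q q' h) (le_of_lt h)]
  have e : M.res (le_refl q'.1) (val0 c q') = val0 c q' := M.res_self q'.1 _
  simp only [Fin.val_zero, pow_zero, one_smul, Fin.val_one, pow_one, neg_smul]
  rw [sub_eq_add_neg]
  exact congrArg (· + _) e

/-- A `0`-cochain is a cocycle iff it is a compatible family. -/
lemma mem_cocycles0_iff (c : Cochain φ M 0) :
    c ∈ cocycles φ M 0 ↔
      ∀ (q q' : U) (h : q.1 ≤ q'.1), M.res h (val0 c q) = val0 c q' := by
  constructor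
  · intro hc q q' h
    rcases eq_or_lt_of_le (show q ≤ q' from h) with rfl | hlt
    · exact M.res_self _ _
    · have h0 : diff φ M 0 c = 0 := hc
      have h1 := dval_eq φ M c q q' hlt
      have h2 : dval φ M c q q' hlt = 0 := congrFun h0 (chain1 q q' hlt)
      rw [h2] at h1
      exact (sub_eq_zero.1 h1.symm).symm
  · intro hc
    show diff φ M 0 c = 0
    funext σ
    rw [chain1_surj σ]
    have hlt : σ 0 < σ 1 := σ.strictMono (by decide)
    have h1 := dval_eq φ M c (σ 0) (σ 1) hlt
    rw [hc (σ 0) (σ 1) (le_of_lt hlt), sub_self] at h1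
    exact h1

end Groth.Agent.H8.SF
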