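import Mathlib
import Groth.Prelude.Def_SchFin
import Groth.Agent.Lib.Helper8.SchFin.H0b

set_option autoImplicit false

open TensorProduct

universe u

namespace Groth.Agent.H8.SF

open SchFin

variable {X : RSpace.{u}} {U : Set X.pt} {R : Type u} [CommRing R] (φ : Coef X U R) (M : OMod X)

/-- The section attached to a `0`-cocycle. -/
def cocycleToSect (c : cocycles φ M 0) : M.sect U :=
  ⟨fun q => val0 c.1 q, fun q q' h => (mem_cocycles0_iff φ M c.1).1 c.2 q q' h⟩

/-- The `0`-cochain attached to a family. -/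
def famToCochain (s : (q : U) → M.carrier q.1) : Cochain φ M 0 := fun σ => s (σ (Fin.last 0))

lemma val0_famToCochain (s : (q : U) → M.carrier q.1) (q : U) :
    val0 (famToCochain φ M s) q = s q := rfl

/-- The `0`-cocycle attached to a section. -/
def sectToCocycle (s : M.sect U) : cocycles φ M 0 :=
  ⟨famToCochain φ M s.1, (mem_cocycles0_iff φ M _).2 fun q q' h => s.2 q q' h⟩

lemma cocycleToSect_sectToCocycle (s : M.sect U) : cocycleToSect φ M (sectToCocycle φ M s) = s :=
  Subtype.ext rfl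

lemma sectToCocycle_cocycleToSect (c : cocycles φ M 0) :
    sectToCocycle φ M (cocycleToSect φ M c) = c :=
  Subtype.ext (val0_ext fun q => rfl)

lemma H_mk_zero_injective : Function.Injective (H.mk φ M 0) := by
  rw [← LinearMap.ker_eq_bot]
  show LinearMap.ker (Submodule.mkQ _) = ⊥
  rw [Submodule.ker_mkQ]
  rw [eq_bot_iff]
  intro c hc
  have : c.1 ∈ (⊥ : Submodule R (Cochain φ M 0)) := hc
  rw [Submodule.mem_bot] at this ⊢
  exact Subtype.ext this

lemma H_mk_surjective (n : ℕ) : Function.Surjective (H.mk φ M n) := Submodule.mkQ_surjective _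

/-- The value at a point of a class in `H⁰`. -/
noncomputable def h0val (z : H φ M 0) (q : U) : M.carrier q.1 :=
  val0 ((H_mk_surjective φ M 0 z).choose).1 q

lemma h0val_mk (c : cocycles φ M 0) (q : U) : h0val φ M (H.mk φ M 0 c) q = val0 c.1 q := by
  have := H_mk_zero_injective φ M ((H_mk_surjective φ M 0 (H.mk φ M 0 c)).choose_spec)
  unfold h0val
  rw [this]

lemma h0val_add (z z' : H φ M 0) (q : U) : h0val φ M (z + z') q = h0val φ M z q + h0val φ M z' q := by
  obtain ⟨c, rfl⟩ := H_mk_surjective φ M 0 z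
  obtain ⟨c', rfl⟩ := H_mk_surjective φ M 0 z'
  rw [← map_add, h0val_mk, h0val_mk, h0val_mk]
  rfl

lemma h0val_smul (a : R) (z : H φ M 0) (q : U) :
    h0val φ M (a • z) q = φ.map q a • h0val φ M z q := by
  obtain ⟨c, rfl⟩ := H_mk_surjective φ M 0 z
  rw [← map_smul, h0val_mk, h0val_mk]
  rfl

lemma h0val_res (z : H φ M 0) (q q' : U) (h : q.1 ≤ q'.1) :
    M.res h (h0val φ M z q) = h0val φ M z q' := by
  obtain ⟨c, rfl⟩ := H_mk_surjective φ M 0 z
  rw [h0val_mk, h0val_mk]
  exact (mem_cocycles0_iff φ M c.1).1 c.2 q q' h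

lemma h0val_ext {z z' : H φ M 0} (h : ∀ q, h0val φ M z q = h0val φ M z' q) : z = z' := by
  obtain ⟨c, rfl⟩ := H_mk_surjective φ M 0 z
  obtain ⟨c', rfl⟩ := H_mk_surjective φ M 0 z'
  congr 1
  apply Subtype.ext
  apply val0_ext
  intro q
  have := h q
  rwa [h0val_mk, h0val_mk] at this

/-- The class in `H⁰` of a compatible family. -/
noncomputable def h0mk (s : M.sect U) : H φ M 0 := H.mk φ M 0 (sectToCocycle φ M s)

lemma h0val_h0mk (s : M.sect U) (q : U) : h0val φ M (h0mk φ M s) q = s.1 q := by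
  unfold h0mk
  rw [h0val_mk]
  rfl

variable {φ} {U' : Set X.pt} {R' : Type u} [CommRing R'] {φ' : Coef X U' R'}

lemma h0val_resH (s : Coef.Sub φ φ') (z : H φ M 0) (q : U') :
    h0val φ' M (resH M s 0 z) q = h0val φ M z ⟨q.1, s.le q.2⟩ := by
  obtain ⟨c, rfl⟩ := H_mk_surjective φ M 0 z
  have : resH M s 0 (H.mk φ M 0 c) = H.mk φ' M 0 ⟨resCochain M s 0 c.1, by
      change diff φ' M 0 (resCochain M s 0 c.1) = 0
      rw [diff_resCochain, show diff φ M 0 c.1 = 0 from c.2, map_zero]⟩ := rfl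
  rw [this, h0val_mk, h0val_mk]
  rfl

end Groth.Agent.H8.SF
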