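import Mathlib
import Groth.Prelude.Def_SchFin
import Groth.Agent.Lib.Helper8.SchFin.H0c

set_option autoImplicit false

open TensorProduct

universe u

namespace Groth.Agent.H8.SF

open SchFin

/-- The universal property of a base change along a ring map. -/
theorem IsBCAlong.exists_lift {R S : Type u} [CommRing R] [CommRing S] (g : R →+* S)
    {M N : Type u} [AddCommGroup M] [AddCommGroup N] [Module R M] [Module S N]
    (f : M →ₛₗ[g] N) (h : IsBCAlong g f) {Q : Type u} [AddCommGroup Q] [Module S Q]
    (ψ : M →ₛₗ[g] Q) : ∃ L : N →ₗ[S] Q, ∀ m, L (f m) = ψ m := by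
  letI : Algebra R S := g.toAlgebra
  letI : Module R N := Module.compHom N g
  haveI : IsScalarTower R S N := IsScalarTower.of_algebraMap_smul fun _ _ => rfl
  letI : Module R Q := Module.compHom Q g
  haveI : IsScalarTower R S Q := IsScalarTower.of_algebraMap_smul fun _ _ => rfl
  have h' : IsBaseChange S
    ({ toFun := f, map_add' := f.map_add, map_smul' := f.map_smulₛₗ } : M →ₗ[R] N) := h
  refine ⟨h'.lift ({ toFun := ψ, map_add' := ψ.map_add, map_smul' := ψ.map_smulₛₗ } : M →ₗ[R] Q),
    fun m => ?_⟩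
  exact h'.lift_eq _ m

variable {X : RSpace.{u}}

lemma mem_wedge_id {x y : X.pt} (h : x ≤ y) : y ∈ (Hom.id X).wedge x y := ⟨h, le_refl y⟩

lemma wedge_id_subset_up (x y : X.pt) : (Hom.id X).wedge x y ⊆ X.up y := fun _ hq => hq.2

/-- In a schematic finite space the restriction maps are epimorphisms of rings. -/
theorem ringHom_ext_of_comp_res_eq (hX : X.IsSchematic) {x y : X.pt} (h : x ≤ y)
    {T : Type u} [CommRing T] (g₁ g₂ : X.ring y →+* T)
    (hg : g₁.comp (X.res h) = g₂.comp (X.res h)) : g₁ = g₂ := by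
  have hBC := (hX.2.2 0 x y h y y (le_refl y)).1
  letI : Module (X.ring y) T := Module.compHom T g₁
  have smul_def : ∀ (b : X.ring y) (t : T), b • t = g₁ b * t := fun _ _ => rfl
  -- the semilinear map `ψ`
  let φx := Coef.ofLE x ((Hom.id X).wedge x y) ((Hom.id X).wedge_subset_up x y)
  let φy := Coef.ofLE y ((Hom.id X).wedge y y) ((Hom.id X).wedge_subset_up y y)
  let ψ : H φx X.str 0 →ₛₗ[X.res h] T :=
    { toFun := fun z => g₂ (h0val φx X.str z ⟨y, mem_wedge_id h⟩)
      map_add' := fun z z' => by
        rw [h0val_add]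
        exact map_add g₂ _ _
      map_smul' := fun a z => by
        rw [h0val_smul, smul_def]
        show g₂ (X.res h a * _) = g₁ (X.res h a) * _
        rw [map_mul]
        congr 1
        exact (RingHom.congr_fun hg a).symm }
  obtain ⟨L, hL⟩ := IsBCAlong.exists_lift (X.res h) _ hBC ψ
  -- the classes `z_b` and `w_b`
  let zb : X.ring y → H φx X.str 0 := fun b =>
    h0mk φx X.str (X.str.resSect y _ (wedge_id_subset_up x y) b)
  let wb : X.ring y → H φy X.str 0 := fun b =>
    h0mk φy X.str (X.str.resSect y _ (wedge_id_subset_up y y) b)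
  have h1 : ∀ b, resH X.str ((Hom.id X).subSrc h y) 0 (zb b) = wb b := by
    intro b
    apply h0val_ext
    intro q
    rw [h0val_resH, h0val_h0mk, h0val_h0mk]
    rfl
  have h2 : ∀ b, wb b = b • wb 1 := by
    intro b
    apply h0val_ext
    intro q
    rw [h0val_smul, h0val_h0mk, h0val_h0mk]
    show X.res _ b = X.res _ b * X.res _ 1
    rw [map_one, mul_one]
  have h3 : ∀ b, ψ (zb b) = g₂ b := by
    intro b
    show g₂ (h0val φx X.str (zb b) ⟨y, mem_wedge_id h⟩) = g₂ b
    rw [h0val_h0mk]
    show g₂ (X.res _ b) = g₂ b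
    rw [X.res_self]
  ext b
  have e0 : ∀ c, L (wb c) = g₂ c := fun c => by
    rw [← h1]
    exact (hL (zb c)).trans (h3 c)
  have e2 : L (wb b) = g₁ b := by
    rw [h2 b, map_smul, smul_def, e0 1, map_one, mul_one]
  rw [← e2, e0 b]

/-- The restriction maps of a schematic finite space are epimorphisms (`Algebra.IsEpi`). -/
theorem isEpi_res (hX : X.IsSchematic) {x y : X.pt} (h : x ≤ y) :
    letI := (X.res h).toAlgebra
    Algebra.IsEpi (X.ring x) (X.ring y) := by
  letI := (X.res h).toAlgebra
  rw [Algebra.isEpi_iff_forall_one_tmul_eq]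
  intro b
  have := ringHom_ext_of_comp_res_eq hX h
    (Algebra.TensorProduct.includeRight (R := X.ring x) (A := X.ring y) (B := X.ring y)).toRingHom
    (Algebra.TensorProduct.includeLeftRingHom (R := X.ring x) (A := X.ring y) (B := X.ring y))
    (by
      ext a
      show (1 : X.ring y) ⊗ₜ[X.ring x] (X.res h a) = (X.res h a) ⊗ₜ[X.ring x] (1 : X.ring y)
      have e : X.res h a = a • (1 : X.ring y) := by
        rw [Algebra.smul_def, mul_one]; rfl
      rw [e, TensorProduct.tmul_smul, TensorProduct.smul_tmul'])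
  exact RingHom.congr_fun this b

end Groth.Agent.H8.SF
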