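import Mathlib

/-! # Extending homomorphisms to an algebraically closed field along finite injective maps -/

set_option autoImplicit false

universe u

namespace Groth.Agent.H8.SF

theorem exists_algHom_extension {R A B Ω : Type u} [CommRing R] [CommRing A] [CommRing B]
    [Field Ω] [IsAlgClosed Ω] [Algebra R A] [Algebra R B] [Algebra R Ω] [Module.Finite R A]
    (f : B →ₐ[R] A) (hf : Function.Injective f) (β : B →ₐ[R] Ω) :
    ∃ α : A →ₐ[R] Ω, α.comp f = β := by
  letI : Algebra B A := f.toRingHom.toAlgebra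
  haveI : IsScalarTower R B A := IsScalarTower.of_algebraMap_eq fun r => (f.commutes r).symm
  haveI : Module.Finite B A := Module.Finite.of_restrictScalars_finite R B A
  haveI : Algebra.IsIntegral B A := Algebra.IsIntegral.of_finite B A
  haveI h𝔭prime : (RingHom.ker β.toRingHom).IsPrime := RingHom.ker_isPrime _
  obtain ⟨𝔮, -, h𝔮prime, h𝔮⟩ := Ideal.exists_ideal_over_prime_of_isIntegral
    (RingHom.ker β.toRingHom) (⊥ : Ideal A) (by
      intro b hb
      have hb' : f b = 0 := hb
      have : b = 0 := hf (hb'.trans (map_zero f).symm)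
      rw [this]
      exact Ideal.zero_mem _)
  haveI := h𝔮prime
  haveI : (𝔮.comap (algebraMap B A)).IsPrime := Ideal.comap_isPrime _ _
  have hmem : ∀ b, b ∈ 𝔮.comap (algebraMap B A) ↔ β b = 0 := by
    intro b
    rw [h𝔮]
    exact Iff.rfl
  letI : Algebra (B ⧸ 𝔮.comap (algebraMap B A)) Ω :=
    (Ideal.Quotient.lift (𝔮.comap (algebraMap B A)) β.toRingHom
      (fun b hb => (hmem b).1 hb)).toAlgebra
  have hΩ : ∀ b : B, algebraMap (B ⧸ 𝔮.comap (algebraMap B A)) Ω
      (Ideal.Quotient.mk _ b) = β b := fun b => rfl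
  haveI : Module.IsTorsionFree (B ⧸ 𝔮.comap (algebraMap B A)) (A ⧸ 𝔮) :=
    Module.isTorsionFree_iff_algebraMap_injective.2 Ideal.algebraMap_quotient_injective
  haveI : Module.IsTorsionFree (B ⧸ 𝔮.comap (algebraMap B A)) Ω := by
    rw [Module.isTorsionFree_iff_algebraMap_injective, injective_iff_map_eq_zero]
    intro x hx
    obtain ⟨b, rfl⟩ := Ideal.Quotient.mk_surjective x
    rw [hΩ] at hx
    exact Ideal.Quotient.eq_zero_iff_mem.2 ((hmem b).2 hx)
  haveI : Algebra.IsIntegral (B ⧸ 𝔮.comap (algebraMap B A)) (A ⧸ 𝔮) := inferInstance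
  haveI : Algebra.IsAlgebraic (B ⧸ 𝔮.comap (algebraMap B A)) (A ⧸ 𝔮) := inferInstance
  let l : A ⧸ 𝔮 →ₐ[B ⧸ 𝔮.comap (algebraMap B A)] Ω := IsAlgClosed.lift
  have hl : ∀ b : B, l (Ideal.Quotient.mk 𝔮 (f b)) = β b := by
    intro b
    have := l.commutes (Ideal.Quotient.mk _ b)
    rw [hΩ] at this
    exact this
  refine ⟨{ toRingHom := l.toRingHom.comp (Ideal.Quotient.mk 𝔮)
            commutes' := fun r => ?_ }, ?_⟩
  · show l (Ideal.Quotient.mk 𝔮 (algebraMap R A r)) = algebraMap R Ω r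
    rw [← f.commutes r, hl, β.commutes]
  · apply AlgHom.ext
    intro b
    exact hl b

end Groth.Agent.H8.SF
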