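import Mathlib
import Groth.Prelude.Def_SchFin
import Groth.Prelude.Def_SchFin2
import Groth.Agent.Lib.Helper8.SchFin.BC

/-! # Kernels commute with flat base change (in `IsBCAlong` form) -/

set_option autoImplicit false

open TensorProduct

universe u

namespace Groth.Agent.H8.SF

open SchFin

section

variable {R S : Type u} [CommRing R] [CommRing S] {g : R →+* S}
  {M M' N N' : Type u} [AddCommGroup M] [AddCommGroup M'] [AddCommGroup N] [AddCommGroup N']
  [Module R M] [Module R M'] [Module S N] [Module S N']
  {fM : M →ₛₗ[g] N} {fM' : M' →ₛₗ[g] N'}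

/-- Kernels commute with flat base change. -/
theorem ker_le_span_of_isBCAlong (hg : g.Flat) (hM : IsBCAlong g fM) (hM' : IsBCAlong g fM')
    (φ : M →ₗ[R] M') (φ' : N →ₗ[S] N') (hφ : ∀ m, φ' (fM m) = fM' (φ m)) :
    LinearMap.ker φ' ≤ Submodule.span S (fM '' (LinearMap.ker φ : Set M)) := by
  letI : Algebra R S := g.toAlgebra
  haveI : Module.Flat R S := hg
  letI : Module R N := Module.compHom N g
  haveI : IsScalarTower R S N := IsScalarTower.of_algebraMap_smul fun _ _ => rfl
  letI : Module R N' := Module.compHom N' g
  haveI : IsScalarTower R S N' := IsScalarTower.of_algebraMap_smul fun _ _ => rfl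
  have hM₀ : IsBaseChange S
    ({ toFun := fM, map_add' := fM.map_add, map_smul' := fM.map_smulₛₗ } : M →ₗ[R] N) := hM
  have hM'₀ : IsBaseChange S
    ({ toFun := fM', map_add' := fM'.map_add, map_smul' := fM'.map_smulₛₗ } : M' →ₗ[R] N') := hM'
  intro x hx
  -- the square
  have hsq : ∀ y : S ⊗[R] M, φ' (hM₀.equiv y) = hM'₀.equiv (LinearMap.lTensor S φ y) := by
    intro y
    induction y using TensorProduct.induction_on with
    | zero => simp only [map_zero]
    | tmul s m =>
        rw [LinearMap.lTensor_tmul, IsBaseChange.equiv_tmul, IsBaseChange.equiv_tmul, map_smul]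
        exact congrArg (s • ·) (hφ m)
    | add y y' hy hy' => simp only [map_add, hy, hy']
  have hy0 : LinearMap.lTensor S φ (hM₀.equiv.symm x) = 0 := by
    apply hM'₀.equiv.injective
    rw [← hsq, LinearEquiv.apply_symm_apply, map_zero]
    exact hx
  have hex : Function.Exact (LinearMap.lTensor S (LinearMap.ker φ).subtype)
      (LinearMap.lTensor S φ) :=
    Module.Flat.lTensor_exact S (LinearMap.exact_subtype_ker_map φ)
  have key : ∀ z : S ⊗[R] (LinearMap.ker φ),
      hM₀.equiv (LinearMap.lTensor S (LinearMap.ker φ).subtype z) ∈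
        Submodule.span S (fM '' (LinearMap.ker φ : Set M)) := by
    intro z
    induction z using TensorProduct.induction_on with
    | zero => simp only [map_zero]; exact Submodule.zero_mem _
    | tmul s k =>
        rw [LinearMap.lTensor_tmul, IsBaseChange.equiv_tmul]
        exact Submodule.smul_mem _ _ (Submodule.subset_span ⟨k.1, k.2, rfl⟩)
    | add y y' hy hy' =>
        simp only [map_add]
        exact Submodule.add_mem _ hy hy'
  obtain ⟨z, hz⟩ := (hex _).1 hy0
  have hxz : x = hM₀.equiv (LinearMap.lTensor S (LinearMap.ker φ).subtype z) := by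
    rw [hz, LinearEquiv.apply_symm_apply]
  rw [hxz]
  exact key z

end

end Groth.Agent.H8.SF
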