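import Mathlib
import Groth.Prelude.Def_SchFin
import Groth.Prelude.Def_SchFin2
import Groth.Agent.Lib.Helper8.SchFin.BC
import Groth.Agent.Lib.Helper8.SchFin.KerBC
import Groth.Agent.Lib.Helper8.SchFin.AnnIdem

/-! # The compatible family of idempotents generating the kernel of a map of étale covers -/

set_option autoImplicit false

open TensorProduct CategoryTheory

universe u

namespace Groth.Agent.H8.SF

open SchFin

variable {X : RSpace.{u}}

theorem exists_kerIdem (hX : X.IsFinSp) {A B : Alg X} (hA : A.IsEtCover) (hB : B.IsEtCover)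
    (f : A ⟶ B) :
    ∃ e : ∀ p, A.carrier p, (∀ p, IsIdempotentElem (e p)) ∧
      (∀ p, RingHom.ker (f.app p).toRingHom = Ideal.span {e p}) ∧
      ∀ (p q : X.pt) (h : p ≤ q), A.res h (e p) = e q := by
  have hex : ∀ p, ∃ e : A.carrier p, IsIdempotentElem e ∧
      RingHom.ker (f.app p).toRingHom = Ideal.span {e} := by
    intro p
    haveI := (hA.2 p).1
    haveI := (hA.2 p).2
    haveI := (hB.2 p).1
    haveI := (hB.2 p).2
    exact exists_idempotent_ker (f.app p)
  choose e he hker using hex
  refine ⟨e, he, hker, fun p q h => ?_⟩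
  have hres : IsIdempotentElem (A.res h (e p)) := (he p).map (A.res h)
  refine idempotent_generator_unique hres (he q) ?_
  rw [← hker q]
  apply le_antisymm
  · rw [Ideal.span_singleton_le_iff_mem, RingHom.mem_ker]
    show (f.app q) (A.res h (e p)) = 0
    rw [← f.compat h]
    have : (f.app p) (e p) = 0 := by
      have : e p ∈ RingHom.ker (f.app p).toRingHom := by
        rw [hker p]; exact Ideal.subset_span rfl
      exact this
    rw [this, map_zero]
  · intro x hx
    have hK := ker_le_span_of_isBCAlong (hX.2 p q h) (hA.1 p q h) (hB.1 p q h)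
      (f.app p).toLinearMap (f.app q).toLinearMap (fun m => (f.compat h m).symm)
    have hx' : x ∈ LinearMap.ker (f.app q).toLinearMap := hx
    have hle : Submodule.span (X.ring q)
        ((A.toMod.res h) '' (LinearMap.ker (f.app p).toLinearMap : Set (A.carrier p))) ≤
        (Ideal.span {A.res h (e p)}).restrictScalars (X.ring q) := by
      rw [Submodule.span_le]
      rintro _ ⟨(a : A.carrier p), ha, rfl⟩
      have ha' : a ∈ Ideal.span {e p} := by
        rw [← hker p]; exact ha
      obtain ⟨c, rfl⟩ := Ideal.mem_span_singleton'.1 ha'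
      show A.res h (c * e p) ∈ Ideal.span {A.res h (e p)}
      rw [map_mul]
      exact Ideal.mul_mem_left _ _ (Ideal.subset_span rfl)
    exact hle (hK hx')

end Groth.Agent.H8.SF
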