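import Mathlib
import Groth.Prelude.Def_SchFin
import Groth.Prelude.Def_SchFin2
import Groth.Agent.Lib.Helper8.SchFin.AlgProd
import Groth.Agent.Lib.Helper8.SchFin.AlgQuot
import Groth.Agent.Lib.Helper8.SchFin.KerIdem

/-! # Image factorisation and direct factors for étale covers -/

set_option autoImplicit false

open TensorProduct CategoryTheory CategoryTheory.Limits

universe u

namespace Groth.Agent.H8.SF

open SchFin

variable {X : RSpace.{u}}

/-- image factorisation -/
theorem exists_image_factorisation (hX : X.IsSchematic) {A B : FEt X} (f : A ⟶ B) :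
    ∃ (Q : FEt X) (g : A ⟶ Q) (h : Q ⟶ B), g ≫ h = f ∧
      (∀ p : X.pt, Function.Surjective (g.hom.app p)) ∧
      ∀ p : X.pt, Function.Injective (h.hom.app p) := by
  obtain ⟨e, he, hker, hc⟩ := exists_kerIdem hX.1 A.property B.property f.hom
  have hfe : ∀ p, (f.hom.app p) (e p) = 0 := by
    intro p
    have : e p ∈ RingHom.ker (f.hom.app p).toRingHom := by
      rw [hker p]; exact Ideal.subset_span rfl
    exact this
  refine ⟨⟨algQuot A.obj e hc, algQuot_isEtCover A.property e he hc⟩,
    ObjectProperty.homMk (algQuotMk A.obj e hc),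
    ObjectProperty.homMk (algQuotLift e hc f.hom hfe), ?_, ?_, ?_⟩
  · apply ObjectProperty.hom_ext
    apply Alg.hom_ext
    intro p
    apply AlgHom.ext
    intro x
    rfl
  · intro p
    exact Ideal.Quotient.mk_surjective
  · intro p
    rw [injective_iff_map_eq_zero]
    intro b hb
    obtain ⟨a, rfl⟩ := Ideal.Quotient.mk_surjective b
    have h1 : (f.hom.app p) a = 0 := hb
    have h2 : a ∈ RingHom.ker (f.hom.app p).toRingHom := h1
    rw [hker p] at h2
    exact Ideal.Quotient.eq_zero_iff_mem.2 h2

/-- a fan which is pointwise a product decomposition is a limit -/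
noncomputable def isLimitOfBijective {A B D : FEt X} (f : A ⟶ B) (π : A ⟶ D)
    (hb : ∀ p, Function.Bijective (AlgHom.prod (f.hom.app p) (π.hom.app p))) :
    IsLimit (BinaryFan.mk f π) :=
  BinaryFan.IsLimit.mk _
    (fun {T} u v => ObjectProperty.homMk
      ⟨fun p => (AlgEquiv.ofBijective _ (hb p)).symm.toAlgHom.comp
          (AlgHom.prod (u.hom.app p) (v.hom.app p)),
        fun {p q} h t => by
          apply (hb q).1
          show AlgEquiv.ofBijective _ (hb q) (A.obj.res h ((AlgEquiv.ofBijective _ (hb p)).symm
              (u.hom.app p t, v.hom.app p t))) =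
            AlgEquiv.ofBijective _ (hb q) ((AlgEquiv.ofBijective _ (hb q)).symm
              (u.hom.app q (T.obj.res h t), v.hom.app q (T.obj.res h t)))
          rw [AlgEquiv.apply_symm_apply]
          set a := (AlgEquiv.ofBijective _ (hb p)).symm (u.hom.app p t, v.hom.app p t) with ha
          have ha' : (AlgEquiv.ofBijective _ (hb p)) a = (u.hom.app p t, v.hom.app p t) := by
            rw [ha, AlgEquiv.apply_symm_apply]
          have h1 : f.hom.app p a = u.hom.app p t := congrArg Prod.fst ha'
          have h2 : π.hom.app p a = v.hom.app p t := congrArg Prod.snd ha'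
          refine Prod.ext ?_ ?_
          · show f.hom.app q (A.obj.res h a) = u.hom.app q (T.obj.res h t)
            rw [← f.hom.compat, h1, u.hom.compat]
          · show π.hom.app q (A.obj.res h a) = v.hom.app q (T.obj.res h t)
            rw [← π.hom.compat, h2, v.hom.compat]⟩)
    (fun {T} u v => by
      apply ObjectProperty.hom_ext
      apply Alg.hom_ext
      intro p
      apply AlgHom.ext
      intro t
      have := (AlgEquiv.ofBijective _ (hb p)).apply_symm_apply (u.hom.app p t, v.hom.app p t)
      exact congrArg Prod.fst this)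
    (fun {T} u v => by
      apply ObjectProperty.hom_ext
      apply Alg.hom_ext
      intro p
      apply AlgHom.ext
      intro t
      have := (AlgEquiv.ofBijective _ (hb p)).apply_symm_apply (u.hom.app p t, v.hom.app p t)
      exact congrArg Prod.snd this)
    (fun {T} u v m h₁ h₂ => by
      apply ObjectProperty.hom_ext
      apply Alg.hom_ext
      intro p
      apply AlgHom.ext
      intro t
      subst h₁ h₂
      apply (hb p).1
      have := (AlgEquiv.ofBijective _ (hb p)).apply_symm_apply
        (f.hom.app p (m.hom.app p t), π.hom.app p (m.hom.app p t))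
      exact this.symm)

/-- a pointwise surjective morphism splits off a direct factor -/
theorem exists_complement (hX : X.IsSchematic) {A B : FEt X} (f : A ⟶ B)
    (hf : ∀ p : X.pt, Function.Surjective (f.hom.app p)) :
    ∃ (D : FEt X) (π : A ⟶ D), Nonempty (IsLimit (BinaryFan.mk f π)) := by
  obtain ⟨e, he, hker, hc⟩ := exists_kerIdem hX.1 A.property B.property f.hom
  have hfe : ∀ p, (f.hom.app p) (e p) = 0 := by
    intro p
    have : e p ∈ RingHom.ker (f.hom.app p).toRingHom := by
      rw [hker p]; exact Ideal.subset_span rfl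
    exact this
  have hc' : ∀ (p q : X.pt) (h : p ≤ q), A.obj.res h (1 - e p) = 1 - e q := by
    intro p q h
    rw [map_sub, map_one, hc p q h]
  refine ⟨⟨algQuot A.obj (fun p => 1 - e p) hc',
    algQuot_isEtCover A.property _ (fun p => (he p).one_sub) hc'⟩,
    ObjectProperty.homMk (algQuotMk A.obj _ hc'), ⟨isLimitOfBijective _ _ fun p => ⟨?_, ?_⟩⟩⟩
  · rw [injective_iff_map_eq_zero]
    intro a ha
    have h1 : (f.hom.app p) a = 0 := congrArg Prod.fst ha
    have h2 : Ideal.Quotient.mk (Ideal.span {1 - e p}) a = 0 := congrArg Prod.snd ha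
    have h1' : a ∈ RingHom.ker (f.hom.app p).toRingHom := h1
    rw [hker p] at h1'
    obtain ⟨c, rfl⟩ := Ideal.mem_span_singleton'.1 h1'
    obtain ⟨d, hd⟩ := Ideal.mem_span_singleton'.1 (Ideal.Quotient.eq_zero_iff_mem.1 h2)
    have hee := (he p).eq
    calc c * e p = c * e p * e p := by rw [mul_assoc, hee]
      _ = d * (1 - e p) * e p := by rw [hd]
      _ = 0 := by rw [mul_assoc, sub_mul, one_mul, hee, sub_self, mul_zero]
  · rintro ⟨b, d⟩
    obtain ⟨a₀, rfl⟩ := hf p b
    obtain ⟨a', rfl⟩ := Ideal.Quotient.mk_surjective d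
    refine ⟨(1 - e p) * a₀ + e p * a', Prod.ext ?_ ?_⟩
    · show (f.hom.app p) ((1 - e p) * a₀ + e p * a') = (f.hom.app p) a₀
      rw [map_add, map_mul, map_mul, map_sub, map_one, hfe p]
      ring
    · show Ideal.Quotient.mk (Ideal.span {1 - e p}) ((1 - e p) * a₀ + e p * a') =
        Ideal.Quotient.mk (Ideal.span {1 - e p}) a'
      rw [Ideal.Quotient.eq]
      refine Ideal.mem_span_singleton'.2 ⟨a₀ - a', ?_⟩
      ring

end Groth.Agent.H8.SF
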