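import Mathlib

/-! # Geometric fibres of finite étale algebras as Hom sets -/

set_option autoImplicit false

open TensorProduct

universe u

namespace Groth.Agent.H8.SF

section

variable {R : Type u} [CommRing R] {Ω : Type u} [Field Ω] [IsAlgClosed Ω] [Algebra R Ω]

/-- points of the geometric fibre as homomorphisms to the field -/
noncomputable def homEquivSpec (A : Type u) [CommRing A] [Algebra R A] [Module.Finite R A]
    [Algebra.Etale R A] : (A →ₐ[R] Ω) ≃ PrimeSpectrum (Ω ⊗[R] A) :=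
  (Algebra.TensorProduct.liftEquivRight (R := R) (S := Ω) (B := A) Ω).trans
    (Algebra.IsFiniteSplit.algHomEquivPrimeSpectrum Ω (Ω ⊗[R] A))

theorem homEquivSpec_comap {A B : Type u} [CommRing A] [Algebra R A] [Module.Finite R A]
    [Algebra.Etale R A] [CommRing B] [Algebra R B] [Module.Finite R B] [Algebra.Etale R B]
    (f : A →ₐ[R] B) (φ : B →ₐ[R] Ω) :
    PrimeSpectrum.comap (Algebra.TensorProduct.map (AlgHom.id Ω Ω) f).toRingHom
      (homEquivSpec B φ) = homEquivSpec A (φ.comp f) := by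
  apply PrimeSpectrum.ext
  show Ideal.comap (Algebra.TensorProduct.map (AlgHom.id Ω Ω) f).toRingHom
    (RingHom.ker (Algebra.TensorProduct.liftEquivRight (R := R) (S := Ω) (B := B) Ω φ)) =
    RingHom.ker (Algebra.TensorProduct.liftEquivRight (R := R) (S := Ω) (B := A) Ω (φ.comp f))
  have h : (Algebra.TensorProduct.liftEquivRight (R := R) (S := Ω) (B := B) Ω φ).comp
      (Algebra.TensorProduct.map (AlgHom.id Ω Ω) f) =
      Algebra.TensorProduct.liftEquivRight (R := R) (S := Ω) (B := A) Ω (φ.comp f) := by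
    apply Algebra.TensorProduct.ext
    · ext
    · ext a
      simp
  rw [← h]
  rfl

end

end Groth.Agent.H8.SF

namespace Groth.Agent.H8.SF

section

variable {R : Type u} [CommRing R] {Ω : Type u} [Field Ω] [IsAlgClosed Ω] [Algebra R Ω]

/-- abbreviation: the map on geometric fibres induced by an algebra map -/
noncomputable abbrev specMap {A B : Type u} [CommRing A] [Algebra R A] [CommRing B] [Algebra R B]
    (f : A →ₐ[R] B) : PrimeSpectrum (Ω ⊗[R] B) → PrimeSpectrum (Ω ⊗[R] A) :=
  PrimeSpectrum.comap (Algebra.TensorProduct.map (AlgHom.id Ω Ω) f).toRingHom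

variable {A B C P : Type u} [CommRing A] [Algebra R A] [Module.Finite R A] [Algebra.Etale R A]
  [CommRing B] [Algebra R B] [Module.Finite R B] [Algebra.Etale R B]
  [CommRing C] [Algebra R C] [Module.Finite R C] [Algebra.Etale R C]
  [CommRing P] [Algebra R P] [Module.Finite R P] [Algebra.Etale R P]

theorem specMap_homEquivSpec (f : A →ₐ[R] B) (φ : B →ₐ[R] Ω) :
    specMap (Ω := Ω) f (homEquivSpec B φ) = homEquivSpec A (φ.comp f) :=
  homEquivSpec_comap f φ

theorem specMap_eq_iff (f : A →ₐ[R] B) (φ : B →ₐ[R] Ω) (α : A →ₐ[R] Ω) :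
    specMap (Ω := Ω) f (homEquivSpec B φ) = homEquivSpec A α ↔ φ.comp f = α := by
  rw [specMap_homEquivSpec, (homEquivSpec A).apply_eq_iff_eq]

/-- pullback property of the fibres of a pushout -/
theorem spec_pullback (f : C →ₐ[R] A) (g : C →ₐ[R] B) (inl : A →ₐ[R] P) (inr : B →ₐ[R] P)
    (hex : ∀ (α : A →ₐ[R] Ω) (β : B →ₐ[R] Ω), α.comp f = β.comp g →
      ∃ φ : P →ₐ[R] Ω, φ.comp inl = α ∧ φ.comp inr = β)
    (huniq : ∀ φ φ' : P →ₐ[R] Ω, φ.comp inl = φ'.comp inl → φ.comp inr = φ'.comp inr → φ = φ') :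
    (∀ y y' : PrimeSpectrum (Ω ⊗[R] P), specMap inl y = specMap inl y' ∧
      specMap inr y = specMap inr y' → y = y') ∧
    ∀ (a : PrimeSpectrum (Ω ⊗[R] A)) (b : PrimeSpectrum (Ω ⊗[R] B)),
      specMap f a = specMap g b → ∃ y : PrimeSpectrum (Ω ⊗[R] P), specMap inl y = a ∧
        specMap inr y = b := by
  constructor
  · intro y y' ⟨h1, h2⟩
    obtain ⟨φ, rfl⟩ := (homEquivSpec (R := R) (Ω := Ω) P).surjective y
    obtain ⟨φ', rfl⟩ := (homEquivSpec (R := R) (Ω := Ω) P).surjective y'
    rw [specMap_homEquivSpec, specMap_homEquivSpec, (homEquivSpec A).apply_eq_iff_eq] at h1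
    rw [specMap_homEquivSpec, specMap_homEquivSpec, (homEquivSpec B).apply_eq_iff_eq] at h2
    rw [huniq φ φ' h1 h2]
  · intro a b hab
    obtain ⟨α, rfl⟩ := (homEquivSpec (R := R) (Ω := Ω) A).surjective a
    obtain ⟨β, rfl⟩ := (homEquivSpec (R := R) (Ω := Ω) B).surjective b
    rw [specMap_homEquivSpec, specMap_homEquivSpec, (homEquivSpec C).apply_eq_iff_eq] at hab
    obtain ⟨φ, h1, h2⟩ := hex α β hab
    exact ⟨homEquivSpec P φ, (specMap_eq_iff inl φ α).2 h1, (specMap_eq_iff inr φ β).2 h2⟩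

/-- the fibre of the base ring is a point -/
theorem spec_self_unique : Nonempty (Unique (PrimeSpectrum (Ω ⊗[R] R))) := by
  haveI : Unique (R →ₐ[R] Ω) :=
    { default := Algebra.ofId R Ω
      uniq := fun φ => AlgHom.ext fun r => (φ.commutes r).trans rfl }
  exact ⟨(homEquivSpec (R := R) (Ω := Ω) R).symm.unique⟩

/-- the fibre of the zero ring is empty -/
theorem spec_subsingleton_isEmpty (Z : Type u) [CommRing Z] [Algebra R Z] [Subsingleton Z] :
    IsEmpty (PrimeSpectrum (Ω ⊗[R] Z)) := by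
  haveI : Subsingleton (Ω ⊗[R] Z) := by
    refine ⟨fun x y => ?_⟩
    have h : ∀ t : Ω ⊗[R] Z, t = 0 := by
      intro t
      induction t using TensorProduct.induction_on with
      | zero => rfl
      | tmul a z => rw [Subsingleton.elim z 0, TensorProduct.tmul_zero]
      | add s t hs ht => rw [hs, ht, add_zero]
    rw [h x, h y]
  infer_instance

end

end Groth.Agent.H8.SF
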