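import Mathlib
import Groth.Agent.Lib.Helper8.SchFin.FibHom
import Groth.Agent.Lib.Helper8.SchFin.ExtHom
import Groth.Agent.Lib.Helper8.SchFin.EtaleProd

/-! # Geometric fibres: products and injective maps -/

set_option autoImplicit false

open TensorProduct

universe u

namespace Groth.Agent.H8.SF

section

variable {R : Type u} [CommRing R] {Ω : Type u} [Field Ω] [IsAlgClosed Ω] [Algebra R Ω]

variable {A B : Type u} [CommRing A] [Algebra R A] [Module.Finite R A] [Algebra.Etale R A]
  [CommRing B] [Algebra R B] [Module.Finite R B] [Algebra.Etale R B]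

/-- injective maps induce surjections on geometric fibres -/
theorem specMap_surjective_of_injective (f : B →ₐ[R] A) (hf : Function.Injective f) :
    Function.Surjective (specMap (Ω := Ω) f) := by
  intro b
  obtain ⟨β, rfl⟩ := (homEquivSpec (R := R) (Ω := Ω) B).surjective b
  obtain ⟨α, hα⟩ := exists_algHom_extension f hf β
  exact ⟨homEquivSpec A α, (specMap_eq_iff f α β).2 hα⟩

/-- a hom from a product to a field factors through exactly one factor -/
theorem prod_hom_factor (φ : (A × B) →ₐ[R] Ω) :
    (∃ α : A →ₐ[R] Ω, α.comp (AlgHom.fst R A B) = φ) ∨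
      (∃ β : B →ₐ[R] Ω, β.comp (AlgHom.snd R A B) = φ) := by
  have he : φ (1, 0) * φ (1, 0) = φ (1, 0) := by
    rw [← map_mul]; congr 1; simp
  have h01 : φ (1, 0) = 0 ∨ φ (1, 0) = 1 := by
    have : φ (1, 0) * (φ (1, 0) - 1) = 0 := by rw [mul_sub, he, mul_one, sub_self]
    rcases mul_eq_zero.1 this with h | h
    · exact Or.inl h
    · exact Or.inr (sub_eq_zero.1 h)
  rcases h01 with h0 | h1
  · right
    have h1' : φ (0, 1) = 1 := by
      have : φ ((1, 0) + (0, 1)) = 1 := by
        have : ((1, 0) + (0, 1) : A × B) = 1 := by ext <;> simp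
        rw [this, map_one]
      rwa [map_add, h0, zero_add] at this
    refine ⟨{ toFun := fun b => φ (0, b)
              map_one' := h1'
              map_mul' := fun b b' => by rw [← map_mul]; congr 1; simp
              map_zero' := by
                have : ((0, 0) : A × B) = 0 := rfl
                rw [this, map_zero]
              map_add' := fun b b' => by rw [← map_add]; congr 1; simp
              commutes' := fun r => by
                have : ((0, algebraMap R B r) : A × B) = (algebraMap R (A × B) r) * (0, 1) := by
                  ext <;> simp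
                rw [this, map_mul, h1', mul_one, φ.commutes] }, ?_⟩
    apply AlgHom.ext
    rintro ⟨a, b⟩
    show φ (0, b) = φ (a, b)
    have : ((a, b) : A × B) = (a, b) * (1, 0) + (0, b) := by ext <;> simp
    rw [this, map_add, map_mul, h0, mul_zero, zero_add]
  · left
    refine ⟨{ toFun := fun a => φ (a, 0)
              map_one' := h1
              map_mul' := fun a a' => by rw [← map_mul]; congr 1; simp
              map_zero' := by
                have : ((0, 0) : A × B) = 0 := rfl
                rw [this, map_zero]
              map_add' := fun a a' => by rw [← map_add]; congr 1; simp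
              commutes' := fun r => by
                have : ((algebraMap R A r, 0) : A × B) = (algebraMap R (A × B) r) * (1, 0) := by
                  ext <;> simp
                rw [this, map_mul, h1, mul_one, φ.commutes] }, ?_⟩
    apply AlgHom.ext
    rintro ⟨a, b⟩
    show φ (a, 0) = φ (a, b)
    have : ((a, 0) : A × B) = (a, b) * (1, 0) := by ext <;> simp
    rw [this, map_mul, h1, mul_one]

/-- the fibre of a product is the disjoint union of the fibres -/
theorem spec_prod :
    Function.Injective (specMap (Ω := Ω) (AlgHom.fst R A B)) ∧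
    Function.Injective (specMap (Ω := Ω) (AlgHom.snd R A B)) ∧
    IsCompl (Set.range (specMap (Ω := Ω) (AlgHom.fst R A B)))
      (Set.range (specMap (Ω := Ω) (AlgHom.snd R A B))) := by
  refine ⟨?_, ?_, ?_⟩
  · intro a a' h
    obtain ⟨α, rfl⟩ := (homEquivSpec (R := R) (Ω := Ω) A).surjective a
    obtain ⟨α', rfl⟩ := (homEquivSpec (R := R) (Ω := Ω) A).surjective a'
    rw [specMap_homEquivSpec, specMap_homEquivSpec, (homEquivSpec (A × B)).apply_eq_iff_eq] at h
    congr 1
    apply AlgHom.ext
    intro x
    exact AlgHom.congr_fun h (x, 0)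
  · intro b b' h
    obtain ⟨β, rfl⟩ := (homEquivSpec (R := R) (Ω := Ω) B).surjective b
    obtain ⟨β', rfl⟩ := (homEquivSpec (R := R) (Ω := Ω) B).surjective b'
    rw [specMap_homEquivSpec, specMap_homEquivSpec, (homEquivSpec (A × B)).apply_eq_iff_eq] at h
    congr 1
    apply AlgHom.ext
    intro x
    exact AlgHom.congr_fun h (0, x)
  · rw [isCompl_iff]
    constructor
    · rw [Set.disjoint_iff]
      rintro y ⟨⟨a, rfl⟩, ⟨b, hb⟩⟩
      obtain ⟨α, rfl⟩ := (homEquivSpec (R := R) (Ω := Ω) A).surjective a
      obtain ⟨β, rfl⟩ := (homEquivSpec (R := R) (Ω := Ω) B).surjective b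
      rw [specMap_homEquivSpec, specMap_homEquivSpec, (homEquivSpec (A × B)).apply_eq_iff_eq] at hb
      have := AlgHom.congr_fun hb (1, 0)
      have h1 : β (0 : B) = α (1 : A) := this
      rw [map_zero, map_one] at h1
      exact zero_ne_one h1
    · rw [codisjoint_iff]
      show Set.range (specMap (Ω := Ω) (AlgHom.fst R A B)) ∪
        Set.range (specMap (Ω := Ω) (AlgHom.snd R A B)) = Set.univ
      ext y
      simp only [Set.mem_union, Set.mem_range, Set.mem_univ, iff_true]
      obtain ⟨φ, rfl⟩ := (homEquivSpec (R := R) (Ω := Ω) (A × B)).surjective y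
      rcases prod_hom_factor φ with ⟨α, hα⟩ | ⟨β, hβ⟩
      · exact Or.inl ⟨homEquivSpec A α, (specMap_eq_iff _ α φ).2 hα⟩
      · exact Or.inr ⟨homEquivSpec B β, (specMap_eq_iff _ β φ).2 hβ⟩

end

end Groth.Agent.H8.SF
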