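import Mathlib
import Groth.Prelude.Def_SchFin
import Groth.Prelude.Def_SchFin2
import Groth.Agent.Lib.Helper8.SchFin.AlgProd
import Groth.Agent.Lib.Helper8.SchFin.KerIdem

/-! # Monomorphisms of étale covers are pointwise injective -/

set_option autoImplicit false

open TensorProduct CategoryTheory CategoryTheory.Limits

universe u

namespace Groth.Agent.H8.SF

open SchFin

variable {X : RSpace.{u}}

/-- the algebra map `(a, a') ↦ (1 - e) a + e a'` for an idempotent `e`. -/
def idemMix (R : Type u) {A : Type u} [CommRing R] [CommRing A] [Algebra R A] {e : A}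
    (he : IsIdempotentElem e) : (A × A) →ₐ[R] A where
  toFun x := (1 - e) * x.1 + e * x.2
  map_one' := by simp
  map_mul' x y := by
    have h := he.eq
    simp only [Prod.fst_mul, Prod.snd_mul]
    linear_combination (-(x.1 * y.1 + x.2 * y.2 - x.1 * y.2 - x.2 * y.1)) * h
  map_zero' := by simp
  map_add' x y := by simp only [Prod.fst_add, Prod.snd_add]; ring
  commutes' r := by
    simp only [Prod.algebraMap_apply]
    ring

/-- the mixing morphism `A × A ⟶ A` -/
def algMix (A : Alg X) (e : ∀ p, A.carrier p) (he : ∀ p, IsIdempotentElem (e p))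
    (hc : ∀ (p q : X.pt) (h : p ≤ q), A.res h (e p) = e q) : algProd A A ⟶ A :=
  ⟨fun p => idemMix (X.ring p) (he p), fun {p q} h b => by
    show A.res h ((1 - e p) * b.1 + e p * b.2) = (1 - e q) * A.res h b.1 + e q * A.res h b.2
    rw [map_add, map_mul, map_mul, map_sub, map_one, hc p q h]⟩

theorem injective_of_mono (hX : X.IsSchematic) {A B : FEt X} (f : A ⟶ B) [Mono f] (p : X.pt) :
    Function.Injective (f.hom.app p) := by
  obtain ⟨e, he, hker, hc⟩ := exists_kerIdem hX.1 A.property B.property f.hom
  let v : fetProd A A ⟶ A := ObjectProperty.homMk (algMix A.obj e he hc)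
  have hfe : ∀ p, (f.hom.app p) (e p) = 0 := by
    intro p
    have : e p ∈ RingHom.ker (f.hom.app p).toRingHom := by
      rw [hker p]; exact Ideal.subset_span rfl
    exact this
  have hvf : v ≫ f = fetProdFst A A ≫ f := by
    apply ObjectProperty.hom_ext
    apply Alg.hom_ext
    intro p
    apply AlgHom.ext
    intro x
    show (f.hom.app p) ((1 - e p) * x.1 + e p * x.2) = (f.hom.app p) x.1
    rw [map_add, map_mul, map_mul, map_sub, map_one, hfe p]
    ring
  have hv : v = fetProdFst A A := (cancel_mono f).1 hvf
  have he0 : e p = 0 := by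
    have h1 := congrArg (fun k : fetProd A A ⟶ A => k.hom.app p ((0, 1) : A.obj.carrier p × A.obj.carrier p)) hv
    have h2 : (1 - e p) * 0 + e p * 1 = (0 : A.obj.carrier p) := h1
    simpa using h2
  have hk : RingHom.ker (f.hom.app p).toRingHom = ⊥ := by
    rw [hker p, he0]
    exact Ideal.span_singleton_eq_bot.2 rfl
  exact (RingHom.injective_iff_ker_eq_bot _).2 hk

end Groth.Agent.H8.SF
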