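import Mathlib
import Groth.Prelude.Def_SchFin
import Groth.Prelude.Def_SchFin2
import Groth.Agent.Lib.Helper8.SchFin.AlgTensor
import Groth.Agent.Lib.Helper8.SchFin.AlgQuot
import Groth.Agent.Lib.Helper8.SchFin.KerIdem

/-! # Initial object and pushouts of étale covers -/

set_option autoImplicit false

open TensorProduct CategoryTheory CategoryTheory.Limits

universe u

namespace Groth.Agent.H8.SF

open SchFin

variable {X : RSpace.{u}}

/-- multiplication morphism -/
noncomputable def algMul (C : Alg X) : algTensor C C ⟶ C := algTensorDesc (𝟙 C) (𝟙 C)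

theorem algMul_app_tmul (C : Alg X) (p : X.pt) (c c' : C.carrier p) :
    (algMul C).app p (c ⊗ₜ c') = c * c' :=
  algTensorDesc_app_tmul _ _ p c c'

/-- data of a pushout of étale covers -/
structure PushoutData {C A B : FEt X} (f : C ⟶ A) (g : C ⟶ B) where
  /-- the idempotents cutting out the diagonal -/
  ε : ∀ p, (algTensor C.obj C.obj).carrier p
  idem : ∀ p, IsIdempotentElem (ε p)
  ker : ∀ p, RingHom.ker ((algMul C.obj).app p).toRingHom = Ideal.span {ε p}
  compat : ∀ (p q : X.pt) (h : p ≤ q), (algTensor C.obj C.obj).res h (ε p) = ε q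

theorem nonempty_pushoutData (hX : X.IsSchematic) {C A B : FEt X} (f : C ⟶ A) (g : C ⟶ B) :
    Nonempty (PushoutData f g) := by
  obtain ⟨e, he, hker, hc⟩ := exists_kerIdem hX.1
    (algTensor_isEtCover C.property C.property) C.property (algMul C.obj)
  exact ⟨⟨e, he, hker, hc⟩⟩

namespace PushoutData

variable {C A B : FEt X} {f : C ⟶ A} {g : C ⟶ B} (D : PushoutData f g)

/-- the image idempotents -/
noncomputable def ε' (p : X.pt) : (algTensor A.obj B.obj).carrier p :=
  (algTensorMap f.hom g.hom).app p (D.ε p)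

theorem compat' (p q : X.pt) (h : p ≤ q) : (algTensor A.obj B.obj).res h (D.ε' p) = D.ε' q := by
  show (algTensor A.obj B.obj).res h ((algTensorMap f.hom g.hom).app p (D.ε p)) = _
  rw [(algTensorMap f.hom g.hom).compat h, D.compat p q h]
  rfl

theorem idem' (p : X.pt) : IsIdempotentElem (D.ε' p) :=
  (D.idem p).map ((algTensorMap f.hom g.hom).app p)

/-- the pushout object -/
noncomputable def pt : FEt X :=
  ⟨algQuot (algTensor A.obj B.obj) D.ε' D.compat',
    algQuot_isEtCover (algTensor_isEtCover A.property B.property) D.ε' D.idem' D.compat'⟩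

noncomputable def inl : A ⟶ D.pt :=
  ObjectProperty.homMk (algTensorInl A.obj B.obj ≫ algQuotMk _ D.ε' D.compat')

noncomputable def inr : B ⟶ D.pt :=
  ObjectProperty.homMk (algTensorInr A.obj B.obj ≫ algQuotMk _ D.ε' D.compat')

theorem condition : f ≫ D.inl = g ≫ D.inr := by
  apply ObjectProperty.hom_ext
  apply Alg.hom_ext
  intro p
  apply AlgHom.ext
  intro c
  show Ideal.Quotient.mk (Ideal.span {D.ε' p}) ((f.hom.app p c) ⊗ₜ (1 : B.obj.carrier p)) =
    Ideal.Quotient.mk (Ideal.span {D.ε' p}) ((1 : A.obj.carrier p) ⊗ₜ (g.hom.app p c))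
  rw [Ideal.Quotient.eq]
  have h0 : (algMul C.obj).app p
      (c ⊗ₜ[X.ring p] (1 : C.obj.carrier p) - (1 : C.obj.carrier p) ⊗ₜ[X.ring p] c) = 0 := by
    refine (map_sub ((algMul C.obj).app p) _ _).trans ?_
    rw [algMul_app_tmul, algMul_app_tmul, mul_one, one_mul, sub_self]
  have h1 : (c ⊗ₜ[X.ring p] (1 : C.obj.carrier p) - (1 : C.obj.carrier p) ⊗ₜ[X.ring p] c) ∈
      Ideal.span {D.ε p} := by
    have : (c ⊗ₜ[X.ring p] (1 : C.obj.carrier p) - (1 : C.obj.carrier p) ⊗ₜ[X.ring p] c) ∈
        RingHom.ker ((algMul C.obj).app p).toRingHom := h0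
    rw [D.ker p] at this
    exact this
  obtain ⟨d, hd⟩ := Ideal.mem_span_singleton'.1 h1
  have h2 : (f.hom.app p c) ⊗ₜ[X.ring p] (1 : B.obj.carrier p) -
      (1 : A.obj.carrier p) ⊗ₜ[X.ring p] (g.hom.app p c) =
      (algTensorMap f.hom g.hom).app p d * D.ε' p := by
    refine Eq.trans ?_ (map_mul ((algTensorMap f.hom g.hom).app p) d (D.ε p))
    refine Eq.trans ?_ (congrArg ((algTensorMap f.hom g.hom).app p) hd.symm)
    refine Eq.trans ?_ (map_sub ((algTensorMap f.hom g.hom).app p) _ _).symm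
    rw [algTensorMap_app_tmul, algTensorMap_app_tmul, map_one, map_one]
    rfl
  have h3 := Ideal.mul_mem_left (Ideal.span {D.ε' p}) ((algTensorMap f.hom g.hom).app p d)
    (Ideal.subset_span rfl : D.ε' p ∈ Ideal.span {D.ε' p})
  exact Eq.mpr (congrArg (fun z => z ∈ Ideal.span {D.ε' p}) h2) h3

/-- the descent morphism -/
noncomputable def desc (s : PushoutCocone f g) : D.pt ⟶ s.pt :=
  ObjectProperty.homMk (algQuotLift D.ε' D.compat' (algTensorDesc s.inl.hom s.inr.hom) (fun p => by
    have hw : ∀ c, s.inl.hom.app p (f.hom.app p c) = s.inr.hom.app p (g.hom.app p c) := by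
      intro c
      have := congrArg (fun k : C ⟶ s.pt => k.hom.app p c) s.condition
      exact this
    have key := tensor_apply_ext
      (((algTensorDesc s.inl.hom s.inr.hom).app p).toRingHom.comp
        ((algTensorMap f.hom g.hom).app p).toRingHom)
      (((f ≫ s.inl).hom.app p).toRingHom.comp ((algMul C.obj).app p).toRingHom)
      (fun c c' => by
        show (algTensorDesc s.inl.hom s.inr.hom).app p ((algTensorMap f.hom g.hom).app p (c ⊗ₜ c')) =
          (f ≫ s.inl).hom.app p ((algMul C.obj).app p (c ⊗ₜ c'))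
        rw [algTensorMap_app_tmul, algTensorDesc_app_tmul, algMul_app_tmul, map_mul]
        show _ = s.inl.hom.app p (f.hom.app p c) * s.inl.hom.app p (f.hom.app p c')
        rw [hw c']) (D.ε p)
    have h0 : (algMul C.obj).app p (D.ε p) = 0 := by
      have : D.ε p ∈ RingHom.ker ((algMul C.obj).app p).toRingHom := by
        rw [D.ker p]; exact Ideal.subset_span rfl
      exact this
    show (algTensorDesc s.inl.hom s.inr.hom).app p ((algTensorMap f.hom g.hom).app p (D.ε p)) = 0
    refine key.trans ?_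
    show (f ≫ s.inl).hom.app p ((algMul C.obj).app p (D.ε p)) = 0
    rw [h0, map_zero]))

theorem inl_desc (s : PushoutCocone f g) : D.inl ≫ D.desc s = s.inl := by
  apply ObjectProperty.hom_ext
  apply Alg.hom_ext
  intro p
  apply AlgHom.ext
  intro a
  show (algTensorDesc s.inl.hom s.inr.hom).app p (a ⊗ₜ 1) = s.inl.hom.app p a
  rw [algTensorDesc_app_tmul, map_one, mul_one]

theorem inr_desc (s : PushoutCocone f g) : D.inr ≫ D.desc s = s.inr := by
  apply ObjectProperty.hom_ext
  apply Alg.hom_ext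
  intro p
  apply AlgHom.ext
  intro b
  show (algTensorDesc s.inl.hom s.inr.hom).app p (1 ⊗ₜ b) = s.inr.hom.app p b
  rw [algTensorDesc_app_tmul, map_one, one_mul]

theorem desc_uniq (s : PushoutCocone f g) (m : D.pt ⟶ s.pt) (h₁ : D.inl ≫ m = s.inl)
    (h₂ : D.inr ≫ m = s.inr) : m = D.desc s := by
  apply ObjectProperty.hom_ext
  apply Alg.hom_ext
  intro p
  apply AlgHom.ext
  intro x
  obtain ⟨t, rfl⟩ := Ideal.Quotient.mk_surjective x
  refine tensor_apply_ext
    ((m.hom.app p).toRingHom.comp (Ideal.Quotient.mk (Ideal.span {D.ε' p})))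
    (((D.desc s).hom.app p).toRingHom.comp (Ideal.Quotient.mk (Ideal.span {D.ε' p})))
    (fun a b => ?_) t
  show m.hom.app p (Ideal.Quotient.mk _ (a ⊗ₜ b)) =
    (algTensorDesc s.inl.hom s.inr.hom).app p (a ⊗ₜ b)
  rw [algTensorDesc_app_tmul]
  have e1 : m.hom.app p (Ideal.Quotient.mk _ (a ⊗ₜ (1 : B.obj.carrier p))) = s.inl.hom.app p a :=
    congrArg (fun k : A ⟶ s.pt => k.hom.app p a) h₁
  have e2 : m.hom.app p (Ideal.Quotient.mk _ ((1 : A.obj.carrier p) ⊗ₜ b)) = s.inr.hom.app p b :=
    congrArg (fun k : B ⟶ s.pt => k.hom.app p b) h₂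
  rw [← e1, ← e2]
  refine Eq.trans ?_ (map_mul (m.hom.app p) _ _)
  refine congrArg (m.hom.app p) ?_
  refine Eq.trans ?_ (map_mul (Ideal.Quotient.mk (Ideal.span {D.ε' p})) _ _)
  refine congrArg (Ideal.Quotient.mk (Ideal.span {D.ε' p})) ?_
  exact (by rw [Algebra.TensorProduct.tmul_mul_tmul, mul_one, one_mul] :
    a ⊗ₜ[X.ring p] b = (a ⊗ₜ[X.ring p] (1 : B.obj.carrier p)) * ((1 : A.obj.carrier p) ⊗ₜ[X.ring p] b))

/-- the pushout cocone is a colimit -/
noncomputable def isColimit : IsColimit (PushoutCocone.mk D.inl D.inr D.condition) :=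
  PushoutCocone.IsColimit.mk _ D.desc D.inl_desc D.inr_desc D.desc_uniq

end PushoutData

theorem fet_hasPushouts (hX : X.IsSchematic) : HasPushouts (FEt X) := by
  haveI : ∀ {C A B : FEt X} {f : C ⟶ A} {g : C ⟶ B}, HasColimit (span f g) := by
    intro C A B f g
    obtain ⟨D⟩ := nonempty_pushoutData hX f g
    exact ⟨⟨⟨_, D.isColimit⟩⟩⟩
  exact hasPushouts_of_hasColimit_span _

end Groth.Agent.H8.SF

namespace Groth.Agent.H8.SF

open SchFin

variable {X : RSpace.{u}}

theorem algStr_isEtCover (X : RSpace.{u}) : (Alg.str X).IsEtCover := by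
  refine ⟨fun p q h => ?_, fun p => ⟨?_, ?_⟩⟩
  · rw [isBCAlong_iff_existsUnique]
    intro Q _ _ ψ
    refine ⟨LinearMap.toSpanSingleton (X.ring q) Q (ψ (1 : X.ring p)), fun (m : X.ring p) => ?_,
      fun L' hL' => ?_⟩
    · show (X.res h m) • ψ (1 : X.ring p) = ψ m
      have := ψ.map_smulₛₗ m (1 : X.ring p)
      rw [← this]
      congr 1
      exact mul_one m
    · apply LinearMap.ext
      intro (s : X.ring q)
      show L' s = s • ψ (1 : X.ring p)
      have h1 : L' ((1 : X.ring q)) = ψ (1 : X.ring p) := by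
        rw [← hL']
        congr 1
        exact (map_one (X.res h)).symm
      rw [← h1, ← L'.map_smul]
      exact congrArg L' (mul_one s).symm
  · exact inferInstanceAs (Module.Finite (X.ring p) (X.ring p))
  · exact inferInstanceAs (Algebra.Etale (X.ring p) (X.ring p))

/-- the initial étale cover -/
def fetStr (X : RSpace.{u}) : FEt X := ⟨Alg.str X, algStr_isEtCover X⟩

/-- the structure morphism -/
def algFromStr (A : Alg X) : Alg.str X ⟶ A :=
  ⟨fun p => Algebra.ofId (X.ring p) (A.carrier p), fun h a => A.res_algebraMap h a⟩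

def fetStrIsInitial (X : RSpace.{u}) : IsInitial (fetStr X) :=
  IsInitial.ofUniqueHom (fun A => ObjectProperty.homMk (algFromStr A.obj)) (fun A m => by
    apply ObjectProperty.hom_ext
    apply Alg.hom_ext
    intro p
    apply AlgHom.ext
    intro r
    exact (m.hom.app p).commutes r)

theorem fet_hasInitial (X : RSpace.{u}) : HasInitial (FEt X) :=
  (fetStrIsInitial X).hasInitial

end Groth.Agent.H8.SF
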