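import Mathlib
import Groth.Prelude.Def_SchFin
import Groth.Prelude.Def_SchFin2
import Groth.Agent.Lib.Helper8.SchFin.Pushout

/-! # The pointwise universal property of the pushout of étale covers -/

set_option autoImplicit false

open TensorProduct CategoryTheory CategoryTheory.Limits

universe u

namespace Groth.Agent.H8.SF

open SchFin

variable {X : RSpace.{u}}

namespace PushoutData

variable {C A B : FEt X} {f : C ⟶ A} {g : C ⟶ B} (D : PushoutData f g)

theorem exists_desc_ring (p : X.pt) {T : Type u} [CommRing T] [Algebra (X.ring p) T]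
    (α : A.obj.carrier p →ₐ[X.ring p] T) (β : B.obj.carrier p →ₐ[X.ring p] T)
    (h : α.comp (f.hom.app p) = β.comp (g.hom.app p)) :
    ∃ φ : D.pt.obj.carrier p →ₐ[X.ring p] T,
      φ.comp (D.inl.hom.app p) = α ∧ φ.comp (D.inr.hom.app p) = β := by
  have hw : ∀ c, α (f.hom.app p c) = β (g.hom.app p c) := fun c => AlgHom.congr_fun h c
  have key := tensor_apply_ext
    ((Algebra.TensorProduct.productMap α β).toRingHom.comp
      ((algTensorMap f.hom g.hom).app p).toRingHom)
    ((α.comp (f.hom.app p)).toRingHom.comp ((algMul C.obj).app p).toRingHom)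
    (fun c c' => by
      show (Algebra.TensorProduct.productMap α β) ((algTensorMap f.hom g.hom).app p (c ⊗ₜ c')) =
        α (f.hom.app p ((algMul C.obj).app p (c ⊗ₜ c')))
      rw [algTensorMap_app_tmul, Algebra.TensorProduct.productMap_apply_tmul, algMul_app_tmul,
        map_mul, map_mul, hw c']) (D.ε p)
  have h0 : (algMul C.obj).app p (D.ε p) = 0 := by
    have : D.ε p ∈ RingHom.ker ((algMul C.obj).app p).toRingHom := by
      rw [D.ker p]; exact Ideal.subset_span rfl
    exact this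
  have hvan : (Algebra.TensorProduct.productMap α β) (D.ε' p) = 0 := by
    refine key.trans ?_
    show α (f.hom.app p ((algMul C.obj).app p (D.ε p))) = 0
    rw [h0, map_zero, map_zero]
  refine ⟨Ideal.Quotient.liftₐ (Ideal.span {D.ε' p}) (Algebra.TensorProduct.productMap α β) (by
    intro a ha
    obtain ⟨c, rfl⟩ := Ideal.mem_span_singleton'.1 ha
    refine (map_mul (Algebra.TensorProduct.productMap α β) _ _).trans ?_
    exact (congrArg (_ * ·) hvan).trans (mul_zero _)), ?_, ?_⟩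
  · apply AlgHom.ext
    intro a
    show (Algebra.TensorProduct.productMap α β) (a ⊗ₜ 1) = α a
    rw [Algebra.TensorProduct.productMap_apply_tmul, map_one, mul_one]
  · apply AlgHom.ext
    intro b
    show (Algebra.TensorProduct.productMap α β) (1 ⊗ₜ b) = β b
    rw [Algebra.TensorProduct.productMap_apply_tmul, map_one, one_mul]

theorem ring_hom_ext (p : X.pt) {T : Type u} [CommRing T] [Algebra (X.ring p) T]
    (φ φ' : D.pt.obj.carrier p →ₐ[X.ring p] T)
    (h1 : φ.comp (D.inl.hom.app p) = φ'.comp (D.inl.hom.app p))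
    (h2 : φ.comp (D.inr.hom.app p) = φ'.comp (D.inr.hom.app p)) : φ = φ' := by
  apply AlgHom.ext
  intro x
  obtain ⟨t, rfl⟩ := Ideal.Quotient.mk_surjective x
  refine tensor_apply_ext
    (φ.toRingHom.comp (Ideal.Quotient.mk (Ideal.span {D.ε' p})))
    (φ'.toRingHom.comp (Ideal.Quotient.mk (Ideal.span {D.ε' p})))
    (fun a b => ?_) t
  show φ (Ideal.Quotient.mk _ (a ⊗ₜ b)) = φ' (Ideal.Quotient.mk _ (a ⊗ₜ b))
  have e1 : φ (Ideal.Quotient.mk _ (a ⊗ₜ (1 : B.obj.carrier p))) =
      φ' (Ideal.Quotient.mk _ (a ⊗ₜ (1 : B.obj.carrier p))) := AlgHom.congr_fun h1 a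
  have e2 : φ (Ideal.Quotient.mk _ ((1 : A.obj.carrier p) ⊗ₜ b)) =
      φ' (Ideal.Quotient.mk _ ((1 : A.obj.carrier p) ⊗ₜ b)) := AlgHom.congr_fun h2 b
  have e3 : (Ideal.Quotient.mk (Ideal.span {D.ε' p})) (a ⊗ₜ[X.ring p] b) =
      (Ideal.Quotient.mk (Ideal.span {D.ε' p})) (a ⊗ₜ[X.ring p] (1 : B.obj.carrier p)) *
      (Ideal.Quotient.mk (Ideal.span {D.ε' p})) ((1 : A.obj.carrier p) ⊗ₜ[X.ring p] b) := by
    refine Eq.trans ?_ (map_mul (Ideal.Quotient.mk (Ideal.span {D.ε' p})) _ _)
    refine congrArg (Ideal.Quotient.mk (Ideal.span {D.ε' p})) ?_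
    exact (by rw [Algebra.TensorProduct.tmul_mul_tmul, mul_one, one_mul] :
      a ⊗ₜ[X.ring p] b = (a ⊗ₜ[X.ring p] (1 : B.obj.carrier p)) *
        ((1 : A.obj.carrier p) ⊗ₜ[X.ring p] b))
  rw [e3]
  exact (map_mul φ _ _).trans ((congrArg₂ (· * ·) e1 e2).trans (map_mul φ' _ _).symm)

end PushoutData

end Groth.Agent.H8.SF
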