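import Mathlib
import Groth.Prelude.Def_SchFin
import Groth.Prelude.Def_SchFin2
import Groth.Agent.Lib.Helper8.SchFin.PushoutRing
import Groth.Agent.Lib.Helper8.SchFin.FibHom2
import Groth.Agent.Lib.Helper8.SchFin.AlgProd
import Groth.Agent.Lib.Helper8.SchFin.MonoInj

/-! # Set-level properties of the fibre functor at a geometric point -/

set_option autoImplicit false

open TensorProduct CategoryTheory CategoryTheory.Limits

universe u

namespace Groth.Agent.H8.SF

open SchFin

variable {X : RSpace.{u}} {Ω : Type u} [Field Ω] [IsAlgClosed Ω] (ξ : GeomPt X Ω)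

theorem fib_pullback {C A B : FEt X} {f : C ⟶ A} {g : C ⟶ B} (D : PushoutData f g) :
    (∀ y y' : ξ.Fib D.pt.obj, ξ.fibMap D.inl.hom y = ξ.fibMap D.inl.hom y' ∧
      ξ.fibMap D.inr.hom y = ξ.fibMap D.inr.hom y' → y = y') ∧
    ∀ (a : ξ.Fib A.obj) (b : ξ.Fib B.obj), ξ.fibMap f.hom a = ξ.fibMap g.hom b →
      ∃ y : ξ.Fib D.pt.obj, ξ.fibMap D.inl.hom y = a ∧ ξ.fibMap D.inr.hom y = b := by
  letI : Algebra (X.ring ξ.base) Ω := ξ.toField.toAlgebra
  haveI := (A.property.2 ξ.base).1
  haveI := (A.property.2 ξ.base).2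
  haveI := (B.property.2 ξ.base).1
  haveI := (B.property.2 ξ.base).2
  haveI := (C.property.2 ξ.base).1
  haveI := (C.property.2 ξ.base).2
  haveI := (D.pt.property.2 ξ.base).1
  haveI := (D.pt.property.2 ξ.base).2
  exact spec_pullback (f.hom.app ξ.base) (g.hom.app ξ.base) (D.inl.hom.app ξ.base)
    (D.inr.hom.app ξ.base) (D.exists_desc_ring ξ.base) (D.ring_hom_ext ξ.base)

theorem fib_str_unique : Nonempty (Unique (ξ.Fib (Alg.str X))) := by
  letI : Algebra (X.ring ξ.base) Ω := ξ.toField.toAlgebra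
  exact spec_self_unique (R := X.ring ξ.base) (Ω := Ω)

theorem fib_zero_isEmpty : IsEmpty (ξ.Fib (algZero X)) := by
  letI : Algebra (X.ring ξ.base) Ω := ξ.toField.toAlgebra
  exact spec_subsingleton_isEmpty (R := X.ring ξ.base) (Ω := Ω) PUnit.{u+1}

theorem fib_prod (A B : FEt X) :
    Function.Injective (ξ.fibMap (algProdFst A.obj B.obj)) ∧
    Function.Injective (ξ.fibMap (algProdSnd A.obj B.obj)) ∧
    IsCompl (Set.range (ξ.fibMap (algProdFst A.obj B.obj)))
      (Set.range (ξ.fibMap (algProdSnd A.obj B.obj))) := by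
  letI : Algebra (X.ring ξ.base) Ω := ξ.toField.toAlgebra
  haveI := (A.property.2 ξ.base).1
  haveI := (A.property.2 ξ.base).2
  haveI := (B.property.2 ξ.base).1
  haveI := (B.property.2 ξ.base).2
  exact spec_prod (R := X.ring ξ.base) (Ω := Ω) (A := A.obj.carrier ξ.base)
    (B := B.obj.carrier ξ.base)

theorem fibMap_surjective_of_injective {A B : FEt X} (f : B ⟶ A)
    (hf : Function.Injective (f.hom.app ξ.base)) : Function.Surjective (ξ.fibMap f.hom) := by
  letI : Algebra (X.ring ξ.base) Ω := ξ.toField.toAlgebra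
  haveI := (A.property.2 ξ.base).1
  haveI := (A.property.2 ξ.base).2
  haveI := (B.property.2 ξ.base).1
  haveI := (B.property.2 ξ.base).2
  exact specMap_surjective_of_injective (f.hom.app ξ.base) hf

end Groth.Agent.H8.SF
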