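import Mathlib
import Groth.Agent.Lib.Helper8.SchFin.ExactBC
import Groth.Agent.Lib.Helper8.SchFin.Perm

/-!
# Flat base change of the subalgebra of invariants (helper8)
-/

set_option autoImplicit false

open TensorProduct

universe u v

namespace Groth.Agent.H8.SF

section

variable {R A : Type u} [CommRing R] [CommRing A] [Algebra R A]
  (T : Type u) [CommRing T] [Algebra R T] {G : Type v} (σ : G → (A →ₐ[R] A))

/-- the base-changed family of endomorphisms -/
def bcAct : G → (T ⊗[R] A →ₐ[T] T ⊗[R] A) := fun g =>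
  Algebra.TensorProduct.map (AlgHom.id T T) (σ g)

theorem bcAct_tmul (g : G) (s : T) (a : A) : bcAct T σ g (s ⊗ₜ a) = s ⊗ₜ σ g a := rfl

/-- the map from the invariants to the invariants of the base change -/
def invSubBC : invSub σ →ₗ[R] invSub (bcAct T σ) where
  toFun a := ⟨(1 : T) ⊗ₜ[R] (a : A), fun g => by rw [bcAct_tmul, a.2 g]⟩
  map_add' a b := Subtype.ext (TensorProduct.tmul_add _ _ _)
  map_smul' r a := Subtype.ext (TensorProduct.tmul_smul _ _ _)

theorem invSubBC_coe (a : invSub σ) :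
    ((invSubBC T σ a : invSub (bcAct T σ)) : T ⊗[R] A) = (1 : T) ⊗ₜ[R] (a : A) := rfl

theorem isBaseChange_invSubBC [Module.Flat R T] [Finite G] : IsBaseChange T (invSubBC T σ) := by
  refine isBaseChange_fixed (fun g => (σ g).toLinearMap) (fun g => (bcAct T σ g).toLinearMap)
    (invSub σ).val.toLinearMap (invSub (bcAct T σ)).val.toLinearMap
    Subtype.val_injective Subtype.val_injective ?_ ?_ (invSubBC T σ) (TensorProduct.mk R T A 1)
    (TensorProduct.isBaseChange R A T) (fun a => rfl) (fun g a => ?_)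
  · intro m
    constructor
    · rintro ⟨a, rfl⟩ g
      exact a.2 g
    · intro h
      exact ⟨⟨m, h⟩, rfl⟩
  · intro m
    constructor
    · rintro ⟨a, rfl⟩ g
      exact a.2 g
    · intro h
      exact ⟨⟨m, h⟩, rfl⟩
  · exact bcAct_tmul T σ g 1 a

/-- Two `T`-linear maps out of `T ⊗ A` that agree on the invariants of `A` agree on the invariants
of `T ⊗ A`. -/
theorem eq_on_invSub_bcAct [Module.Flat R T] [Finite G] {Q : Type*} [AddCommGroup Q] [Module T Q]
    (f f' : T ⊗[R] A →ₗ[T] Q)
    (h : ∀ a ∈ invSub σ, f ((1 : T) ⊗ₜ[R] a) = f' ((1 : T) ⊗ₜ[R] a))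
    (y : T ⊗[R] A) (hy : y ∈ invSub (bcAct T σ)) : f y = f' y := by
  have key : ∀ z : invSub (bcAct T σ), f z.1 = f' z.1 := by
    intro z
    refine (isBaseChange_invSubBC T σ).inductionOn z (fun z => f z.1 = f' z.1) ?_ ?_ ?_ ?_
    · show f 0 = f' 0
      rw [map_zero, map_zero]
    · intro a
      exact h a.1 a.2
    · intro s z hz
      show f (s • z.1) = f' (s • z.1)
      rw [map_smul, map_smul, hz]
    · intro z z' hz hz'
      show f (z.1 + z'.1) = f' (z.1 + z'.1)
      rw [map_add, map_add, hz, hz']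
  exact key ⟨y, hy⟩

end

end Groth.Agent.H8.SF
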