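import Mathlib
import Groth.Agent.Lib.Helper8.SchFin.InvBC
import Groth.Agent.Lib.Helper8.SchFin.Perm

/-!
# Homomorphisms to a field that agree on the invariants are conjugate (helper8)
-/

set_option autoImplicit false

open TensorProduct

universe u v

namespace Groth.Agent.H8.SF

/-- An algebra map from a split algebra to a domain is evaluation at an index. -/
theorem exists_index_eval_domain {T Ω : Type*} [CommRing T] [CommRing Ω] [IsDomain Ω]
    [Algebra T Ω] {F : Type*} [Finite F] (χ : (F → T) →ₐ[T] Ω) :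
    ∃ i : F, ∀ x : F → T, χ x = algebraMap T Ω (x i) := by
  classical
  cases nonempty_fintype F
  have hid : ∀ i, IsIdempotentElem (χ (Pi.single i 1)) := by
    intro i
    rw [IsIdempotentElem, ← map_mul, ← Pi.single_mul, mul_one]
  have horth : ∀ i j, i ≠ j → χ (Pi.single i 1) * χ (Pi.single j 1) = 0 := by
    intro i j hij
    rw [← map_mul]
    have : (Pi.single i (1 : T) : F → T) * Pi.single j 1 = 0 := by
      funext l
      by_cases hl : l = i
      · subst hl; simp [Pi.single_eq_of_ne hij]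
      · simp [Pi.single_eq_of_ne hl]
    rw [this, map_zero]
  have hsum : ∑ i, χ (Pi.single i 1) = 1 := by
    rw [← map_sum, Finset.univ_sum_single]
    exact map_one χ
  have hex : ∃ i, χ (Pi.single i 1) = 1 := by
    by_contra hne
    push Not at hne
    have : ∀ i, χ (Pi.single i 1) = 0 := fun i =>
      ((IsIdempotentElem.iff_eq_zero_or_one).mp (hid i)).resolve_right (hne i)
    rw [Finset.sum_eq_zero (fun i _ => this i)] at hsum
    exact zero_ne_one hsum
  obtain ⟨i, hi⟩ := hex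
  have hz : ∀ j, j ≠ i → χ (Pi.single j 1) = 0 := by
    intro j hj
    have := horth j i hj
    rwa [hi, mul_one] at this
  refine ⟨i, fun g => ?_⟩
  have hg : g = ∑ l, g l • (Pi.single l (1 : T) : F → T) := by
    funext l
    simp [Finset.sum_apply, Pi.single_apply]
  conv_lhs => rw [hg]
  rw [map_sum]
  simp only [map_smul]
  rw [Finset.sum_eq_single i (fun j _ hj => by rw [hz j hj, smul_zero])
    (fun h => absurd (Finset.mem_univ i) h), hi, Algebra.smul_def, mul_one]

section

variable {R A : Type u} [CommRing R] [CommRing A] [Algebra R A]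
  (T : Type u) [CommRing T] [Algebra R T]

/-- base change of an endomorphism -/
def bcEnd (ρ : A →ₐ[R] A) : T ⊗[R] A →ₐ[T] T ⊗[R] A :=
  Algebra.TensorProduct.map (AlgHom.id T T) ρ

theorem bcEnd_tmul (ρ : A →ₐ[R] A) (s : T) (a : A) : bcEnd T ρ (s ⊗ₜ a) = s ⊗ₜ ρ a := rfl

theorem bcEnd_comp (ρ ρ' : A →ₐ[R] A) (z : T ⊗[R] A) :
    bcEnd T (ρ.comp ρ') z = bcEnd T ρ (bcEnd T ρ' z) := by
  induction z using TensorProduct.induction_on with
  | zero => simp only [map_zero]
  | tmul s a => rfl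
  | add y y' hy hy' => simp only [map_add, hy, hy']

theorem bcEnd_id (z : T ⊗[R] A) : bcEnd T (AlgHom.id R A) z = z := by
  induction z using TensorProduct.induction_on with
  | zero => simp only [map_zero]
  | tmul s a => rfl
  | add y y' hy hy' => simp only [map_add, hy, hy']

end

/-- Two homomorphisms from a split-by-a-connected-cover algebra to a domain that agree on the
invariants of a (group-like) finite family of endomorphisms differ by a member of the family. -/
theorem exists_eq_comp_of_eq_on_invSub {R A : Type u} [CommRing R] [CommRing A] [Algebra R A]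
    (T : Type u) [CommRing T] [Algebra R T] [Module.Flat R T] [ConnectedSpace (PrimeSpectrum T)]
    {n : ℕ} (e : T ⊗[R] A ≃ₐ[T] (Fin n → T))
    {Ω : Type u} [CommRing Ω] [IsDomain Ω] [Algebra R Ω] (θ : T →ₐ[R] Ω)
    {G : Type v} [Finite G] (σ : G → (A →ₐ[R] A))
    (hone : ∃ g, σ g = AlgHom.id R A)
    (hmul : ∀ g h, ∃ k, σ k = (σ g).comp (σ h))
    (hinv : ∀ g, ∃ k, (σ g).comp (σ k) = AlgHom.id R A)
    (φ ψ : A →ₐ[R] Ω) (hφψ : ∀ a ∈ invSub σ, φ a = ψ a) : ∃ g, ψ = φ.comp (σ g) := by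
  classical
  haveI : Nontrivial T := by
    have : Nonempty (PrimeSpectrum T) := inferInstance
    exact PrimeSpectrum.nonempty_iff_nontrivial.mp this
  letI : Algebra T Ω := θ.toRingHom.toAlgebra
  haveI : IsScalarTower R T Ω := IsScalarTower.of_algebraMap_eq fun r => (θ.commutes r).symm
  have hθ : ∀ t : T, algebraMap T Ω t = θ t := fun t => rfl
  -- extension of homomorphisms
  let ext : (A →ₐ[R] Ω) → (T ⊗[R] A →ₐ[T] Ω) := fun α =>
    Algebra.TensorProduct.lift (Algebra.ofId T Ω) α (fun _ _ => Commute.all _ _)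
  have hext : ∀ (α : A →ₐ[R] Ω) (t : T) (a : A), ext α (t ⊗ₜ a) = θ t * α a := fun α t a => by
    show Algebra.TensorProduct.lift (Algebra.ofId T Ω) α (fun _ _ => Commute.all _ _) (t ⊗ₜ a) = _
    rw [Algebra.TensorProduct.lift_tmul]
    rfl
  have hext_comp : ∀ (α : A →ₐ[R] Ω) (ρ : A →ₐ[R] A) (z : T ⊗[R] A),
      ext (α.comp ρ) z = ext α (bcEnd T ρ z) := by
    intro α ρ z
    induction z using TensorProduct.induction_on with
    | zero => simp only [map_zero]
    | tmul s a => rw [bcEnd_tmul, hext, hext]; rfl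
    | add y y' hy hy' => simp only [map_add, hy, hy']
  -- indices
  have hidx : ∀ α : A →ₐ[R] Ω, ∃ i : Fin n, ∀ x : Fin n → T, ext α (e.symm x) = θ (x i) :=
    fun α => exists_index_eval_domain ((ext α).comp e.symm.toAlgHom)
  choose idx hidx using hidx
  -- index maps
  have hτ : ∀ ρ : A →ₐ[R] A, ∃ τ : Fin n → Fin n, ∀ (x : Fin n → T) (k : Fin n),
      e (bcEnd T ρ (e.symm x)) k = x (τ k) := fun ρ =>
    exists_index_map ((e.toAlgHom.comp (bcEnd T ρ)).comp e.symm.toAlgHom)
  choose τ hτ using hτ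
  have hsep : ∀ a b : Fin n, (∀ x : Fin n → T, x a = x b) → a = b := by
    intro a b h
    by_contra hab
    have := h (Pi.single a 1)
    rw [Pi.single_eq_same, Pi.single_eq_of_ne (Ne.symm hab)] at this
    exact one_ne_zero this
  have hτ_comp : ∀ (ρ ρ' : A →ₐ[R] A) (k : Fin n), τ (ρ.comp ρ') k = τ ρ' (τ ρ k) := by
    intro ρ ρ' k
    apply hsep
    intro x
    calc x (τ (ρ.comp ρ') k) = e (bcEnd T (ρ.comp ρ') (e.symm x)) k := (hτ _ x k).symm
      _ = e (bcEnd T ρ (bcEnd T ρ' (e.symm x))) k := by rw [bcEnd_comp]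
      _ = e (bcEnd T ρ (e.symm (e (bcEnd T ρ' (e.symm x))))) k := by
          rw [AlgEquiv.symm_apply_apply]
      _ = e (bcEnd T ρ' (e.symm x)) (τ ρ k) := hτ ρ _ k
      _ = x (τ ρ' (τ ρ k)) := hτ ρ' x _
  have hτ_id : ∀ k : Fin n, τ (AlgHom.id R A) k = k := by
    intro k
    apply hsep
    intro x
    rw [← hτ (AlgHom.id R A) x k, bcEnd_id, AlgEquiv.apply_symm_apply]
  -- the orbit of the index of φ
  let S : Set (Fin n) := {k | ∃ g, τ (σ g) (idx φ) = k}
  have hS_fwd : ∀ (h : G) (k : Fin n), k ∈ S → τ (σ h) k ∈ S := by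
    rintro h k ⟨g, rfl⟩
    obtain ⟨k', hk'⟩ := hmul g h
    exact ⟨k', by rw [hk', hτ_comp]⟩
  have hS_bwd : ∀ (h : G) (k : Fin n), τ (σ h) k ∈ S → k ∈ S := by
    intro h k hk
    obtain ⟨h', hh'⟩ := hinv h
    have := hS_fwd h' _ hk
    rwa [← hτ_comp, hh', hτ_id] at this
  have hiS : idx φ ∈ S := by
    obtain ⟨g, hg⟩ := hone
    exact ⟨g, by rw [hg, hτ_id]⟩
  -- the indicator of the orbit
  let x₀ : Fin n → T := fun k => if k ∈ S then 1 else 0
  have hx₀inv : e.symm x₀ ∈ invSub (bcAct T σ) := by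
    intro g
    apply e.injective
    rw [AlgEquiv.apply_symm_apply]
    funext k
    show e (bcEnd T (σ g) (e.symm x₀)) k = x₀ k
    rw [hτ]
    show (if τ (σ g) k ∈ S then (1 : T) else 0) = if k ∈ S then 1 else 0
    by_cases hk : k ∈ S
    · rw [if_pos hk, if_pos (hS_fwd g k hk)]
    · rw [if_neg hk, if_neg (fun h => hk (hS_bwd g k h))]
  have hagree : ext φ (e.symm x₀) = ext ψ (e.symm x₀) := by
    refine eq_on_invSub_bcAct T σ (ext φ).toLinearMap (ext ψ).toLinearMap ?_ _ hx₀inv
    intro a ha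
    show ext φ (1 ⊗ₜ a) = ext ψ (1 ⊗ₜ a)
    rw [hext, hext, hφψ a ha]
  rw [hidx φ, hidx ψ] at hagree
  have hjS : idx ψ ∈ S := by
    by_contra hj
    have h1 : x₀ (idx φ) = 1 := if_pos hiS
    have h0 : x₀ (idx ψ) = 0 := if_neg hj
    rw [h1, h0, map_one, map_zero] at hagree
    exact one_ne_zero hagree
  obtain ⟨g, hg⟩ := hjS
  refine ⟨g, ?_⟩
  have hall : ∀ z : T ⊗[R] A, ext ψ z = ext (φ.comp (σ g)) z := by
    intro z
    obtain ⟨x, rfl⟩ := e.symm.surjective z
    rw [hidx ψ, hext_comp, ← e.symm_apply_apply (bcEnd T (σ g) (e.symm x)), hidx φ, hτ, hg]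
  apply AlgHom.ext
  intro a
  have := hall (1 ⊗ₜ a)
  rw [hext, hext, map_one, one_mul, one_mul] at this
  exact this

end Groth.Agent.H8.SF
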