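import Mathlib
import Groth.Prelude.Def_SchFin
import Groth.Prelude.Def_SchFin2
import Groth.Agent.Lib.Helper8.SchFin.Orbit
import Groth.Agent.Lib.Helper8.SchFin.InvEtale
import Groth.Agent.Lib.Helper8.SchFin.AlgInv
import Groth.Agent.Lib.Helper8.SchFin.FibHom
import Groth.Agent.Lib.Helper8.SchFin.ExtHom
import Groth.Agent.Lib.Helper8.SchFin.FibSets

/-!
# The fibre of the invariants is the orbit space of the fibre (helper8)
-/

set_option autoImplicit false

open TensorProduct CategoryTheory CategoryTheory.Limits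

universe u v

namespace Groth.Agent.H8.SF

open SchFin

/-- Ring-level: homomorphisms to an algebraically closed field agreeing on the invariants are
conjugate. -/
theorem exists_eq_comp_of_eq_on_invSub' {R A : Type u} [CommRing R] [CommRing A] [Algebra R A]
    [IsNoetherianRing R] [ConnectedSpace (PrimeSpectrum R)]
    (T : Type u) [CommRing T] [Algebra R T] [Module.Finite R T] [Module.FaithfullyFlat R T]
    {n : ℕ} (e : T ⊗[R] A ≃ₐ[T] (Fin n → T))
    {Ω : Type u} [Field Ω] [IsAlgClosed Ω] [Algebra R Ω]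
    {G : Type v} [Finite G] (σ : G → (A →ₐ[R] A))
    (hone : ∃ g, σ g = AlgHom.id R A)
    (hmul : ∀ g h, ∃ k, σ k = (σ g).comp (σ h))
    (hinv : ∀ g, ∃ k, (σ g).comp (σ k) = AlgHom.id R A)
    (φ ψ : A →ₐ[R] Ω) (hφψ : ∀ a ∈ invSub σ, φ a = ψ a) : ∃ g, ψ = φ.comp (σ g) := by
  obtain ⟨T', _, _, _, _, _, ⟨e'⟩⟩ := exists_connected_split T e
  obtain ⟨θ, -⟩ := exists_algHom_extension (Algebra.ofId R T')
    (FaithfulSMul.algebraMap_injective R T') (Algebra.ofId R Ω)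
  exact exists_eq_comp_of_eq_on_invSub T' e' θ σ hone hmul hinv φ ψ hφψ

/-- Ring-level: points of the geometric fibre with the same image in the fibre of the invariants
are conjugate. -/
theorem spec_orbit {R A : Type u} [CommRing R] [CommRing A] [Algebra R A]
    [IsNoetherianRing R] [ConnectedSpace (PrimeSpectrum R)]
    [Module.Finite R A] [Algebra.Etale R A]
    (T : Type u) [CommRing T] [Algebra R T] [Module.Finite R T] [Module.FaithfullyFlat R T]
    {n : ℕ} (e : T ⊗[R] A ≃ₐ[T] (Fin n → T))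
    {Ω : Type u} [Field Ω] [IsAlgClosed Ω] [Algebra R Ω]
    {G : Type v} [Finite G] (σ : G → (A →ₐ[R] A))
    [Module.Finite R (invSub σ)] [Algebra.Etale R (invSub σ)]
    (hone : ∃ g, σ g = AlgHom.id R A)
    (hmul : ∀ g h, ∃ k, σ k = (σ g).comp (σ h))
    (hinv : ∀ g, ∃ k, (σ g).comp (σ k) = AlgHom.id R A)
    (y y' : PrimeSpectrum (Ω ⊗[R] A))
    (h : specMap (Ω := Ω) (invSub σ).val y = specMap (Ω := Ω) (invSub σ).val y') :
    ∃ g, specMap (Ω := Ω) (σ g) y = y' := by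
  obtain ⟨φ, rfl⟩ := (homEquivSpec (R := R) (Ω := Ω) A).surjective y
  obtain ⟨ψ, rfl⟩ := (homEquivSpec (R := R) (Ω := Ω) A).surjective y'
  rw [specMap_homEquivSpec, specMap_homEquivSpec,
    (homEquivSpec (invSub σ)).apply_eq_iff_eq] at h
  have hφψ : ∀ a ∈ invSub σ, φ a = ψ a := fun a ha =>
    congrArg (fun k : invSub σ →ₐ[R] Ω => k ⟨a, ha⟩) h
  obtain ⟨g, hg⟩ := exists_eq_comp_of_eq_on_invSub' T e σ hone hmul hinv φ ψ hφψ
  exact ⟨g, (specMap_eq_iff (σ g) φ ψ).2 hg.symm⟩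

variable {X : RSpace.{u}} {Ω : Type u} [Field Ω] [IsAlgClosed Ω] (ξ : GeomPt X Ω)

theorem fib_orbit (hX : X.IsFinSp) (hpw : X.IsPwConnected) {A : Alg X} (hA : A.IsEtCover)
    (hlt : ∃ (B : Alg X) (n : ℕ), B.IsCovering ∧ ∀ p : X.pt,
      Nonempty (TensorProduct (X.ring p) (B.carrier p) (A.carrier p) ≃ₐ[B.carrier p]
        (Fin n → B.carrier p)))
    {G : Type v} [Finite G] (σ : G → (A ⟶ A))
    (hone : ∃ g, σ g = 𝟙 A)
    (hmul : ∀ g h, ∃ k, σ k = σ h ≫ σ g)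
    (hinv : ∀ g, ∃ k, σ k ≫ σ g = 𝟙 A)
    (y y' : ξ.Fib A) (h : ξ.fibMap (algInvι A σ) y = ξ.fibMap (algInvι A σ) y') :
    ∃ g, ξ.fibMap (σ g) y = y' := by
  letI : Algebra (X.ring ξ.base) Ω := ξ.toField.toAlgebra
  haveI : IsNoetherianRing (X.ring ξ.base) := hX.1 ξ.base
  haveI : ConnectedSpace (PrimeSpectrum (X.ring ξ.base)) := hpw ξ.base
  haveI := (hA.2 ξ.base).1
  haveI := (hA.2 ξ.base).2
  have hI := algInv_isEtCover hX hpw hA hlt σ
  haveI : Module.Finite (X.ring ξ.base) (invSub fun g => (σ g).app ξ.base) := (hI.2 ξ.base).1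
  haveI : Algebra.Etale (X.ring ξ.base) (invSub fun g => (σ g).app ξ.base) := (hI.2 ξ.base).2
  obtain ⟨B, n, hB, hiso⟩ := hlt
  obtain ⟨e⟩ := hiso ξ.base
  haveI : Module.Finite (X.ring ξ.base) (B.carrier ξ.base) := (hB.2 ξ.base).1
  haveI : Module.FaithfullyFlat (X.ring ξ.base) (B.carrier ξ.base) := (hB.2 ξ.base).2
  refine spec_orbit (B.carrier ξ.base) e (fun g => (σ g).app ξ.base) ?_ ?_ ?_ y y' h
  · obtain ⟨g, hg⟩ := hone
    exact ⟨g, congrArg (fun k : A ⟶ A => k.app ξ.base) hg⟩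
  · intro g h
    obtain ⟨k, hk⟩ := hmul g h
    exact ⟨k, congrArg (fun k : A ⟶ A => k.app ξ.base) hk⟩
  · intro g
    obtain ⟨k, hk⟩ := hinv g
    exact ⟨k, congrArg (fun k : A ⟶ A => k.app ξ.base) hk⟩

theorem fib_inv_surjective (hX : X.IsFinSp) (hpw : X.IsPwConnected) {A : Alg X}
    (hA : A.IsEtCover)
    (hlt : ∃ (B : Alg X) (n : ℕ), B.IsCovering ∧ ∀ p : X.pt,
      Nonempty (TensorProduct (X.ring p) (B.carrier p) (A.carrier p) ≃ₐ[B.carrier p]
        (Fin n → B.carrier p)))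
    {G : Type v} [Finite G] (σ : G → (A ⟶ A)) :
    Function.Surjective (ξ.fibMap (algInvι A σ)) :=
  fibMap_surjective_of_injective ξ
    (A := ⟨A, hA⟩) (B := ⟨algInv A σ, algInv_isEtCover hX hpw hA hlt σ⟩)
    (ObjectProperty.homMk (algInvι A σ)) (algInvι_injective A σ ξ.base)

end Groth.Agent.H8.SF
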