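import Mathlib
import Groth.Prelude.Def_SchFin
import Groth.Prelude.Def_SchFin2
import Groth.Agent.Lib.Helper8.SchFin.FibSets

/-! # The fibre functor preserves terminal objects, pullbacks, finite coproducts, epimorphisms -/

set_option autoImplicit false

open TensorProduct CategoryTheory CategoryTheory.Limits Opposite

universe u

namespace Groth.Agent.H8.SF

open SchFin

variable {X : RSpace.{u}} {Ω : Type u} [Field Ω] [IsAlgClosed Ω] (ξ : GeomPt X Ω)

theorem fibFunctor_map_apply {A' B' : (FEt X)ᵒᵖ} (φ : A' ⟶ B') (y : ξ.Fib A'.unop.obj) :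
    (ξ.fibFunctor.map φ) y = ξ.fibMap φ.unop.hom y := rfl

/-! ### terminal object -/

theorem fib_preserves_terminal : PreservesLimitsOfShape (Discrete PEmpty.{1}) ξ.fibFunctor := by
  have hT : IsTerminal (op (fetStr X)) := terminalOpOfInitial (fetStrIsInitial X)
  obtain ⟨hu⟩ := fib_str_unique ξ
  have hFT : IsTerminal (ξ.fibFunctor.obj (op (fetStr X))) :=
    IsTerminal.ofUniqueHom (fun Y => FintypeCat.homMk fun _ => hu.default)
      (fun Y m => FintypeCat.hom_ext _ _ fun y => hu.uniq _)
  haveI : PreservesLimit (Functor.empty.{0} (FEt X)ᵒᵖ) ξ.fibFunctor :=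
    preservesLimit_of_preserves_limit_cone hT
      ((isLimitMapConeEmptyConeEquiv ξ.fibFunctor _).symm hFT)
  exact preservesLimitsOfShape_pempty_of_preservesTerminal ξ.fibFunctor

/-! ### initial object -/

theorem fib_preserves_initial : PreservesColimitsOfShape (Discrete PEmpty.{1}) ξ.fibFunctor := by
  have hI : IsInitial (op (fetZero X)) := initialOpOfTerminal (fetZeroIsTerminal X)
  haveI he : IsEmpty (ξ.Fib (algZero X)) := fib_zero_isEmpty ξ
  have hFI : IsInitial (ξ.fibFunctor.obj (op (fetZero X))) :=
    IsInitial.ofUniqueHom (fun Y => FintypeCat.homMk fun y => he.elim y)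
      (fun Y m => FintypeCat.hom_ext _ _ fun y => he.elim y)
  haveI : PreservesColimit (Functor.empty.{0} (FEt X)ᵒᵖ) ξ.fibFunctor :=
    preservesColimit_of_preserves_colimit_cocone hI
      ((isColimitMapCoconeEmptyCoconeEquiv ξ.fibFunctor _).symm hFI)
  exact preservesColimitsOfShape_pempty_of_preservesInitial ξ.fibFunctor

/-! ### pullbacks -/

namespace PushoutData

variable {C A B : FEt X} {f : C ⟶ A} {g : C ⟶ B} (D : PushoutData f g)

theorem condition_op : D.inl.op ≫ f.op = D.inr.op ≫ g.op := by
  rw [← op_comp, ← op_comp, D.condition]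

/-- a cone in the opposite category gives a cocone -/
def coconeOfCone (s : PullbackCone f.op g.op) : PushoutCocone f g :=
  PushoutCocone.mk s.fst.unop s.snd.unop (by
    have := congrArg Quiver.Hom.unop s.condition
    simpa using this)

/-- the pushout, seen as a pullback in the opposite category -/
noncomputable def isLimitOp : IsLimit (PullbackCone.mk D.inl.op D.inr.op D.condition_op) :=
  PullbackCone.IsLimit.mk _
    (fun s => (D.desc (coconeOfCone s)).op)
    (fun s => by
      apply Quiver.Hom.unop_inj
      exact D.inl_desc (coconeOfCone s))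
    (fun s => by
      apply Quiver.Hom.unop_inj
      exact D.inr_desc (coconeOfCone s))
    (fun s m h₁ h₂ => by
      apply Quiver.Hom.unop_inj
      refine D.desc_uniq (coconeOfCone s) m.unop ?_ ?_
      · exact congrArg Quiver.Hom.unop h₁
      · exact congrArg Quiver.Hom.unop h₂)

end PushoutData

theorem fib_isLimit_pullback {C A B : FEt X} {f : C ⟶ A} {g : C ⟶ B} (D : PushoutData f g) :
    Nonempty (IsLimit (PullbackCone.mk (ξ.fibFunctor.map D.inl.op) (ξ.fibFunctor.map D.inr.op)
      (by rw [← Functor.map_comp, ← Functor.map_comp, D.condition_op]) :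
      PullbackCone (ξ.fibFunctor.map f.op) (ξ.fibFunctor.map g.op))) := by
  obtain ⟨hinj, hsurj⟩ := fib_pullback ξ D
  have hcond : ∀ (s : PullbackCone (ξ.fibFunctor.map f.op) (ξ.fibFunctor.map g.op)) (t : s.pt),
      ξ.fibMap f.hom (s.fst t) = ξ.fibMap g.hom (s.snd t) := by
    intro s t
    have := congrArg (fun k => k t) s.condition
    exact this
  refine ⟨PullbackCone.IsLimit.mk _
    (fun s => FintypeCat.homMk fun t => Classical.choose (hsurj (s.fst t) (s.snd t) (hcond s t)))
    (fun s => ?_) (fun s => ?_) (fun s m h₁ h₂ => ?_)⟩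
  · apply FintypeCat.hom_ext
    intro t
    exact (Classical.choose_spec (hsurj (s.fst t) (s.snd t) (hcond s t))).1
  · apply FintypeCat.hom_ext
    intro t
    exact (Classical.choose_spec (hsurj (s.fst t) (s.snd t) (hcond s t))).2
  · apply FintypeCat.hom_ext
    intro t
    apply hinj
    constructor
    · have := congrArg (fun k => k t) h₁
      exact this.trans (Classical.choose_spec (hsurj (s.fst t) (s.snd t) (hcond s t))).1.symm
    · have := congrArg (fun k => k t) h₂
      exact this.trans (Classical.choose_spec (hsurj (s.fst t) (s.snd t) (hcond s t))).2.symm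

theorem fib_preserves_pullbacks (hX : X.IsSchematic) :
    PreservesLimitsOfShape WalkingCospan ξ.fibFunctor := by
  refine ⟨fun {K} => ?_⟩
  obtain ⟨D⟩ := nonempty_pushoutData hX (K.map WalkingCospan.Hom.inl).unop
    (K.map WalkingCospan.Hom.inr).unop
  obtain ⟨hl⟩ := fib_isLimit_pullback ξ D
  haveI : PreservesLimit (cospan (K.map WalkingCospan.Hom.inl) (K.map WalkingCospan.Hom.inr))
      ξ.fibFunctor :=
    preservesLimit_of_preserves_limit_cone D.isLimitOp
      ((isLimitMapConePullbackConeEquiv ξ.fibFunctor D.condition_op).symm hl)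
  exact preservesLimit_of_iso_diagram ξ.fibFunctor (diagramIsoCospan K).symm

/-! ### epimorphisms -/

theorem fib_preserves_epis (hX : X.IsSchematic) : ξ.fibFunctor.PreservesEpimorphisms := by
  refine ⟨fun {A' B'} φ hφ => ?_⟩
  haveI : Mono φ.unop := unop_mono_of_epi φ
  have hinj := injective_of_mono hX φ.unop ξ.base
  have hsurj := fibMap_surjective_of_injective ξ φ.unop hinj
  exact ConcreteCategory.epi_of_surjective (ξ.fibFunctor.map φ) hsurj

end Groth.Agent.H8.SF

namespace Groth.Agent.H8.SF

open SchFin

variable {X : RSpace.{u}} {Ω : Type u} [Field Ω] [IsAlgClosed Ω] (ξ : GeomPt X Ω)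

/-! ### binary coproducts -/

/-- the product, seen as a coproduct in the opposite category -/
noncomputable def fetProdIsColimitOp (A B : FEt X) :
    IsColimit (BinaryCofan.mk (fetProdFst A B).op (fetProdSnd A B).op) :=
  BinaryCofan.IsColimit.mk _
    (fun {T} f g => (ObjectProperty.homMk (algProdLift f.unop.hom g.unop.hom) :
      T.unop ⟶ fetProd A B).op)
    (fun {T} f g => by
      apply Quiver.Hom.unop_inj
      rfl)
    (fun {T} f g => by
      apply Quiver.Hom.unop_inj
      rfl)
    (fun {T} f g m h₁ h₂ => by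
      apply Quiver.Hom.unop_inj
      apply BinaryFan.IsLimit.hom_ext (fetProdIsLimit A B)
      · exact (congrArg Quiver.Hom.unop h₁).trans rfl
      · exact (congrArg Quiver.Hom.unop h₂).trans rfl)

theorem fib_isColimit_binaryCofan (A B : FEt X) :
    Nonempty (IsColimit (BinaryCofan.mk (ξ.fibFunctor.map (fetProdFst A B).op)
      (ξ.fibFunctor.map (fetProdSnd A B).op))) := by
  obtain ⟨h1, h2, h3⟩ := fib_prod ξ A B
  have hT : Nonempty (IsColimit (BinaryCofan.mk
      (FintypeCat.incl.map (ξ.fibFunctor.map (fetProdFst A B).op))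
      (FintypeCat.incl.map (ξ.fibFunctor.map (fetProdSnd A B).op)))) :=
    (Types.binaryCofan_isColimit_iff _).2 ⟨h1, h2, h3⟩
  obtain ⟨hT⟩ := hT
  exact ⟨isColimitOfReflects FintypeCat.incl
    ((isColimitMapCoconeBinaryCofanEquiv FintypeCat.incl _ _).symm hT)⟩

theorem fib_preserves_binary_coproducts :
    PreservesColimitsOfShape (Discrete WalkingPair) ξ.fibFunctor := by
  refine ⟨fun {K} => ?_⟩
  obtain ⟨hl⟩ := fib_isColimit_binaryCofan ξ (K.obj ⟨WalkingPair.left⟩).unop
    (K.obj ⟨WalkingPair.right⟩).unop
  haveI : PreservesColimit (pair (K.obj ⟨WalkingPair.left⟩) (K.obj ⟨WalkingPair.right⟩))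
      ξ.fibFunctor :=
    preservesColimit_of_preserves_colimit_cocone
      (fetProdIsColimitOp (K.obj ⟨WalkingPair.left⟩).unop (K.obj ⟨WalkingPair.right⟩).unop)
      ((isColimitMapCoconeBinaryCofanEquiv ξ.fibFunctor _ _).symm hl)
  exact preservesColimit_of_iso_diagram ξ.fibFunctor (diagramIsoPair K).symm

theorem fib_preserves_finite_coproducts : PreservesFiniteCoproducts ξ.fibFunctor := by
  haveI := fib_preserves_binary_coproducts ξ
  haveI := fib_preserves_initial ξ
  haveI : HasTerminal (FEt X) := fet_hasTerminal X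
  haveI : HasBinaryProducts (FEt X) := fet_hasBinaryProducts X
  haveI : HasFiniteProducts (FEt X) := hasFiniteProducts_of_has_binary_and_terminal
  haveI : HasFiniteCoproducts (FEt X)ᵒᵖ := hasFiniteCoproducts_opposite
  exact ⟨fun n => PreservesFiniteCoproducts.of_preserves_binary_and_initial ξ.fibFunctor (Fin n)⟩

theorem fib_preserves_all (hX : X.IsSchematic) :
    PreservesLimitsOfShape (Discrete PEmpty.{1}) ξ.fibFunctor ∧
      PreservesLimitsOfShape WalkingCospan ξ.fibFunctor ∧
      PreservesFiniteCoproducts ξ.fibFunctor ∧ ξ.fibFunctor.PreservesEpimorphisms :=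
  ⟨fib_preserves_terminal ξ, fib_preserves_pullbacks ξ hX, fib_preserves_finite_coproducts ξ,
    fib_preserves_epis ξ hX⟩

end Groth.Agent.H8.SF
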