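import Mathlib
import Groth.Prelude.Def_SchFin
import Groth.Prelude.Def_SchFin2
import Groth.Agent.Lib.Helper8.SchFin.AlgInv

/-!
# Limits of shape `SingleObj G` in the category of étale covers (helper8)
-/

set_option autoImplicit false

open TensorProduct CategoryTheory CategoryTheory.Limits

universe u

namespace Groth.Agent.H8.SF

open SchFin

/-- the local triviality hypothesis -/
def LocTriv' (X : RSpace.{u}) : Prop :=
  ∀ A : FEt X, ∃ (B : Alg X) (n : ℕ), B.IsCovering ∧
    ∀ p : X.pt, Nonempty (TensorProduct (X.ring p) (B.carrier p) (A.obj.carrier p) ≃ₐ[B.carrier p]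
      (Fin n → B.carrier p))

variable {X : RSpace.{u}} {G : Type u} [Monoid G]

/-- the family of endomorphisms given by a functor from `SingleObj G` -/
def fetAct (F : SingleObj G ⥤ FEt X) (g : G) :
    (F.obj (SingleObj.star G)).obj ⟶ (F.obj (SingleObj.star G)).obj :=
  (F.map g).hom

variable [Finite G]

/-- the invariants as an étale cover -/
def fetInv (hX : X.IsFinSp) (hpw : X.IsPwConnected) (hlt : LocTriv' X)
    (F : SingleObj G ⥤ FEt X) : FEt X :=
  ⟨algInv (F.obj (SingleObj.star G)).obj (fetAct F),
    algInv_isEtCover hX hpw (F.obj (SingleObj.star G)).property (hlt _) (fetAct F)⟩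

/-- the inclusion of the invariants -/
def fetInvι (hX : X.IsFinSp) (hpw : X.IsPwConnected) (hlt : LocTriv' X)
    (F : SingleObj G ⥤ FEt X) : fetInv hX hpw hlt F ⟶ F.obj (SingleObj.star G) :=
  ObjectProperty.homMk (algInvι _ (fetAct F))

theorem fetInvι_comp (hX : X.IsFinSp) (hpw : X.IsPwConnected) (hlt : LocTriv' X)
    (F : SingleObj G ⥤ FEt X) (g : G) :
    fetInvι hX hpw hlt F ≫ F.map g = fetInvι hX hpw hlt F := by
  apply ObjectProperty.hom_ext
  exact algInvι_comp _ (fetAct F) g

/-- the cone of invariants -/
def fetInvCone (hX : X.IsFinSp) (hpw : X.IsPwConnected) (hlt : LocTriv' X)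
    (F : SingleObj G ⥤ FEt X) : Cone F where
  pt := fetInv hX hpw hlt F
  π :=
    { app := fun _ => fetInvι hX hpw hlt F
      naturality := fun _ _ g => by
        refine (Category.id_comp _).trans ?_
        exact (fetInvι_comp hX hpw hlt F g).symm }

/-- the cone of invariants is a limit cone -/
def fetInvIsLimit (hX : X.IsFinSp) (hpw : X.IsPwConnected) (hlt : LocTriv' X)
    (F : SingleObj G ⥤ FEt X) : IsLimit (fetInvCone hX hpw hlt F) where
  lift s := ObjectProperty.homMk (algInvLift _ (fetAct F) (s.π.app (SingleObj.star G)).hom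
    fun g => by
      have := s.w (j := SingleObj.star G) (j' := SingleObj.star G) g
      exact congrArg (fun k => k.hom) this)
  fac s j := by
    apply ObjectProperty.hom_ext
    exact algInvLift_ι _ (fetAct F) (s.π.app (SingleObj.star G)).hom fun g => by
      have := s.w (j := SingleObj.star G) (j' := SingleObj.star G) g
      exact congrArg (fun k => k.hom) this
  uniq s m hm := by
    apply ObjectProperty.hom_ext
    apply Alg.hom_ext
    intro p
    apply AlgHom.ext
    intro x
    apply algInvι_injective _ (fetAct F) p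
    have := congrArg (fun k => k.hom.app p x) (hm (SingleObj.star G))
    exact this

theorem fet_hasLimitsOfShape_singleObj (hX : X.IsFinSp) (hpw : X.IsPwConnected)
    (hlt : LocTriv' X) : HasLimitsOfShape (SingleObj G) (FEt X) :=
  ⟨fun F => ⟨⟨⟨fetInvCone hX hpw hlt F, fetInvIsLimit hX hpw hlt F⟩⟩⟩⟩

end Groth.Agent.H8.SF
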