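import Mathlib
import Groth.Prelude.Def_SchFin
import Groth.Prelude.Def_SchFin2
import Groth.Agent.Lib.Helper8.SchFin.FibOrbit
import Groth.Agent.Lib.Helper8.SchFin.FibPres
import Groth.Agent.Lib.Helper8.SchFin.InvLimit

/-!
# Quotients by finite groups in the opposite of the category of étale covers, and their
preservation by the fibre functor (helper8)
-/

set_option autoImplicit false

open TensorProduct CategoryTheory CategoryTheory.Limits Opposite

universe u v

namespace Groth.Agent.H8.SF

open SchFin

/-- A cocone over a diagram of types indexed by a one-object category is a colimit as soon as the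
leg is surjective and its fibres are contained in orbits. -/
theorem singleObj_isColimit_of {G : Type v} [Monoid G] (J : SingleObj G ⥤ Type u) (c : Cocone J)
    (hsurj : Function.Surjective (c.ι.app (SingleObj.star G)))
    (horb : ∀ x y : J.obj (SingleObj.star G),
      c.ι.app (SingleObj.star G) x = c.ι.app (SingleObj.star G) y → ∃ g : G, J.map g x = y) :
    Nonempty (IsColimit c) := by
  rw [Types.isColimit_iff_coconeTypesIsColimit]
  refine ⟨⟨?_, ?_⟩⟩
  · rintro ⟨⟨j, x⟩⟩ ⟨⟨j', y⟩⟩ h
    obtain ⟨g, hg⟩ := horb x y h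
    exact Quot.sound ⟨g, hg.symm⟩
  · rw [Functor.CoconeTypes.descColimitType_surjective_iff]
    intro z
    obtain ⟨x, hx⟩ := hsurj z
    exact ⟨SingleObj.star G, x, hx⟩

variable {X : RSpace.{u}} {G : Type u} [Group G]

/-- the family of endomorphisms given by a functor from `SingleObj G` to the opposite category -/
def opAct (F : SingleObj G ⥤ (FEt X)ᵒᵖ) (g : G) :
    (F.obj (SingleObj.star G)).unop.obj ⟶ (F.obj (SingleObj.star G)).unop.obj :=
  (F.map g).unop.hom

theorem opAct_one (F : SingleObj G ⥤ (FEt X)ᵒᵖ) : opAct F 1 = 𝟙 _ := by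
  have h : F.map (𝟙 (SingleObj.star G)) = 𝟙 _ := F.map_id _
  exact congrArg (fun k => k.unop.hom) h

theorem opAct_mul (F : SingleObj G ⥤ (FEt X)ᵒᵖ) (g h : G) :
    opAct F (g * h) = opAct F g ≫ opAct F h := by
  have h' : F.map ((h : SingleObj.star G ⟶ SingleObj.star G) ≫
      (g : SingleObj.star G ⟶ SingleObj.star G)) =
      F.map (h : SingleObj.star G ⟶ SingleObj.star G) ≫
        F.map (g : SingleObj.star G ⟶ SingleObj.star G) :=
    F.map_comp (X := SingleObj.star G) (Y := SingleObj.star G) (Z := SingleObj.star G) h g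
  exact congrArg (fun k => k.unop.hom) h'

variable [Finite G]

/-- the quotient (invariants) as an object of the opposite category -/
def quotObj (hX : X.IsFinSp) (hpw : X.IsPwConnected) (hlt : LocTriv' X)
    (F : SingleObj G ⥤ (FEt X)ᵒᵖ) : FEt X :=
  ⟨algInv (F.obj (SingleObj.star G)).unop.obj (opAct F),
    algInv_isEtCover hX hpw (F.obj (SingleObj.star G)).unop.property (hlt _) (opAct F)⟩

/-- the inclusion of the invariants -/
def quotIncl (hX : X.IsFinSp) (hpw : X.IsPwConnected) (hlt : LocTriv' X)
    (F : SingleObj G ⥤ (FEt X)ᵒᵖ) : quotObj hX hpw hlt F ⟶ (F.obj (SingleObj.star G)).unop :=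
  ObjectProperty.homMk (algInvι _ (opAct F))

theorem quotIncl_comp (hX : X.IsFinSp) (hpw : X.IsPwConnected) (hlt : LocTriv' X)
    (F : SingleObj G ⥤ (FEt X)ᵒᵖ) (g : G) :
    quotIncl hX hpw hlt F ≫ (F.map g).unop = quotIncl hX hpw hlt F := by
  apply ObjectProperty.hom_ext
  exact algInvι_comp _ (opAct F) g

/-- the quotient cocone -/
def quotCocone (hX : X.IsFinSp) (hpw : X.IsPwConnected) (hlt : LocTriv' X)
    (F : SingleObj G ⥤ (FEt X)ᵒᵖ) : Cocone F where
  pt := op (quotObj hX hpw hlt F)
  ι :=
    { app := fun _ => (quotIncl hX hpw hlt F).op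
      naturality := fun _ _ g => by
        refine Eq.trans ?_ (Category.comp_id _).symm
        apply Quiver.Hom.unop_inj
        exact quotIncl_comp hX hpw hlt F g }

/-- the quotient cocone is a colimit -/
def quotIsColimit (hX : X.IsFinSp) (hpw : X.IsPwConnected) (hlt : LocTriv' X)
    (F : SingleObj G ⥤ (FEt X)ᵒᵖ) : IsColimit (quotCocone hX hpw hlt F) where
  desc s := (ObjectProperty.homMk (algInvLift _ (opAct F) (s.ι.app (SingleObj.star G)).unop.hom
    fun g => by
      have := s.w (j := SingleObj.star G) (j' := SingleObj.star G) g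
      exact congrArg (fun k => k.unop.hom) this) : s.pt.unop ⟶ quotObj hX hpw hlt F).op
  fac s j := by
    apply Quiver.Hom.unop_inj
    apply ObjectProperty.hom_ext
    exact algInvLift_ι _ (opAct F) (s.ι.app (SingleObj.star G)).unop.hom fun g => by
      have := s.w (j := SingleObj.star G) (j' := SingleObj.star G) g
      exact congrArg (fun k => k.unop.hom) this
  uniq s m hm := by
    apply Quiver.Hom.unop_inj
    apply ObjectProperty.hom_ext
    apply Alg.hom_ext
    intro p
    apply AlgHom.ext
    intro x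
    apply algInvι_injective _ (opAct F) p
    have := congrArg (fun k => k.unop.hom.app p x) (hm (SingleObj.star G))
    exact this

theorem fetOp_hasColimitsOfShape_singleObj (hX : X.IsFinSp) (hpw : X.IsPwConnected)
    (hlt : LocTriv' X) : HasColimitsOfShape (SingleObj G) (FEt X)ᵒᵖ :=
  ⟨fun F => ⟨⟨⟨quotCocone hX hpw hlt F, quotIsColimit hX hpw hlt F⟩⟩⟩⟩

variable {Ω : Type u} [Field Ω] [IsAlgClosed Ω] (ξ : GeomPt X Ω)

theorem fib_preserves_quot (hX : X.IsFinSp) (hpw : X.IsPwConnected) (hlt : LocTriv' X) :
    PreservesColimitsOfShape (SingleObj G) ξ.fibFunctor := by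
  refine ⟨fun {F} => ?_⟩
  have hcol : Nonempty (IsColimit (FintypeCat.incl.mapCocone
      (ξ.fibFunctor.mapCocone (quotCocone hX hpw hlt F)))) := by
    apply singleObj_isColimit_of
    · exact fib_inv_surjective ξ hX hpw (F.obj (SingleObj.star G)).unop.property (hlt _)
        (opAct F)
    · intro y y' h
      exact fib_orbit ξ hX hpw (F.obj (SingleObj.star G)).unop.property (hlt _) (opAct F)
        ⟨1, opAct_one F⟩ (fun g h => ⟨h * g, opAct_mul F h g⟩)
        (fun g => ⟨g⁻¹, by rw [← opAct_mul, inv_mul_cancel, opAct_one]⟩) y y' h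
  obtain ⟨hcol⟩ := hcol
  exact preservesColimit_of_preserves_colimit_cocone (quotIsColimit hX hpw hlt F)
    (isColimitOfReflects FintypeCat.incl hcol)

end Groth.Agent.H8.SF
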