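import Mathlib

/-! # Flat epimorphisms of commutative rings -/

set_option autoImplicit false

open TensorProduct

universe u

namespace Groth.Agent.H8.SF

lemma isEpi_of_forall_ext {A B : Type u} [CommRing A] [CommRing B] [Algebra A B]
    (H : ∀ (g₁ g₂ : B →+* (B ⊗[A] B)),
      g₁.comp (algebraMap A B) = g₂.comp (algebraMap A B) → g₁ = g₂) : Algebra.IsEpi A B := by
  rw [Algebra.isEpi_iff_forall_one_tmul_eq]
  intro b
  have := H
    (Algebra.TensorProduct.includeRight (R := A) (A := B) (B := B)).toRingHom
    (Algebra.TensorProduct.includeLeftRingHom (R := A) (A := B) (B := B))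
    (by
      ext a
      show (1 : B) ⊗ₜ[A] (algebraMap A B a) = (algebraMap A B a) ⊗ₜ[A] (1 : B)
      rw [Algebra.algebraMap_eq_smul_one, TensorProduct.tmul_smul, TensorProduct.smul_tmul'])
  exact RingHom.congr_fun this b

lemma ringHom_ext_of_isEpi {A B : Type*} [CommRing A] [CommRing B] [Algebra A B]
    [Algebra.IsEpi A B] {T : Type*} [CommRing T] (g₁ g₂ : B →+* T)
    (h : g₁.comp (algebraMap A B) = g₂.comp (algebraMap A B)) : g₁ = g₂ := by
  letI : Algebra A T := (g₂.comp (algebraMap A B)).toAlgebra
  let f' : B →ₐ[A] T := ⟨g₁, fun a => RingHom.congr_fun h a⟩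
  let g' : B →ₐ[A] T := ⟨g₂, fun _ => rfl⟩
  ext s
  have H := (Algebra.isEpi_iff_forall_one_tmul_eq A B).1 inferInstance s
  have := congrArg (Algebra.TensorProduct.lift f' g' (fun _ _ => Commute.all _ _)) H
  simpa [f', g'] using this.symm

lemma bijective_algebraMap_of_faithfullyFlat_of_isEpi (A B : Type*) [CommRing A] [CommRing B]
    [Algebra A B] [Module.FaithfullyFlat A B] [Algebra.IsEpi A B] :
    Function.Bijective (algebraMap A B) := by
  have key : Function.Bijective ((Algebra.linearMap A B).lTensor B) := by
    have e : ∀ t : B ⊗[A] A, (TensorProduct.lid' A B B) ((Algebra.linearMap A B).lTensor B t) =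
        TensorProduct.rid A B t := by
      intro t
      induction t using TensorProduct.induction_on with
      | zero => simp
      | tmul b a =>
        simp only [LinearMap.lTensor_tmul, Algebra.linearMap_apply, TensorProduct.lid'_apply_tmul,
          TensorProduct.rid_tmul, Algebra.smul_def]
        show b * _ = _ * b
        exact mul_comm _ _
      | add s t hs ht => simp only [map_add, hs, ht]
    have : ((Algebra.linearMap A B).lTensor B : B ⊗[A] A → B ⊗[A] B) =
        (TensorProduct.lid' A B B).symm ∘ (TensorProduct.rid A B) := by
      funext t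
      rw [Function.comp_apply, ← e t, LinearEquiv.symm_apply_apply]
    rw [this]
    exact (TensorProduct.lid' A B B).symm.bijective.comp (TensorProduct.rid A B).bijective
  exact (Module.FaithfullyFlat.lTensor_bijective_iff_bijective A B (Algebra.linearMap A B)).1 key

theorem localRingHom_bijective_of_flat_of_isEpi {A B : Type u} [CommRing A] [CommRing B]
    (g : A →+* B) (hflat : g.Flat)
    (hepi : ∀ (T : Type u) [CommRing T] (g₁ g₂ : B →+* T), g₁.comp g = g₂.comp g → g₁ = g₂)
    (P : Ideal B) [P.IsPrime] :
    Function.Bijective (Localization.localRingHom (P.comap g) P g rfl) := by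
  set φ := Localization.localRingHom (P.comap g) P g rfl with hφ
  letI : Algebra A B := g.toAlgebra
  haveI : Module.Flat A B := hflat
  letI : Algebra (Localization.AtPrime (P.comap g)) (Localization.AtPrime P) := φ.toAlgebra
  haveI : IsScalarTower A (Localization.AtPrime (P.comap g)) (Localization.AtPrime P) :=
    IsScalarTower.of_algebraMap_eq fun a => by
      rw [IsScalarTower.algebraMap_apply A B (Localization.AtPrime P)]
      show algebraMap B (Localization.AtPrime P) (g a) = φ (algebraMap A _ a)
      rw [hφ, Localization.localRingHom_to_map]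
  haveI : Module.Flat A (Localization.AtPrime P) := Module.Flat.trans A B _
  haveI : Module.Flat (Localization.AtPrime (P.comap g)) (Localization.AtPrime P) :=
    (Module.flat_iff_of_isLocalization (Localization.AtPrime (P.comap g)) (P.comap g).primeCompl
      (Localization.AtPrime P)).2 inferInstance
  haveI : IsLocalHom (algebraMap (Localization.AtPrime (P.comap g)) (Localization.AtPrime P)) :=
    Localization.isLocalHom_localRingHom (P.comap g) P g rfl
  haveI : Module.FaithfullyFlat (Localization.AtPrime (P.comap g)) (Localization.AtPrime P) :=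
    Module.FaithfullyFlat.of_flat_of_isLocalHom
  haveI : Algebra.IsEpi (Localization.AtPrime (P.comap g)) (Localization.AtPrime P) := by
    apply isEpi_of_forall_ext
    intro g₁ g₂ h12
    apply IsLocalization.ringHom_ext P.primeCompl
    apply hepi
    ext a
    have := RingHom.congr_fun h12 (algebraMap A _ a)
    simp only [RingHom.comp_apply] at this ⊢
    have e : algebraMap (Localization.AtPrime (P.comap g)) (Localization.AtPrime P)
        (algebraMap A _ a) = algebraMap B (Localization.AtPrime P) (g a) := by
      show φ (algebraMap A _ a) = _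
      rw [hφ, Localization.localRingHom_to_map]
    rw [e] at this
    exact this
  exact bijective_algebraMap_of_faithfullyFlat_of_isEpi _ _

theorem localRingHom_bijective_of_flat_of_isEpi' {A B : Type u} [CommRing A] [CommRing B]
    (g : A →+* B) (hflat : g.Flat)
    (hepi : ∀ (T : Type u) [CommRing T] (g₁ g₂ : B →+* T), g₁.comp g = g₂.comp g → g₁ = g₂)
    (I : Ideal A) [I.IsPrime] (J : Ideal B) [J.IsPrime] (hIJ : I = J.comap g) :
    Function.Bijective (Localization.localRingHom I J g hIJ) := by
  subst hIJ
  exact localRingHom_bijective_of_flat_of_isEpi g hflat hepi J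

end Groth.Agent.H8.SF
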