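import Mathlib

/-! # Injective maps of finite étale algebras of equal rank are isomorphisms -/

set_option autoImplicit false

open TensorProduct

universe u

namespace Groth.Agent.H8.SF

/-- base change of a faithfully flat algebra map stays injective -/
theorem baseChange_injective_of_faithfullyFlat {R A B K : Type u} [CommRing R] [CommRing A]
    [CommRing B] [CommRing K] [Algebra R A] [Algebra R B] [Algebra R K] [Algebra A B]
    [IsScalarTower R A B] [Module.FaithfullyFlat A B] :
    Function.Injective
      (Algebra.TensorProduct.map (IsScalarTower.toAlgHom R A B) (AlgHom.id R K)) := by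
  letI : Algebra (A ⊗[R] K) (B ⊗[R] K) :=
    (Algebra.TensorProduct.map (IsScalarTower.toAlgHom R A B) (AlgHom.id R K)).toRingHom.toAlgebra
  haveI : IsScalarTower A (A ⊗[R] K) (B ⊗[R] K) := IsScalarTower.of_algebraMap_eq fun a => by
    show algebraMap A B a ⊗ₜ[R] (1 : K) =
      (Algebra.TensorProduct.map (IsScalarTower.toAlgHom R A B) (AlgHom.id R K)) (a ⊗ₜ 1)
    rw [Algebra.TensorProduct.map_tmul]
    rfl
  haveI : Algebra.IsPushout A B (A ⊗[R] K) (B ⊗[R] K) :=
    Algebra.IsPushout.tensorProduct_tensorProduct R K A B (by
      ext k
      show (Algebra.TensorProduct.map (IsScalarTower.toAlgHom R A B) (AlgHom.id R K)) (1 ⊗ₜ k) =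
        1 ⊗ₜ k
      rw [Algebra.TensorProduct.map_tmul, map_one]
      rfl)
  haveI : Algebra.IsPushout A (A ⊗[R] K) B (B ⊗[R] K) := Algebra.IsPushout.symm inferInstance
  haveI : Module.FaithfullyFlat (A ⊗[R] K) ((A ⊗[R] K) ⊗[A] B) := inferInstance
  haveI : Module.FaithfullyFlat (A ⊗[R] K) (B ⊗[R] K) :=
    Module.FaithfullyFlat.of_linearEquiv (A ⊗[R] K) ((A ⊗[R] K) ⊗[A] B)
      (Algebra.IsPushout.equiv A (A ⊗[R] K) B (B ⊗[R] K)).symm.toLinearEquiv
  exact FaithfulSMul.algebraMap_injective (A ⊗[R] K) (B ⊗[R] K)

end Groth.Agent.H8.SF

namespace Groth.Agent.H8.SF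

/-- the left-tensor version -/
theorem lTensor_injective_of_faithfullyFlat {R A B K : Type u} [CommRing R] [CommRing A]
    [CommRing B] [CommRing K] [Algebra R A] [Algebra R B] [Algebra R K] [Algebra A B]
    [IsScalarTower R A B] [Module.FaithfullyFlat A B] :
    Function.Injective
      (LinearMap.lTensor K (IsScalarTower.toAlgHom R A B).toLinearMap) := by
  have h := baseChange_injective_of_faithfullyFlat (R := R) (A := A) (B := B) (K := K)
  have key : ∀ x : K ⊗[R] A, LinearMap.lTensor K (IsScalarTower.toAlgHom R A B).toLinearMap x =
      TensorProduct.comm R B K ((Algebra.TensorProduct.map (IsScalarTower.toAlgHom R A B)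
        (AlgHom.id R K)) (TensorProduct.comm R K A x)) := by
    intro x
    induction x using TensorProduct.induction_on with
    | zero => simp
    | tmul k a => simp
    | add x y hx hy => simp only [map_add, hx, hy]
  intro x y hxy
  rw [key, key] at hxy
  exact (TensorProduct.comm R K A).injective (h ((TensorProduct.comm R B K).injective hxy))

/-- An injective map of finite étale algebras of the same rank everywhere is surjective. -/
theorem surjective_of_injective_of_rank_eq {R A B : Type u} [CommRing R] [CommRing A] [CommRing B]
    [Algebra R A] [Algebra R B] [Module.Finite R A] [Module.Finite R B]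
    [Algebra.Etale R A] [Algebra.Etale R B] (φ : A →ₐ[R] B) (hφ : Function.Injective φ)
    (hrk : ∀ P : PrimeSpectrum R, Module.rankAtStalk A P = Module.rankAtStalk B P) :
    Function.Surjective φ := by
  letI : Algebra A B := φ.toRingHom.toAlgebra
  haveI : IsScalarTower R A B := IsScalarTower.of_algebraMap_eq fun r => (φ.commutes r).symm
  haveI : Algebra.Etale A B := Algebra.Etale.of_restrictScalars R A B
  haveI : Module.Finite A B := Module.Finite.of_restrictScalars_finite R A B
  haveI : Module.Flat A B := inferInstance
  haveI : FaithfulSMul A B := (faithfulSMul_iff_algebraMap_injective A B).2 hφ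
  haveI : Algebra.IsIntegral A B := Algebra.IsIntegral.of_finite A B
  haveI : Module.FaithfullyFlat A B :=
    Module.FaithfullyFlat.of_comap_surjective (Algebra.IsIntegral.comap_surjective A B)
  have hφeq : (IsScalarTower.toAlgHom R A B) = φ := AlgHom.ext fun _ => rfl
  -- the cokernel has empty support
  have hsub : Subsingleton (B ⧸ LinearMap.range φ.toLinearMap) := by
    rw [← Module.support_eq_empty_iff (R := R), Set.eq_empty_iff_forall_notMem]
    intro P hP
    rw [Module.mem_support_iff_nontrivial_residueField_tensorProduct] at hP
    have hinj : Function.Injective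
        (LinearMap.baseChange P.asIdeal.ResidueField φ.toLinearMap) := by
      have := lTensor_injective_of_faithfullyFlat (R := R) (A := A) (B := B)
        (K := P.asIdeal.ResidueField)
      rw [hφeq] at this
      exact this
    have hdim : Module.finrank P.asIdeal.ResidueField (P.asIdeal.ResidueField ⊗[R] A) =
        Module.finrank P.asIdeal.ResidueField (P.asIdeal.ResidueField ⊗[R] B) := by
      have h1 := Module.rankAtStalk_eq (M := A) P
      have h2 := Module.rankAtStalk_eq (M := B) P
      exact h1.symm.trans ((hrk P).trans h2)
    have hsurj : Function.Surjective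
        (LinearMap.baseChange P.asIdeal.ResidueField φ.toLinearMap) :=
      (LinearMap.injective_iff_surjective_of_finrank_eq_finrank hdim).1 hinj
    -- so the tensor of the cokernel vanishes
    have hzero : ∀ z : P.asIdeal.ResidueField ⊗[R] (B ⧸ LinearMap.range φ.toLinearMap), z = 0 := by
      intro z
      obtain ⟨y, rfl⟩ := LinearMap.lTensor_surjective P.asIdeal.ResidueField
        (Submodule.mkQ_surjective (LinearMap.range φ.toLinearMap)) z
      obtain ⟨x, rfl⟩ := hsurj y
      induction x using TensorProduct.induction_on with
      | zero => simp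
      | tmul k a =>
          rw [LinearMap.baseChange_tmul, LinearMap.lTensor_tmul]
          have : (LinearMap.range φ.toLinearMap).mkQ (φ.toLinearMap a) = 0 :=
            (Submodule.Quotient.mk_eq_zero _).2 ⟨a, rfl⟩
          rw [this, TensorProduct.tmul_zero]
      | add x y hx hy => rw [map_add, map_add, hx, hy, add_zero]
    obtain ⟨z, z', hzz⟩ := hP
    exact hzz ((hzero z).trans (hzero z').symm)
  have htop : LinearMap.range φ.toLinearMap = ⊤ :=
    Submodule.Quotient.subsingleton_iff.1 hsub
  intro b
  have : b ∈ LinearMap.range φ.toLinearMap := htop ▸ trivial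
  obtain ⟨a, ha⟩ := this
  exact ⟨a, ha⟩

end Groth.Agent.H8.SF
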