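import Mathlib
import Groth.Prelude.Def_SchFin
import Groth.Prelude.Def_SchFin2
import Groth.Agent.Lib.Helper8.SchFin.RankIso

/-! # Pointwise bijective morphisms of étale covers are isomorphisms -/

set_option autoImplicit false

open TensorProduct CategoryTheory CategoryTheory.Limits

universe u

namespace Groth.Agent.H8.SF

open SchFin

variable {X : RSpace.{u}}

/-- the inverse of a pointwise bijective morphism of algebras -/
noncomputable def algInvOfBijective {A B : Alg X} (f : A ⟶ B)
    (h : ∀ p, Function.Bijective (f.app p)) : B ⟶ A :=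
  ⟨fun p => (AlgEquiv.ofBijective (f.app p) (h p)).symm.toAlgHom, fun {p q} hpq b => by
    apply (h q).1
    show f.app q (A.res hpq ((AlgEquiv.ofBijective (f.app p) (h p)).symm b)) =
      (AlgEquiv.ofBijective (f.app q) (h q)) ((AlgEquiv.ofBijective (f.app q) (h q)).symm
        (B.res hpq b))
    rw [AlgEquiv.apply_symm_apply, ← f.compat]
    congr 1
    exact (AlgEquiv.ofBijective (f.app p) (h p)).apply_symm_apply b⟩

theorem isIso_of_bijective {A B : FEt X} (f : A ⟶ B)
    (h : ∀ p, Function.Bijective (f.hom.app p)) : IsIso f := by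
  refine ⟨ObjectProperty.homMk (algInvOfBijective f.hom h), ?_, ?_⟩
  · apply ObjectProperty.hom_ext
    apply Alg.hom_ext
    intro p
    apply AlgHom.ext
    intro a
    exact (AlgEquiv.ofBijective (f.hom.app p) (h p)).symm_apply_apply a
  · apply ObjectProperty.hom_ext
    apply Alg.hom_ext
    intro p
    apply AlgHom.ext
    intro b
    exact (AlgEquiv.ofBijective (f.hom.app p) (h p)).apply_symm_apply b

/-- S15630: injective with equal ranks implies isomorphism -/
theorem isIso_of_injective_of_rank_eq {A B : FEt X} (f : A ⟶ B)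
    (hf : ∀ p : X.pt, Function.Injective (f.hom.app p))
    (hdeg : ∀ (p : X.pt) (P : PrimeSpectrum (X.ring p)),
      Module.rankAtStalk (A.obj.carrier p) P = Module.rankAtStalk (B.obj.carrier p) P) :
    IsIso f := by
  refine isIso_of_bijective f fun p => ⟨hf p, ?_⟩
  haveI := (A.property.2 p).1
  haveI := (A.property.2 p).2
  haveI := (B.property.2 p).1
  haveI := (B.property.2 p).2
  exact surjective_of_injective_of_rank_eq (f.hom.app p) (hf p) (hdeg p)

end Groth.Agent.H8.SF
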