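import Mathlib
import Groth.Prelude.Def_SchFin
import Groth.Prelude.Def_SchFin2
import Groth.Agent.Lib.Helper8.SchFin.FibHom

/-! # Ranks of locally trivial étale covers and cardinality of geometric fibres -/

set_option autoImplicit false

open TensorProduct CategoryTheory

universe u

namespace Groth.Agent.H8.SF

open SchFin

/-- rank of an algebra trivialised by a faithfully flat base change -/
theorem rankAtStalk_eq_of_trivialised {R T A : Type u} [CommRing R] [CommRing T] [CommRing A]
    [Algebra R T] [Algebra R A] [Module.FaithfullyFlat R T] [Module.Finite R A] [Module.Flat R A]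
    (n : ℕ) (e : (T ⊗[R] A) ≃ₐ[T] (Fin n → T)) (P : PrimeSpectrum R) :
    Module.rankAtStalk A P = n := by
  obtain ⟨𝔓, rfl⟩ := PrimeSpectrum.comap_surjective_of_faithfullyFlat (A := R) (B := T) P
  haveI : Nontrivial T := 𝔓.nontrivial
  rw [← Module.rankAtStalk_baseChange (R := R) (M := A) (S := T) 𝔓,
    Module.rankAtStalk_eq_of_equiv e.toLinearEquiv, Module.rankAtStalk_eq_finrank_of_free]
  simp

/-- the number of points of a geometric fibre is the rank -/
theorem card_spec_eq_rank {R A Ω : Type u} [CommRing R] [CommRing A] [Field Ω] [IsAlgClosed Ω]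
    [Algebra R Ω] [Algebra R A] [Module.Finite R A] [Algebra.Etale R A] :
    Nat.card (PrimeSpectrum (Ω ⊗[R] A)) =
      Module.rankAtStalk A ((⊥ : PrimeSpectrum Ω).comap (algebraMap R Ω)) := by
  have e := Algebra.FormallyEtale.equivPiOfIsSepClosed Ω (Ω ⊗[R] A)
  haveI : Finite (PrimeSpectrum (Ω ⊗[R] A)) := by
    haveI : Module.Finite Ω (Ω ⊗[R] A) := inferInstance
    haveI : IsArtinianRing (Ω ⊗[R] A) := IsArtinianRing.of_finite Ω _
    infer_instance
  rw [← Module.rankAtStalk_baseChange (R := R) (M := A) (S := Ω) ⊥,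
    Module.rankAtStalk_eq_finrank_of_free, Pi.natCast_apply]
  have h1 : Module.finrank Ω (Ω ⊗[R] A) = Module.finrank Ω (PrimeSpectrum (Ω ⊗[R] A) → Ω) :=
    e.toLinearEquiv.finrank_eq
  rw [h1]
  haveI := Fintype.ofFinite (PrimeSpectrum (Ω ⊗[R] A))
  rw [Module.finrank_fintype_fun_eq_card, Nat.card_eq_fintype_card]
  rfl

end Groth.Agent.H8.SF
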