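import Mathlib
import Groth.Prelude.Def_SchFin
import Groth.Prelude.Def_SchFin2
import Groth.Agent.Lib.Helper8.SchFin.RankTriv
import Groth.Agent.Lib.Helper8.SchFin.IsoOfBij
import Groth.Agent.Lib.Helper8.SchFin.Factor
import Groth.Agent.Lib.Helper8.SchFin.FibPres

/-! # The fibre functor reflects isomorphisms -/

set_option autoImplicit false

open TensorProduct CategoryTheory CategoryTheory.Limits Opposite

universe u

namespace Groth.Agent.H8.SF

open SchFin

variable {X : RSpace.{u}}

/-- the local triviality hypothesis -/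
def LocTriv (X : RSpace.{u}) : Prop :=
  ∀ A : FEt X, ∃ (B : Alg X) (n : ℕ), B.IsCovering ∧
    ∀ p : X.pt, Nonempty (TensorProduct (X.ring p) (B.carrier p) (A.obj.carrier p)
      ≃ₐ[B.carrier p] (Fin n → B.carrier p))

theorem rank_const (hlt : LocTriv X) (A : FEt X) :
    ∃ n : ℕ, (∀ (p : X.pt) (P : PrimeSpectrum (X.ring p)),
      Module.rankAtStalk (A.obj.carrier p) P = n) ∧
      ∀ {Ω : Type u} [Field Ω] [IsAlgClosed Ω] (ξ : GeomPt X Ω), Nat.card (ξ.Fib A.obj) = n := by
  obtain ⟨B, n, hB, hiso⟩ := hlt A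
  have h1 : ∀ (p : X.pt) (P : PrimeSpectrum (X.ring p)),
      Module.rankAtStalk (A.obj.carrier p) P = n := by
    intro p P
    haveI := (hB.2 p).2
    haveI := (A.property.2 p).1
    haveI := (A.property.2 p).2
    obtain ⟨e⟩ := hiso p
    exact rankAtStalk_eq_of_trivialised n e P
  refine ⟨n, h1, fun {Ω} _ _ ξ => ?_⟩
  letI : Algebra (X.ring ξ.base) Ω := ξ.toField.toAlgebra
  haveI := (A.property.2 ξ.base).1
  haveI := (A.property.2 ξ.base).2
  exact (card_spec_eq_rank (R := X.ring ξ.base) (A := A.obj.carrier ξ.base) (Ω := Ω)).trans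
    (h1 ξ.base _)

/-- a pointwise surjective morphism has a complement with pointwise product decomposition -/
theorem exists_complement_bij (hX : X.IsSchematic) {A B : FEt X} (f : A ⟶ B)
    (hf : ∀ p : X.pt, Function.Surjective (f.hom.app p)) :
    ∃ (D : FEt X) (π : A ⟶ D),
      ∀ p, Function.Bijective (AlgHom.prod (f.hom.app p) (π.hom.app p)) := by
  obtain ⟨e, he, hker, hc⟩ := exists_kerIdem hX.1 A.property B.property f.hom
  have hfe : ∀ p, (f.hom.app p) (e p) = 0 := by
    intro p
    have : e p ∈ RingHom.ker (f.hom.app p).toRingHom := by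
      rw [hker p]; exact Ideal.subset_span rfl
    exact this
  have hc' : ∀ (p q : X.pt) (h : p ≤ q), A.obj.res h (1 - e p) = 1 - e q := by
    intro p q h
    rw [map_sub, map_one, hc p q h]
  refine ⟨⟨algQuot A.obj (fun p => 1 - e p) hc',
    algQuot_isEtCover A.property _ (fun p => (he p).one_sub) hc'⟩,
    ObjectProperty.homMk (algQuotMk A.obj _ hc'), fun p => ⟨?_, ?_⟩⟩
  · rw [injective_iff_map_eq_zero]
    intro a ha
    have h1 : (f.hom.app p) a = 0 := congrArg Prod.fst ha
    have h2 : Ideal.Quotient.mk (Ideal.span {1 - e p}) a = 0 := congrArg Prod.snd ha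
    have h1' : a ∈ RingHom.ker (f.hom.app p).toRingHom := h1
    rw [hker p] at h1'
    obtain ⟨c, rfl⟩ := Ideal.mem_span_singleton'.1 h1'
    obtain ⟨d, hd⟩ := Ideal.mem_span_singleton'.1 (Ideal.Quotient.eq_zero_iff_mem.1 h2)
    have hee := (he p).eq
    calc c * e p = c * e p * e p := by rw [mul_assoc, hee]
      _ = d * (1 - e p) * e p := by rw [hd]
      _ = 0 := by rw [mul_assoc, sub_mul, one_mul, hee, sub_self, mul_zero]
  · rintro ⟨b, d⟩
    obtain ⟨a₀, rfl⟩ := hf p b
    obtain ⟨a', rfl⟩ := Ideal.Quotient.mk_surjective d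
    refine ⟨(1 - e p) * a₀ + e p * a', Prod.ext ?_ ?_⟩
    · show (f.hom.app p) ((1 - e p) * a₀ + e p * a') = (f.hom.app p) a₀
      rw [map_add, map_mul, map_mul, map_sub, map_one, hfe p]
      ring
    · show Ideal.Quotient.mk (Ideal.span {1 - e p}) ((1 - e p) * a₀ + e p * a') =
        Ideal.Quotient.mk (Ideal.span {1 - e p}) a'
      rw [Ideal.Quotient.eq]
      refine Ideal.mem_span_singleton'.2 ⟨a₀ - a', ?_⟩
      ring

end Groth.Agent.H8.SF

namespace Groth.Agent.H8.SF

open SchFin

section ring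

variable {R : Type u} [CommRing R] {Ω : Type u} [Field Ω] [IsAlgClosed Ω] [Algebra R Ω]
  {S Q D : Type u} [CommRing S] [Algebra R S] [Module.Finite R S] [Algebra.Etale R S]
  [CommRing Q] [Algebra R Q] [Module.Finite R Q] [Algebra.Etale R Q]
  [CommRing D] [Algebra R D] [Module.Finite R D] [Algebra.Etale R D]

theorem spec_complement_isEmpty (q : S →ₐ[R] Q) (π : S →ₐ[R] D)
    (hs : Function.Surjective (AlgHom.prod q π))
    (hq : Function.Surjective (specMap (Ω := Ω) q)) : IsEmpty (PrimeSpectrum (Ω ⊗[R] D)) := by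
  refine ⟨fun d => ?_⟩
  obtain ⟨δ, rfl⟩ := (homEquivSpec (R := R) (Ω := Ω) D).surjective d
  obtain ⟨y, hy⟩ := hq (specMap π (homEquivSpec D δ))
  obtain ⟨α, rfl⟩ := (homEquivSpec (R := R) (Ω := Ω) Q).surjective y
  rw [specMap_homEquivSpec, specMap_homEquivSpec, (homEquivSpec S).apply_eq_iff_eq] at hy
  obtain ⟨s, hs'⟩ := hs (0, 1)
  have h1 : q s = 0 := congrArg Prod.fst hs'
  have h2 : π s = 1 := congrArg Prod.snd hs'
  have := AlgHom.congr_fun hy s
  have h3 : α (q s) = δ (π s) := this
  rw [h1, h2, map_zero, map_one] at h3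
  exact zero_ne_one h3

end ring

variable {X : RSpace.{u}} {Ω : Type u} [Field Ω] [IsAlgClosed Ω] (ξ : GeomPt X Ω)

theorem fib_complement_isEmpty {S Q D : FEt X} (q : S ⟶ Q) (π : S ⟶ D)
    (hs : Function.Surjective (AlgHom.prod (q.hom.app ξ.base) (π.hom.app ξ.base)))
    (hq : Function.Surjective (ξ.fibMap q.hom)) : IsEmpty (ξ.Fib D.obj) := by
  letI : Algebra (X.ring ξ.base) Ω := ξ.toField.toAlgebra
  haveI := (S.property.2 ξ.base).1
  haveI := (S.property.2 ξ.base).2
  haveI := (Q.property.2 ξ.base).1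
  haveI := (Q.property.2 ξ.base).2
  haveI := (D.property.2 ξ.base).1
  haveI := (D.property.2 ξ.base).2
  exact spec_complement_isEmpty (q.hom.app ξ.base) (π.hom.app ξ.base) hs hq

/-- the fibre functor reflects isomorphisms -/
theorem fib_reflects_isos (hX : X.IsSchematic) (hlt : LocTriv X) :
    ξ.fibFunctor.ReflectsIsomorphisms := by
  refine ⟨fun {A' B'} f hiso => ?_⟩
  -- `g : S ⟶ T` in `FEt X`
  have hbij : Function.Bijective (ξ.fibMap f.unop.hom) :=
    ConcreteCategory.bijective_of_isIso (ξ.fibFunctor.map f)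
  obtain ⟨Q, q, h, hqh, hq, hh⟩ := exists_image_factorisation hX f.unop
  obtain ⟨D, π, hD⟩ := exists_complement_bij hX q hq
  -- the fibre of the complement is empty
  have hqs : Function.Surjective (ξ.fibMap q.hom) := by
    have hcomp : ξ.fibMap f.unop.hom = ξ.fibMap q.hom ∘ ξ.fibMap h.hom := by
      rw [← hqh]
      exact ξ.fibMap_comp q.hom h.hom
    intro y
    obtain ⟨t, ht⟩ := hbij.2 y
    exact ⟨ξ.fibMap h.hom t, by rw [← ht, hcomp]; rfl⟩
  haveI hempty : IsEmpty (ξ.Fib D.obj) := fib_complement_isEmpty ξ q π (hD ξ.base).2 hqs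
  -- so the complement vanishes
  obtain ⟨nD, hnD, hcD⟩ := rank_const hlt D
  have hnD0 : nD = 0 := by
    rw [← hcD ξ]
    exact Nat.card_of_isEmpty
  have hDsub : ∀ p, Subsingleton (D.obj.carrier p) := by
    intro p
    haveI := (D.property.2 p).1
    haveI := (D.property.2 p).2
    rw [← Module.rankAtStalk_eq_zero_iff_subsingleton (R := X.ring p)]
    funext P
    rw [hnD p P, hnD0]
    rfl
  -- hence `g` is pointwise injective
  have hinj : ∀ p, Function.Injective (f.unop.hom.app p) := by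
    intro p
    have hqinj : Function.Injective (q.hom.app p) := by
      intro a a' haa
      apply (hD p).1
      haveI := hDsub p
      exact Prod.ext haa (Subsingleton.elim _ _)
    have : f.unop.hom.app p = (h.hom.app p).comp (q.hom.app p) := by
      rw [← hqh]; rfl
    rw [this]
    exact (hh p).comp hqinj
  -- ranks agree
  obtain ⟨nS, hnS, hcS⟩ := rank_const hlt B'.unop
  obtain ⟨nT, hnT, hcT⟩ := rank_const hlt A'.unop
  have hcard : nS = nT := by
    rw [← hcS ξ, ← hcT ξ]
    exact (Nat.card_congr (Equiv.ofBijective _ hbij)).symm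
  haveI : IsIso f.unop := isIso_of_injective_of_rank_eq f.unop hinj fun p P => by
    rw [hnS p P, hnT p P, hcard]
  exact (isIso_unop_iff f).1 inferInstance

end Groth.Agent.H8.SF
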