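import Mathlib
import Groth.Prelude.Def_SchFin
import Groth.Prelude.Def_SchFin2
import Groth.Agent.Lib.Helper8.SchFin.FetQuot
import Groth.Agent.Lib.Helper8.SchFin.FibPres
import Groth.Agent.Lib.Helper8.SchFin.ReflIso
import Groth.Agent.Lib.Helper8.SchFin.Factor
import Groth.Agent.Lib.Helper8.SchFin.Pushout

/-!
# The opposite of the category of étale covers is a Galois category (helper8)
-/

set_option autoImplicit false

open TensorProduct CategoryTheory CategoryTheory.Limits Opposite

universe u

namespace Groth.Agent.H8.SF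

open SchFin

variable {X : RSpace.{u}}

/-- a monomorphism of the opposite category is the inclusion of a direct summand -/
theorem fetOp_mono_summand (hX : X.IsSchematic)
    (hepi : ∀ (A B : FEt X) (f : A ⟶ B), Epi f → ∀ p : X.pt, Function.Surjective (f.hom.app p))
    {A' B' : (FEt X)ᵒᵖ} (i : A' ⟶ B') [Mono i] :
    ∃ (Z : (FEt X)ᵒᵖ) (u : Z ⟶ B'), Nonempty (IsColimit (BinaryCofan.mk i u)) := by
  haveI : Epi i.unop := unop_epi_of_mono i
  obtain ⟨D, π, ⟨hl⟩⟩ := exists_complement hX i.unop (hepi _ _ i.unop inferInstance)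
  refine ⟨op D, π.op, ⟨?_⟩⟩
  exact BinaryCofan.IsColimit.mk _
    (fun {T} f g => (BinaryFan.IsLimit.lift' hl f.unop g.unop).1.op)
    (fun {T} f g => by
      apply Quiver.Hom.unop_inj
      exact (BinaryFan.IsLimit.lift' hl f.unop g.unop).2.1)
    (fun {T} f g => by
      apply Quiver.Hom.unop_inj
      exact (BinaryFan.IsLimit.lift' hl f.unop g.unop).2.2)
    (fun {T} f g m h₁ h₂ => by
      apply Quiver.Hom.unop_inj
      apply BinaryFan.IsLimit.hom_ext hl
      · exact (congrArg Quiver.Hom.unop h₁).trans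
          (BinaryFan.IsLimit.lift' hl f.unop g.unop).2.1.symm
      · exact (congrArg Quiver.Hom.unop h₂).trans
          (BinaryFan.IsLimit.lift' hl f.unop g.unop).2.2.symm)

theorem fetOp_preGalois (hX : X.IsSchematic) (hwc : X.IsWellConnected) (hlt : LocTriv' X)
    (hepi : ∀ (A B : FEt X) (f : A ⟶ B), Epi f → ∀ p : X.pt, Function.Surjective (f.hom.app p)) :
    PreGaloisCategory (FEt X)ᵒᵖ := by
  haveI : HasInitial (FEt X) := fet_hasInitial X
  haveI : HasPushouts (FEt X) := fet_hasPushouts hX
  haveI : HasTerminal (FEt X) := fet_hasTerminal X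
  haveI : HasBinaryProducts (FEt X) := fet_hasBinaryProducts X
  haveI : HasFiniteProducts (FEt X) := hasFiniteProducts_of_has_binary_and_terminal
  exact
    { hasTerminal := hasTerminal_op_of_hasInitial
      hasPullbacks := hasPullbacks_opposite
      hasFiniteCoproducts := hasFiniteCoproducts_opposite
      hasQuotientsByFiniteGroups := fun G _ _ =>
        fetOp_hasColimitsOfShape_singleObj hX.1 hwc.2 hlt
      monoInducesIsoOnDirectSummand := fun i _ => fetOp_mono_summand hX hepi i }

theorem fetOp_galois (hX : X.IsSchematic) (hwc : X.IsWellConnected) (hlt : LocTriv' X)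
    (hepi : ∀ (A B : FEt X) (f : A ⟶ B), Epi f → ∀ p : X.pt, Function.Surjective (f.hom.app p))
    {Ω : Type u} [Field Ω] [IsAlgClosed Ω] (ξ : GeomPt X Ω) :
    ∃ h : PreGaloisCategory (FEt X)ᵒᵖ,
      @PreGaloisCategory.FiberFunctor (FEt X)ᵒᵖ _ h ξ.fibFunctor := by
  refine ⟨fetOp_preGalois hX hwc hlt hepi, ?_⟩
  letI := fetOp_preGalois hX hwc hlt hepi
  obtain ⟨h1, h2, h3, h4⟩ := fib_preserves_all ξ hX
  exact
    { preservesTerminalObjects := h1
      preservesPullbacks := h2
      preservesFiniteCoproducts := h3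
      preservesEpis := h4
      preservesQuotientsByFiniteGroups := fun G _ _ => fib_preserves_quot ξ hX.1 hwc.2 hlt
      reflectsIsos := fib_reflects_isos ξ hX hlt }

end Groth.Agent.H8.SF
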