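import Mathlib

/-! # Primes of a tensor product lying over a compatible pair of primes -/

set_option autoImplicit false

open TensorProduct

universe u

namespace Groth.Agent.H8.SF

theorem exists_prime_tensorProduct_aux {R S T : Type u} [CommRing R] [CommRing S] [CommRing T]
    [Algebra R S] [Algebra R T] (P : Ideal S) [P.IsPrime] (Q : Ideal T) [Q.IsPrime]
    (p : Ideal R) (hP : p = P.comap (algebraMap R S)) (hQ : p = Q.comap (algebraMap R T)) :
    ∃ r : Ideal (S ⊗[R] T), r.IsPrime ∧ r.comap (algebraMap S (S ⊗[R] T)) = P ∧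
      r.comap (Algebra.TensorProduct.includeRight (R := R) (A := S) (B := T)).toRingHom = Q := by
  let fA : R ⧸ p →+* S ⧸ P :=
    Ideal.quotientMap P (algebraMap R S) (le_of_eq hP)
  let fB : R ⧸ p →+* T ⧸ Q :=
    Ideal.quotientMap Q (algebraMap R T) (le_of_eq hQ)
  have hfA : Function.Injective fA := Ideal.quotientMap_injective' (le_of_eq hP.symm)
  have hfB : Function.Injective fB := Ideal.quotientMap_injective' (le_of_eq hQ.symm)
  letI algA : Algebra (R ⧸ p) (FractionRing (S ⧸ P)) :=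
    ((algebraMap (S ⧸ P) (FractionRing (S ⧸ P))).comp fA).toAlgebra
  letI algB : Algebra (R ⧸ p) (FractionRing (T ⧸ Q)) :=
    ((algebraMap (T ⧸ Q) (FractionRing (T ⧸ Q))).comp fB).toAlgebra
  have hnt : Nontrivial (FractionRing (S ⧸ P) ⊗[R ⧸ p]
      FractionRing (T ⧸ Q)) :=
    Algebra.TensorProduct.nontrivial_of_algebraMap_injective_of_isDomain
      (R ⧸ p) (FractionRing (S ⧸ P)) (FractionRing (T ⧸ Q))
      (show Function.Injective ((algebraMap (S ⧸ P) (FractionRing (S ⧸ P))).comp fA) from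
        (IsFractionRing.injective (S ⧸ P) (FractionRing (S ⧸ P))).comp hfA)
      (show Function.Injective ((algebraMap (T ⧸ Q) (FractionRing (T ⧸ Q))).comp fB) from
        (IsFractionRing.injective (T ⧸ Q) (FractionRing (T ⧸ Q))).comp hfB)
  obtain ⟨m, hm⟩ := Ideal.exists_maximal (FractionRing (S ⧸ P) ⊗[R ⧸ p]
      FractionRing (T ⧸ Q))
  let iL : FractionRing (S ⧸ P) →+* FractionRing (S ⧸ P) ⊗[R ⧸ p]
      FractionRing (T ⧸ Q) := Algebra.TensorProduct.includeLeftRingHom
  let iR : FractionRing (T ⧸ Q) →+* FractionRing (S ⧸ P) ⊗[R ⧸ p]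
      FractionRing (T ⧸ Q) := Algebra.TensorProduct.includeRight.toRingHom
  let uS : S →+* FractionRing (S ⧸ P) ⊗[R ⧸ p] FractionRing (T ⧸ Q) :=
    iL.comp ((algebraMap (S ⧸ P) (FractionRing (S ⧸ P))).comp (Ideal.Quotient.mk P))
  let uT : T →+* FractionRing (S ⧸ P) ⊗[R ⧸ p] FractionRing (T ⧸ Q) :=
    iR.comp ((algebraMap (T ⧸ Q) (FractionRing (T ⧸ Q))).comp (Ideal.Quotient.mk Q))
  have hR : ∀ r : R, uS (algebraMap R S r) = uT (algebraMap R T r) := by
    intro r
    show (algebraMap (S ⧸ P) (FractionRing (S ⧸ P)) (Ideal.Quotient.mk P (algebraMap R S r)))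
      ⊗ₜ[R ⧸ p] (1 : FractionRing (T ⧸ Q)) =
      (1 : FractionRing (S ⧸ P)) ⊗ₜ[R ⧸ p]
        (algebraMap (T ⧸ Q) (FractionRing (T ⧸ Q)) (Ideal.Quotient.mk Q (algebraMap R T r)))
    have e1 : algebraMap (S ⧸ P) (FractionRing (S ⧸ P)) (Ideal.Quotient.mk P (algebraMap R S r)) =
        (Ideal.Quotient.mk p r) • (1 : FractionRing (S ⧸ P)) := by
      rw [Algebra.smul_def, mul_one]
      rfl
    have e2 : algebraMap (T ⧸ Q) (FractionRing (T ⧸ Q)) (Ideal.Quotient.mk Q (algebraMap R T r)) =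
        (Ideal.Quotient.mk p r) • (1 : FractionRing (T ⧸ Q)) := by
      rw [Algebra.smul_def, mul_one]
      rfl
    rw [e1, e2, TensorProduct.smul_tmul]
  letI algW : Algebra R (FractionRing (S ⧸ P) ⊗[R ⧸ p]
      FractionRing (T ⧸ Q)) := (uS.comp (algebraMap R S)).toAlgebra
  let aS : S →ₐ[R] FractionRing (S ⧸ P) ⊗[R ⧸ p] FractionRing (T ⧸ Q) :=
    { toRingHom := uS, commutes' := fun r => rfl }
  let aT : T →ₐ[R] FractionRing (S ⧸ P) ⊗[R ⧸ p] FractionRing (T ⧸ Q) :=
    { toRingHom := uT, commutes' := fun r => (hR r).symm }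
  let Φ := Algebra.TensorProduct.productMap aS aT
  have hmp : m.IsPrime := hm.isPrime
  have hL : m.comap iL = ⊥ := by
    have : (m.comap iL).IsPrime := Ideal.comap_isPrime iL m
    exact ((Ideal.eq_bot_or_top _).resolve_right this.ne_top)
  have hRr : m.comap iR = ⊥ := by
    have : (m.comap iR).IsPrime := Ideal.comap_isPrime iR m
    exact ((Ideal.eq_bot_or_top _).resolve_right this.ne_top)
  refine ⟨m.comap Φ.toRingHom, Ideal.comap_isPrime _ m, ?_, ?_⟩
  · ext s
    have e : Φ.toRingHom (algebraMap S (S ⊗[R] T) s) = iL ((algebraMap (S ⧸ P)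
        (FractionRing (S ⧸ P))) (Ideal.Quotient.mk P s)) := by
      show Φ (s ⊗ₜ[R] (1 : T)) = _
      rw [Algebra.TensorProduct.productMap_apply_tmul, map_one, mul_one]
      rfl
    rw [Ideal.mem_comap, Ideal.mem_comap, e, ← Ideal.mem_comap, hL, Ideal.mem_bot,
      map_eq_zero_iff _ (IsFractionRing.injective (S ⧸ P) (FractionRing (S ⧸ P))),
      Ideal.Quotient.eq_zero_iff_mem]
  · ext t
    have e : Φ.toRingHom ((Algebra.TensorProduct.includeRight (R := R) (A := S) (B := T)).toRingHom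
        t) = iR ((algebraMap (T ⧸ Q) (FractionRing (T ⧸ Q))) (Ideal.Quotient.mk Q t)) := by
      show Φ ((1 : S) ⊗ₜ[R] t) = _
      rw [Algebra.TensorProduct.productMap_apply_tmul, map_one, one_mul]
      rfl
    rw [Ideal.mem_comap, Ideal.mem_comap, e, ← Ideal.mem_comap, hRr, Ideal.mem_bot,
      map_eq_zero_iff _ (IsFractionRing.injective (T ⧸ Q) (FractionRing (T ⧸ Q))),
      Ideal.Quotient.eq_zero_iff_mem]

theorem exists_prime_tensorProduct {R S T : Type u} [CommRing R] [CommRing S] [CommRing T]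
    [Algebra R S] [Algebra R T] (P : Ideal S) [P.IsPrime] (Q : Ideal T) [Q.IsPrime]
    (h : P.comap (algebraMap R S) = Q.comap (algebraMap R T)) :
    ∃ r : Ideal (S ⊗[R] T), r.IsPrime ∧ r.comap (algebraMap S (S ⊗[R] T)) = P ∧
      r.comap (Algebra.TensorProduct.includeRight (R := R) (A := S) (B := T)).toRingHom = Q :=
  exists_prime_tensorProduct_aux P Q _ rfl h

end Groth.Agent.H8.SF
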