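import Mathlib
import Groth.Prelude.Def_SchFin
import Groth.Prelude.Def_SchFin2
import Groth.Agent.Lib.Helper8.SchFin.Epi
import Groth.Agent.Lib.Helper8.SchFin.PrimeTensor

/-! # Geometric points of a schematic finite space -/

set_option autoImplicit false

open TensorProduct

universe u

namespace Groth.Agent.H8.SF

open SchFin

variable {X : RSpace.{u}} {Ω : Type u} [Field Ω] [IsAlgClosed Ω]

theorem geomPt_comap_ne_ker (ξ : GeomPt X Ω) {x' : X.pt} (hx : ξ.base < x')
    (P : Ideal (X.ring x')) [P.IsPrime] :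
    P.comap (X.res hx.le) ≠ RingHom.ker ξ.toField := by
  intro hP
  letI alg1 : Algebra (X.ring ξ.base) (X.ring x') := (X.res hx.le).toAlgebra
  letI alg2 : Algebra (X.ring ξ.base) Ω := ξ.toField.toAlgebra
  -- a prime of the tensor product
  obtain ⟨r, hr, -, -⟩ := exists_prime_tensorProduct (R := X.ring ξ.base) (S := X.ring x')
    (T := Ω) P (⊥ : Ideal Ω) (by
      rw [show P.comap (algebraMap (X.ring ξ.base) (X.ring x')) = P.comap (X.res hx.le) from rfl, hP]
      rfl)
  -- the base change property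
  have hBC := (ξ.isSchematic.2.2 0 PUnit.unit PUnit.unit (le_refl _) ξ.base x' hx.le).2
  have hmem : (PUnit.unit : (RSpace.point Ω).pt) ∈ ξ.hom.wedge PUnit.unit ξ.base :=
    ⟨le_refl _, le_refl _⟩
  have hempty : ∀ q : ↥(ξ.hom.wedge PUnit.unit x'), False := by
    rintro ⟨q, hq⟩
    exact absurd hq.2 (not_le_of_gt hx)
  let v : H (Coef.ofHom ξ.hom ξ.base (ξ.hom.wedge PUnit.unit ξ.base)
      (ξ.hom.wedge_subset_pre PUnit.unit ξ.base)) (RSpace.point Ω).str 0 → Ω :=
    fun z => h0val _ (RSpace.point Ω).str z ⟨PUnit.unit, hmem⟩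
  have v_add : ∀ z z', v (z + z') = v z + v z' := fun z z' => h0val_add _ _ z z' _
  have v_smul : ∀ (a : X.ring ξ.base) z, v (a • z) = ξ.toField a * v z := by
    intro a z
    have := h0val_smul (Coef.ofHom ξ.hom ξ.base (ξ.hom.wedge PUnit.unit ξ.base)
      (ξ.hom.wedge_subset_pre PUnit.unit ξ.base)) (RSpace.point Ω).str a z ⟨PUnit.unit, hmem⟩
    refine this.trans ?_
    show ξ.toField (X.res (le_refl _) a) * v z = _
    rw [X.res_self]
  let ψ : H (Coef.ofHom ξ.hom ξ.base (ξ.hom.wedge PUnit.unit ξ.base)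
      (ξ.hom.wedge_subset_pre PUnit.unit ξ.base)) (RSpace.point Ω).str 0 →ₛₗ[X.res hx.le]
      (X.ring x' ⊗[X.ring ξ.base] Ω) :=
    { toFun := fun z => (1 : X.ring x') ⊗ₜ[X.ring ξ.base] v z
      map_add' := fun z z' => by
        rw [v_add]
        exact TensorProduct.tmul_add _ _ _
      map_smul' := fun a z => by
        rw [v_smul]
        have e1 : ξ.toField a * v z = a • v z := by
          rw [Algebra.smul_def]; rfl
        have e2 : X.res hx.le a = a • (1 : X.ring x') := by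
          rw [Algebra.smul_def, mul_one]; rfl
        rw [e1, TensorProduct.tmul_smul]
        show _ = (X.res hx.le a) • ((1 : X.ring x') ⊗ₜ[X.ring ξ.base] v z)
        rw [TensorProduct.smul_tmul', TensorProduct.smul_tmul', smul_eq_mul, mul_one, ← e2] }
  obtain ⟨L, hL⟩ := IsBCAlong.exists_lift (X.res hx.le) _ hBC ψ
  -- the class of `1`
  let z1 : H (Coef.ofHom ξ.hom ξ.base (ξ.hom.wedge PUnit.unit ξ.base)
      (ξ.hom.wedge_subset_pre PUnit.unit ξ.base)) (RSpace.point Ω).str 0 :=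
    h0mk _ (RSpace.point Ω).str ⟨fun _ => (1 : Ω), fun _ _ _ => rfl⟩
  have hz : resH (RSpace.point Ω).str (ξ.hom.subTgt PUnit.unit hx.le) 0 z1 = 0 := by
    apply h0val_ext
    intro q
    exact (hempty q).elim
  have h1 : ψ z1 = 0 := (hL z1).symm.trans ((congrArg L hz).trans (map_zero L))
  have h2 : ψ z1 = (1 : X.ring x') ⊗ₜ[X.ring ξ.base] (1 : Ω) := by
    show (1 : X.ring x') ⊗ₜ[X.ring ξ.base] v z1 = _
    congr 1
    exact h0val_h0mk _ _ _ _
  have h3 : (1 : X.ring x' ⊗[X.ring ξ.base] Ω) = 0 := by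
    rw [Algebra.TensorProduct.one_def, ← h2, h1]
  exact hr.ne_top ((Ideal.eq_top_iff_one r).2 (h3 ▸ r.zero_mem))

end Groth.Agent.H8.SF
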