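import Mathlib
import Groth.Prelude.Def_SchFin
import Groth.Agent.Lib.Helper8.SchFin.Epi

/-! # Sections over the intersection of two minimal open sets in a schematic finite space -/

set_option autoImplicit false

open TensorProduct

universe u

namespace Groth.Agent.H8.SF

open SchFin

variable {X : RSpace.{u}}

/-- The sections of the structure sheaf attached to a class in `H⁰`. -/
noncomputable def h0sect {U : Set X.pt} {R : Type u} [CommRing R] (φ : Coef X U R)
    (z : H φ X.str 0) : X.sectRing U :=
  ⟨fun q => h0val φ X.str z q, fun q q' h => h0val_res φ X.str z q q' h⟩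

lemma h0sect_injective {U : Set X.pt} {R : Type u} [CommRing R] (φ : Coef X U R) :
    Function.Injective (h0sect φ) := by
  intro z z' h
  apply h0val_ext
  intro q
  exact congrFun (congrArg Subtype.val h) q

lemma h0sect_surjective {U : Set X.pt} {R : Type u} [CommRing R] (φ : Coef X U R) :
    Function.Surjective (h0sect φ) := by
  intro σ
  refine ⟨h0mk φ X.str ⟨σ.1, σ.2⟩, ?_⟩
  apply Subtype.ext
  funext q
  exact h0val_h0mk φ X.str ⟨σ.1, σ.2⟩ q

lemma h0sect_add {U : Set X.pt} {R : Type u} [CommRing R] (φ : Coef X U R) (z z' : H φ X.str 0) :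
    h0sect φ (z + z') = h0sect φ z + h0sect φ z' := by
  apply Subtype.ext
  funext q
  exact h0val_add φ X.str z z' q

/-- The canonical ring map `O_x ⊗[O_s] O_y → O(U_x ∩ U_y)`. -/
noncomputable def interMap {s x y : X.pt} (hx : s ≤ x) (hy : s ≤ y) :
    letI := (X.res hx).toAlgebra
    letI := (X.res hy).toAlgebra
    X.ring x ⊗[X.ring s] X.ring y →+* X.sectRing (X.up x ∩ X.up y) :=
  letI := (X.res hx).toAlgebra
  letI := (X.res hy).toAlgebra
  letI : Algebra (X.ring s) (X.sectRing (X.up x ∩ X.up y)) :=
    ((X.resSect x _ Set.inter_subset_left).comp (X.res hx)).toAlgebra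
  (Algebra.TensorProduct.productMap
    ({ toRingHom := X.resSect x (X.up x ∩ X.up y) Set.inter_subset_left
       commutes' := fun _ => rfl } : X.ring x →ₐ[X.ring s] X.sectRing (X.up x ∩ X.up y))
    ({ toRingHom := X.resSect y (X.up x ∩ X.up y) Set.inter_subset_right
       commutes' := fun r => by
        apply Subtype.ext
        funext q
        show X.res _ (X.res hy r) = X.res _ (X.res hx r)
        rw [X.res_comp, X.res_comp] } : X.ring y →ₐ[X.ring s] X.sectRing (X.up x ∩ X.up y))).toRingHom

lemma interMap_tmul {s x y : X.pt} (hx : s ≤ x) (hy : s ≤ y) (a : X.ring x) (b : X.ring y) :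
    letI := (X.res hx).toAlgebra
    letI := (X.res hy).toAlgebra
    interMap hx hy (a ⊗ₜ[X.ring s] b) =
      X.resSect x (X.up x ∩ X.up y) Set.inter_subset_left a *
        X.resSect y (X.up x ∩ X.up y) Set.inter_subset_right b := by
  letI := (X.res hx).toAlgebra
  letI := (X.res hy).toAlgebra
  letI : Algebra (X.ring s) (X.sectRing (X.up x ∩ X.up y)) :=
    ((X.resSect x _ Set.inter_subset_left).comp (X.res hx)).toAlgebra
  exact Algebra.TensorProduct.productMap_apply_tmul _ _ a b

end Groth.Agent.H8.SF
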