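import Mathlib
import Groth.Prelude.Def_SchFin
import Groth.Agent.Lib.Helper8.SchFin.Inter

set_option autoImplicit false

open TensorProduct

universe u

namespace Groth.Agent.H8.SF

open SchFin

variable {X : RSpace.{u}}

theorem interMap_bijective (hX : X.IsSchematic) {s x y : X.pt} (hx : s ≤ x) (hy : s ≤ y) :
    Function.Bijective (interMap hx hy) := by
  letI algx : Algebra (X.ring s) (X.ring x) := (X.res hx).toAlgebra
  letI algy : Algebra (X.ring s) (X.ring y) := (X.res hy).toAlgebra
  have hBC := (hX.2.2 0 s x hx y y (le_refl y)).1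
  let φ₁ := Coef.ofLE s ((Hom.id X).wedge s y) ((Hom.id X).wedge_subset_up s y)
  let φ₂ := Coef.ofLE x ((Hom.id X).wedge x y) ((Hom.id X).wedge_subset_up x y)
  letI modN : Module (X.ring s) (H φ₂ X.str 0) := Module.compHom (H φ₂ X.str 0) (X.res hx)
  haveI : IsScalarTower (X.ring s) (X.ring x) (H φ₂ X.str 0) :=
    IsScalarTower.of_algebraMap_smul fun _ _ => rfl
  let f := resH X.str ((Hom.id X).subSrc hx y) 0
  have h' : IsBaseChange (X.ring x)
    ({ toFun := f, map_add' := f.map_add, map_smul' := f.map_smulₛₗ } :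
      H φ₁ X.str 0 →ₗ[X.ring s] H φ₂ X.str 0) := hBC
  -- `O_y ≃ H⁰(U_y)`
  let eM : X.ring y →ₗ[X.ring s] H φ₁ X.str 0 :=
    { toFun := fun b => h0mk φ₁ X.str (X.str.resSect y _ (wedge_id_subset_up s y) b)
      map_add' := fun b b' => by
        apply h0val_ext
        intro q
        rw [h0val_add, h0val_h0mk, h0val_h0mk, h0val_h0mk]
        exact map_add (X.res _) b b'
      map_smul' := fun r b => by
        apply h0val_ext
        intro q
        rw [h0val_smul, h0val_h0mk, h0val_h0mk]
        show X.res _ (X.res hy r * b) = X.res _ r * X.res _ b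
        rw [map_mul, X.res_comp] }
  have eM_bij : Function.Bijective eM := by
    constructor
    · intro b b' hbb
      have := congrArg (fun z => h0val φ₁ X.str z ⟨y, mem_wedge_id hy⟩) hbb
      simp only [eM, LinearMap.coe_mk, AddHom.coe_mk, h0val_h0mk] at this
      have e1 : ∀ c : X.ring y, X.res (le_refl y) c = c := X.res_self y
      exact (e1 b).symm.trans (this.trans (e1 b'))
    · intro z
      refine ⟨h0val φ₁ X.str z ⟨y, mem_wedge_id hy⟩, ?_⟩
      apply h0val_ext
      intro q
      simp only [eM, LinearMap.coe_mk, AddHom.coe_mk, h0val_h0mk]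
      exact h0val_res φ₁ X.str z ⟨y, mem_wedge_id hy⟩ q q.2.2
  let E : X.ring y ≃ₗ[X.ring s] H φ₁ X.str 0 := LinearEquiv.ofBijective eM eM_bij
  let Θ : X.ring x ⊗[X.ring s] X.ring y → X.sectRing (X.up x ∩ X.up y) := fun t =>
    h0sect φ₂ (h'.equiv (LinearEquiv.lTensor (X.ring x) E t))
  have hΘ_add : ∀ t t', Θ (t + t') = Θ t + Θ t' := by
    intro t t'
    simp only [Θ, map_add]
    exact h0sect_add φ₂ _ _
  have hΘ_bij : Function.Bijective Θ := by
    have b1 : Function.Bijective (h0sect φ₂) := ⟨h0sect_injective φ₂, h0sect_surjective φ₂⟩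
    exact b1.comp (h'.equiv.bijective.comp (LinearEquiv.lTensor (X.ring x) E).bijective)
  have key : ∀ t, interMap hx hy t = Θ t := by
    intro t
    induction t using TensorProduct.induction_on with
    | zero =>
      have : Θ 0 = 0 := by
        have := hΘ_add 0 0
        rw [add_zero] at this
        exact (add_eq_left.mp this.symm)
      rw [this, map_zero]
    | tmul a b =>
      rw [interMap_tmul]
      apply Subtype.ext
      funext q
      show X.res _ a * X.res _ b = h0val φ₂ X.str (h'.equiv (LinearEquiv.lTensor (X.ring x) E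
        (a ⊗ₜ[X.ring s] b))) q
      rw [LinearEquiv.lTensor_tmul, h'.equiv_tmul, h0val_smul]
      have e : h0val φ₂ X.str (f (eM b)) q = X.res (q.2.2 : y ≤ q.1) b := by
        simp only [f, eM, LinearMap.coe_mk, AddHom.coe_mk]
        rw [h0val_resH, h0val_h0mk]
        rfl
      show _ = φ₂.map q a • h0val φ₂ X.str (f (eM b)) q
      rw [e]
      rfl
    | add t t' ht ht' => rw [map_add, hΘ_add, ht, ht']
  have : (interMap hx hy : X.ring x ⊗[X.ring s] X.ring y → X.sectRing (X.up x ∩ X.up y)) = Θ :=
    funext key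
  rw [this]
  exact hΘ_bij

end Groth.Agent.H8.SF
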