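import Mathlib
import Groth.Prelude.Def_SchFin
import Groth.Prelude.Def_SchFin2
import Groth.Agent.Lib.Helper8.SchFin.InterBij
import Groth.Agent.Lib.Helper8.SchFin.PrimeTensor

/-! # The relation on pairs (point, prime) in a schematic finite space -/

set_option autoImplicit false

open TensorProduct

universe u

namespace Groth.Agent.H8.SF

open SchFin

variable {X : RSpace.{u}}

theorem pairRel_of_comap_eq_comap (hX : X.IsSchematic)
    (hff : ∀ s a b : X.pt, s ≤ a → s ≤ b → (X.up a ∩ X.up b).Nonempty →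
      Module.FaithfullyFlat (X.sectRing (X.up a ∩ X.up b)) ((q : ↥(X.up a ∩ X.up b)) → X.ring q.1))
    {s x y : X.pt} (hx : s ≤ x) (hy : s ≤ y) (P : PrimeSpectrum (X.ring x))
    (Q : PrimeSpectrum (X.ring y))
    (hPQ : PrimeSpectrum.comap (X.res hx) P = PrimeSpectrum.comap (X.res hy) Q) :
    X.PairRel ⟨x, P⟩ ⟨y, Q⟩ := by
  letI algx : Algebra (X.ring s) (X.ring x) := (X.res hx).toAlgebra
  letI algy : Algebra (X.ring s) (X.ring y) := (X.res hy).toAlgebra
  have h : P.asIdeal.comap (algebraMap (X.ring s) (X.ring x)) =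
      Q.asIdeal.comap (algebraMap (X.ring s) (X.ring y)) := congrArg PrimeSpectrum.asIdeal hPQ
  obtain ⟨r, hr, hrP, hrQ⟩ := exists_prime_tensorProduct P.asIdeal Q.asIdeal h
  let e : X.ring x ⊗[X.ring s] X.ring y ≃+* X.sectRing (X.up x ∩ X.up y) :=
    RingEquiv.ofBijective (interMap hx hy) (interMap_bijective hX hx hy)
  let r' : Ideal (X.sectRing (X.up x ∩ X.up y)) := r.comap (e.symm : _ →+* _)
  have hr' : r'.IsPrime := Ideal.comap_isPrime _ r
  have hne : (X.up x ∩ X.up y).Nonempty := by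
    by_contra hemp
    rw [Set.not_nonempty_iff_eq_empty] at hemp
    have : IsEmpty ↥(X.up x ∩ X.up y) := by
      rw [hemp]; infer_instance
    have hss : Subsingleton (X.sectRing (X.up x ∩ X.up y)) :=
      ⟨fun a b => Subtype.ext (funext fun q => isEmptyElim q)⟩
    exact hr'.ne_top (Ideal.eq_top_iff_one _ |>.2 (by
      rw [Subsingleton.elim (1 : X.sectRing (X.up x ∩ X.up y)) 0]; exact r'.zero_mem))
  haveI := hff s x y hx hy hne
  obtain ⟨𝔮, h𝔮⟩ := PrimeSpectrum.comap_surjective_of_faithfullyFlat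
    (A := X.sectRing (X.up x ∩ X.up y)) (B := (q : ↥(X.up x ∩ X.up y)) → X.ring q.1) ⟨r', hr'⟩
  obtain ⟨⟨z, rz⟩, hz⟩ := (PrimeSpectrum.sigmaToPi_bijective
    (fun q : ↥(X.up x ∩ X.up y) => X.ring q.1)).2 𝔮
  refine ⟨z.1, z.2.1, z.2.2, rz, ?_, ?_⟩
  · apply PrimeSpectrum.ext
    ext a
    have h1 : a ∈ P.asIdeal ↔ (a ⊗ₜ[X.ring s] (1 : X.ring y)) ∈ r := by
      rw [← hrP]; rfl
    have h2 : e (a ⊗ₜ[X.ring s] (1 : X.ring y)) =
        X.resSect x (X.up x ∩ X.up y) Set.inter_subset_left a := by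
      refine (RingEquiv.ofBijective_apply _ _ _).trans ?_
      rw [interMap_tmul, map_one, mul_one]
    have h3 : (a ⊗ₜ[X.ring s] (1 : X.ring y)) ∈ r ↔
        X.resSect x (X.up x ∩ X.up y) Set.inter_subset_left a ∈ r' := by
      show _ ↔ e.symm _ ∈ r
      rw [← h2, RingEquiv.symm_apply_apply]
    have h4 : X.resSect x (X.up x ∩ X.up y) Set.inter_subset_left a ∈ r' ↔
        X.res z.2.1 a ∈ rz.asIdeal := by
      have := congrArg PrimeSpectrum.asIdeal h𝔮
      rw [← hz] at this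
      have e4 : r' = _ := this.symm
      rw [e4]
      rfl
    rw [h1, h3, h4]
    rfl
  · apply PrimeSpectrum.ext
    ext b
    have h1 : b ∈ Q.asIdeal ↔ ((1 : X.ring x) ⊗ₜ[X.ring s] b) ∈ r := by
      rw [← hrQ]; rfl
    have h2 : e ((1 : X.ring x) ⊗ₜ[X.ring s] b) =
        X.resSect y (X.up x ∩ X.up y) Set.inter_subset_right b := by
      refine (RingEquiv.ofBijective_apply _ _ _).trans ?_
      rw [interMap_tmul, map_one, one_mul]
    have h3 : ((1 : X.ring x) ⊗ₜ[X.ring s] b) ∈ r ↔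
        X.resSect y (X.up x ∩ X.up y) Set.inter_subset_right b ∈ r' := by
      show _ ↔ e.symm _ ∈ r
      rw [← h2, RingEquiv.symm_apply_apply]
    have h4 : X.resSect y (X.up x ∩ X.up y) Set.inter_subset_right b ∈ r' ↔
        X.res z.2.2 b ∈ rz.asIdeal := by
      have := congrArg PrimeSpectrum.asIdeal h𝔮
      rw [← hz] at this
      have e4 : r' = _ := this.symm
      rw [e4]
      rfl
    rw [h1, h3, h4]
    rfl

end Groth.Agent.H8.SF

namespace Groth.Agent.H8.SF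

open SchFin

variable {X : RSpace.{u}}

lemma comap_res_self (p : X.pt) (r : PrimeSpectrum (X.ring p)) :
    PrimeSpectrum.comap (X.res (le_refl p)) r = r := by
  have : X.res (le_refl p) = RingHom.id _ := RingHom.ext (X.res_self p)
  rw [this]
  rfl

lemma comap_res_trans {p q s : X.pt} (h : p ≤ q) (h' : q ≤ s) (r : PrimeSpectrum (X.ring s)) :
    PrimeSpectrum.comap (X.res (h.trans h')) r =
      PrimeSpectrum.comap (X.res h) (PrimeSpectrum.comap (X.res h') r) := by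
  have : X.res (h.trans h') = (X.res h').comp (X.res h) :=
    RingHom.ext fun a => (X.res_comp h h' a).symm
  rw [this]
  rfl

theorem pairRel_equivalence (hX : X.IsSchematic)
    (hff : ∀ s a b : X.pt, s ≤ a → s ≤ b → (X.up a ∩ X.up b).Nonempty →
      Module.FaithfullyFlat (X.sectRing (X.up a ∩ X.up b)) ((q : ↥(X.up a ∩ X.up b)) → X.ring q.1)) :
    Equivalence X.PairRel where
  refl a := ⟨a.1, le_refl _, le_refl _, a.2, comap_res_self _ _, comap_res_self _ _⟩
  symm := fun ⟨z, hx, hy, r, h1, h2⟩ => ⟨z, hy, hx, r, h2, h1⟩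
  trans := by
    rintro a b c ⟨z, hx, hy, r, h1, h2⟩ ⟨z', hy', hw, r', h1', h2'⟩
    obtain ⟨z'', hz, hz', r'', e1, e2⟩ :=
      pairRel_of_comap_eq_comap hX hff hy hy' r r' (h2.trans h1'.symm)
    dsimp only at hz hz' e1 e2
    refine ⟨z'', hx.trans hz, hw.trans hz', r'', ?_, ?_⟩
    · rw [comap_res_trans hx hz, e1, h1]
    · rw [comap_res_trans hw hz', e2, h2']

theorem existsUnique_maximal_pair (hX : X.IsSchematic)
    (hff : ∀ s a b : X.pt, s ≤ a → s ≤ b → (X.up a ∩ X.up b).Nonempty →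
      Module.FaithfullyFlat (X.sectRing (X.up a ∩ X.up b)) ((q : ↥(X.up a ∩ X.up b)) → X.ring q.1))
    (c : X.SchPt) :
    ∃! a : X.Pair, Quot.mk X.PairRel a = c ∧
      ∀ b : X.Pair, Quot.mk X.PairRel b = c → b.1 ≤ a.1 := by
  have heq := pairRel_equivalence hX hff
  obtain ⟨a0, rfl⟩ := Quot.exists_rep c
  have hrel : ∀ b : X.Pair, Quot.mk X.PairRel b = Quot.mk X.PairRel a0 ↔ X.PairRel b a0 := by
    intro b
    rw [Quot.eq, heq.eqvGen_iff]
  let S : Set X.pt := {p | ∃ P : PrimeSpectrum (X.ring p), X.PairRel ⟨p, P⟩ a0}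
  have hSne : S.Nonempty := ⟨a0.1, a0.2, heq.refl a0⟩
  obtain ⟨m, hmS, hmax⟩ := S.toFinite.exists_maximal hSne
  obtain ⟨P, hP⟩ := hmS
  -- the key property of `⟨m, P⟩`
  have key : ∀ b : X.Pair, X.PairRel b a0 → b.1 ≤ m := by
    intro b hb
    obtain ⟨z, hbz, hmz, r, e1, e2⟩ := heq.trans hb (heq.symm hP)
    have hz : z ∈ S := ⟨r, heq.trans ⟨z, le_refl z, hmz, r, comap_res_self _ _, e2⟩ hP⟩
    have : z ≤ m := hmax hz hmz
    exact hbz.trans this
  refine ⟨⟨m, P⟩, ⟨(hrel _).2 hP, fun b hb => key b ((hrel b).1 hb)⟩, ?_⟩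
  rintro ⟨m', P'⟩ ⟨h1, h2⟩
  have h1' := (hrel _).1 h1
  have le1 : m' ≤ m := key ⟨m', P'⟩ h1'
  have le2 : m ≤ m' := h2 ⟨m, P⟩ ((hrel _).2 hP)
  obtain rfl : m' = m := le_antisymm le1 le2
  obtain ⟨z, hz1, hz2, r, e1, e2⟩ := heq.trans h1' (heq.symm hP)
  have hzS : z ∈ S := ⟨r, heq.trans ⟨z, le_refl z, hz2, r, comap_res_self _ _, e2⟩ hP⟩
  have hzm : z ≤ m' := hmax hzS hz2
  obtain rfl : z = m' := le_antisymm hzm hz1
  rw [comap_res_self] at e1 e2
  dsimp only at e1 e2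
  rw [← e1, ← e2]

end Groth.Agent.H8.SF
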