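import Mathlib
import Groth.Prelude.Def_SchFin
import Groth.Prelude.Def_SchFin2
import Groth.Agent.Lib.Helper8.SchFin.BC
import Groth.Agent.Lib.Helper8.SchFin.H0c

/-!
# Cohomology over subsets of a one-point space, and base change lemmas (helper8)
-/

set_option autoImplicit false

open TensorProduct

universe u

namespace Groth.Agent.H8.SF

open SchFin

section General

variable {X : RSpace.{u}} {U : Set X.pt} {R : Type u} [CommRing R] (φ : Coef X U R) (M : OMod X)

theorem H_subsingleton_of_chain_isEmpty (n : ℕ) [IsEmpty (Chain U n)] :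
    Subsingleton (H φ M n) := by
  haveI : Subsingleton (Cochain φ M n) := by
    unfold Cochain
    infer_instance
  refine ⟨fun z z' => ?_⟩
  obtain ⟨c, rfl⟩ := H_mk_surjective φ M n z
  obtain ⟨c', rfl⟩ := H_mk_surjective φ M n z'
  rw [Subsingleton.elim c c']

theorem chain_isEmpty_of_isEmpty (hU : IsEmpty U) (n : ℕ) : IsEmpty (Chain U n) :=
  ⟨fun σ => hU.elim (σ 0)⟩

theorem chain_succ_isEmpty_of_subsingleton (hU : Subsingleton U) (n : ℕ) :
    IsEmpty (Chain U (n + 1)) :=
  ⟨fun σ => by
    have h : σ 0 = σ 1 := Subsingleton.elim _ _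
    have := σ.injective h
    exact absurd this (by
      intro h01
      have := congrArg Fin.val h01
      simp at this)⟩

end General

section BCLemmas

variable {R S : Type u} [CommRing R] [CommRing S] (g : R →+* S)
  {M N : Type u} [AddCommGroup M] [AddCommGroup N] [Module R M] [Module S N] (f : M →ₛₗ[g] N)

theorem isBCAlong_of_subsingleton [Subsingleton M] [Subsingleton N] : IsBCAlong g f := by
  rw [isBCAlong_iff_existsUnique]
  intro Q _ _ ψ
  refine ⟨0, fun m => ?_, fun L _ => ?_⟩
  · rw [Subsingleton.elim m 0, map_zero, map_zero, map_zero]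
  · ext n
    rw [Subsingleton.elim n 0, map_zero, map_zero]

/-- a bijective semilinear map over an epimorphism of rings is a base change -/
theorem isBCAlong_of_isEpi_of_bijective
    (hg : letI := g.toAlgebra; Algebra.IsEpi R S) (hf : Function.Bijective f) :
    IsBCAlong g f := by
  letI : Algebra R S := g.toAlgebra
  haveI : Algebra.IsEpi R S := hg
  letI : Module R N := Module.compHom N g
  haveI : IsScalarTower R S N := IsScalarTower.of_algebraMap_smul fun _ _ => rfl
  show IsBaseChange S
    ({ toFun := f, map_add' := f.map_add, map_smul' := f.map_smulₛₗ } : M →ₗ[R] N)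
  let f₀ : M ≃ₗ[R] N := LinearEquiv.ofBijective
    ({ toFun := f, map_add' := f.map_add, map_smul' := f.map_smulₛₗ } : M →ₗ[R] N) hf
  refine IsBaseChange.of_equiv
    ((TensorProduct.AlgebraTensorModule.congr (LinearEquiv.refl S S) f₀).trans
      (TensorProduct.lid' R S N)) fun m => ?_
  show TensorProduct.lid' R S N ((TensorProduct.AlgebraTensorModule.congr
    (LinearEquiv.refl S S) f₀) (1 ⊗ₜ m)) = f m
  rw [TensorProduct.AlgebraTensorModule.congr_tmul, TensorProduct.lid'_apply_tmul]
  show (1 : S) • f m = f m
  rw [one_smul]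

/-- if the target vanishes and the base change of the source vanishes, we have a base change -/
theorem isBCAlong_of_tensor_subsingleton [Subsingleton N] {Ω : Type u} [AddCommGroup Ω]
    [Module R Ω] (v : M ≃ₗ[R] Ω)
    (hv : letI := g.toAlgebra; Subsingleton (S ⊗[R] Ω)) : IsBCAlong g f := by
  rw [isBCAlong_iff_existsUnique]
  intro Q _ _ ψ
  letI : Algebra R S := g.toAlgebra
  haveI : Subsingleton (S ⊗[R] Ω) := hv
  letI : Module R Q := Module.compHom Q g
  haveI : IsScalarTower R S Q := IsScalarTower.of_algebraMap_smul fun _ _ => rfl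
  let β : Ω →ₗ[R] Q :=
    { toFun := fun ω => ψ (v.symm ω)
      map_add' := fun a b => by rw [map_add, map_add]
      map_smul' := fun r a => by
        rw [map_smul, ψ.map_smulₛₗ]
        rfl }
  have hβ : ∀ ω, β ω = 0 := by
    intro ω
    have h1 : β.liftBaseChange S ((1 : S) ⊗ₜ[R] ω) = β ω := by
      rw [LinearMap.liftBaseChange_tmul, one_smul]
    rw [← h1, Subsingleton.elim ((1 : S) ⊗ₜ[R] ω) 0, map_zero]
  have hψ : ∀ m, ψ m = 0 := by
    intro m
    have := hβ (v m)
    show ψ m = 0
    have h2 : β (v m) = ψ m := by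
      show ψ (v.symm (v m)) = ψ m
      rw [LinearEquiv.symm_apply_apply]
    rw [← h2, this]
  refine ⟨0, fun m => ?_, fun L _ => ?_⟩
  · rw [hψ m]; rfl
  · ext n
    rw [Subsingleton.elim n 0, map_zero, map_zero]

end BCLemmas

end Groth.Agent.H8.SF
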