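import Mathlib
import Groth.Prelude.Def_SchFin
import Groth.Prelude.Def_SchFin2
import Groth.Agent.Lib.Helper8.SchFin.PtCoh
import Groth.Agent.Lib.Helper8.SchFin.Epi

/-!
# When a morphism from a one-point space is schematic (helper8)
-/

set_option autoImplicit false

open TensorProduct

universe u

namespace Groth.Agent.H8.SF

open SchFin

variable {Ω : Type u} [Field Ω]

section PtH0

variable {U U' : Set (RSpace.point Ω).pt} {R R' : Type u} [CommRing R] [CommRing R']
  (φ : Coef (RSpace.point Ω) U R) (φ' : Coef (RSpace.point Ω) U' R')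

/-- the value of a degree-zero class at the point -/
noncomputable def ptVal (hmem : PUnit.unit ∈ U) (z : H φ (RSpace.point Ω).str 0) : Ω :=
  h0val φ (RSpace.point Ω).str z ⟨PUnit.unit, hmem⟩

theorem ptVal_add (hmem : PUnit.unit ∈ U) (z z' : H φ (RSpace.point Ω).str 0) :
    ptVal φ hmem (z + z') = ptVal φ hmem z + ptVal φ hmem z' :=
  h0val_add _ _ z z' _

theorem ptVal_smul (hmem : PUnit.unit ∈ U) (a : R) (z : H φ (RSpace.point Ω).str 0) :
    ptVal φ hmem (a • z) = (show Ω from φ.map ⟨PUnit.unit, hmem⟩ a) * ptVal φ hmem z :=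
  h0val_smul _ _ a z _

theorem ptVal_injective (hmem : PUnit.unit ∈ U) : Function.Injective (ptVal φ hmem) := by
  intro z z' h
  apply h0val_ext
  rintro ⟨⟨⟩, hq⟩
  exact h

/-- the class of a constant -/
noncomputable def ptMk (ω : Ω) : H φ (RSpace.point Ω).str 0 :=
  h0mk φ (RSpace.point Ω).str ⟨fun _ => ω, fun _ _ _ => rfl⟩

theorem ptVal_ptMk (hmem : PUnit.unit ∈ U) (ω : Ω) : ptVal φ hmem (ptMk φ ω) = ω :=
  h0val_h0mk _ _ _ _

theorem ptVal_surjective (hmem : PUnit.unit ∈ U) : Function.Surjective (ptVal φ hmem) :=
  fun ω => ⟨ptMk φ ω, ptVal_ptMk φ hmem ω⟩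

variable {φ φ'}

theorem ptVal_resH (s : Coef.Sub φ φ') (hmem' : PUnit.unit ∈ U') (z : H φ (RSpace.point Ω).str 0) :
    ptVal φ' hmem' (resH (RSpace.point Ω).str s 0 z) = ptVal φ (s.le hmem') z :=
  h0val_resH _ s z _

theorem resH_zero_bijective (s : Coef.Sub φ φ') (hmem' : PUnit.unit ∈ U') :
    Function.Bijective (resH (RSpace.point Ω).str s 0) := by
  constructor
  · intro z z' h
    apply ptVal_injective φ (s.le hmem')
    rw [← ptVal_resH s hmem', ← ptVal_resH s hmem', h]
  · intro w
    refine ⟨ptMk φ (ptVal φ' hmem' w), ?_⟩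
    apply ptVal_injective φ' hmem'
    rw [ptVal_resH, ptVal_ptMk]

end PtH0

variable {X : RSpace.{u}}

theorem point_isFinSp : (RSpace.point Ω).IsFinSp := by
  refine ⟨fun p => ?_, fun p q h => ?_⟩
  · show IsNoetherianRing Ω
    infer_instance
  · show (RingHom.id Ω).Flat
    exact RingHom.Flat.id Ω

theorem subsingleton_sub_point (U : Set (RSpace.point Ω).pt) : Subsingleton ↥U :=
  ⟨fun _ _ => Subtype.ext (Subsingleton.elim (α := PUnit) _ _)⟩

/-- A morphism from the one-point space on a field to a schematic space is schematic as soon as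
the field dies after base change to every point not below the image point. -/
theorem hom_point_isSchematic (hX : X.IsSchematic) (f : Hom (RSpace.point Ω) X)
    (hvan : ∀ (y y' : X.pt) (hy : y ≤ y') (hyz : y ≤ f.fn PUnit.unit), ¬ y' ≤ f.fn PUnit.unit →
      letI : Algebra (X.ring y) (X.ring y') := (X.res hy).toAlgebra
      letI : Algebra (X.ring y) Ω := ((f.app PUnit.unit).comp (X.res hyz)).toAlgebra
      Subsingleton (X.ring y' ⊗[X.ring y] Ω)) : f.IsSchematic := by
  refine ⟨point_isFinSp, hX.1, fun n x x' hx y y' hy => ⟨?_, ?_⟩⟩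
  · -- source direction
    cases n with
    | succ n =>
        haveI := chain_succ_isEmpty_of_subsingleton (subsingleton_sub_point (f.wedge x y)) n
        haveI := chain_succ_isEmpty_of_subsingleton (subsingleton_sub_point (f.wedge x' y)) n
        haveI := H_subsingleton_of_chain_isEmpty
          (Coef.ofLE x (f.wedge x y) (f.wedge_subset_up x y)) (RSpace.point Ω).str (n + 1)
        haveI := H_subsingleton_of_chain_isEmpty
          (Coef.ofLE x' (f.wedge x' y) (f.wedge_subset_up x' y)) (RSpace.point Ω).str (n + 1)
        exact isBCAlong_of_subsingleton _ _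
    | zero =>
        by_cases hyz : y ≤ f.fn PUnit.unit
        · have hmem' : PUnit.unit ∈ f.wedge x' y := ⟨le_refl _, hyz⟩
          refine isBCAlong_of_isEpi_of_bijective _ _ ?_ (resH_zero_bijective _ hmem')
          show letI := (RingHom.id Ω).toAlgebra; Algebra.IsEpi Ω Ω
          letI := (RingHom.id Ω).toAlgebra
          exact Algebra.isEpi_of_surjective_algebraMap Ω Ω fun ω => ⟨ω, rfl⟩
        · have he : IsEmpty ↥(f.wedge x y) := ⟨fun q => hyz (by
            obtain ⟨⟨⟩, hq⟩ := q
            exact hq.2)⟩
          have he' : IsEmpty ↥(f.wedge x' y) := ⟨fun q => hyz (by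
            obtain ⟨⟨⟩, hq⟩ := q
            exact hq.2)⟩
          haveI := chain_isEmpty_of_isEmpty he 0
          haveI := chain_isEmpty_of_isEmpty he' 0
          haveI := H_subsingleton_of_chain_isEmpty
            (Coef.ofLE x (f.wedge x y) (f.wedge_subset_up x y)) (RSpace.point Ω).str 0
          haveI := H_subsingleton_of_chain_isEmpty
            (Coef.ofLE x' (f.wedge x' y) (f.wedge_subset_up x' y)) (RSpace.point Ω).str 0
          exact isBCAlong_of_subsingleton _ _
  · -- target direction
    cases n with
    | succ n =>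
        haveI := chain_succ_isEmpty_of_subsingleton (subsingleton_sub_point (f.wedge x y)) n
        haveI := chain_succ_isEmpty_of_subsingleton (subsingleton_sub_point (f.wedge x y')) n
        haveI := H_subsingleton_of_chain_isEmpty
          (Coef.ofHom f y (f.wedge x y) (f.wedge_subset_pre x y)) (RSpace.point Ω).str (n + 1)
        haveI := H_subsingleton_of_chain_isEmpty
          (Coef.ofHom f y' (f.wedge x y') (f.wedge_subset_pre x y')) (RSpace.point Ω).str (n + 1)
        exact isBCAlong_of_subsingleton _ _
    | zero =>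
        by_cases hyz' : y' ≤ f.fn PUnit.unit
        · have hmem' : PUnit.unit ∈ f.wedge x y' := ⟨le_refl _, hyz'⟩
          exact isBCAlong_of_isEpi_of_bijective _ _ (isEpi_res hX hy)
            (resH_zero_bijective _ hmem')
        · have he' : IsEmpty ↥(f.wedge x y') := ⟨fun q => hyz' (by
            obtain ⟨⟨⟩, hq⟩ := q
            exact hq.2)⟩
          haveI := chain_isEmpty_of_isEmpty he' 0
          haveI := H_subsingleton_of_chain_isEmpty
            (Coef.ofHom f y' (f.wedge x y') (f.wedge_subset_pre x y')) (RSpace.point Ω).str 0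
          by_cases hyz : y ≤ f.fn PUnit.unit
          · have hmem : PUnit.unit ∈ f.wedge x y := ⟨le_refl _, hyz⟩
            letI alg : Algebra (X.ring y) Ω := ((f.app PUnit.unit).comp (X.res hyz)).toAlgebra
            let φ := Coef.ofHom f y (f.wedge x y) (f.wedge_subset_pre x y)
            let v : H φ (RSpace.point Ω).str 0 ≃ₗ[X.ring y] Ω :=
              LinearEquiv.ofBijective
                { toFun := ptVal φ hmem
                  map_add' := ptVal_add φ hmem
                  map_smul' := fun a z => by
                    rw [ptVal_smul, RingHom.id_apply, Algebra.smul_def]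
                    rfl }
                ⟨ptVal_injective φ hmem, ptVal_surjective φ hmem⟩
            exact isBCAlong_of_tensor_subsingleton _ _ v (hvan y y' hy hyz hyz')
          · have he : IsEmpty ↥(f.wedge x y) := ⟨fun q => hyz (by
              obtain ⟨⟨⟩, hq⟩ := q
              exact hq.2)⟩
            haveI := chain_isEmpty_of_isEmpty he 0
            haveI := H_subsingleton_of_chain_isEmpty
              (Coef.ofHom f y (f.wedge x y) (f.wedge_subset_pre x y)) (RSpace.point Ω).str 0
            exact isBCAlong_of_subsingleton _ _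

end Groth.Agent.H8.SF
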