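import Mathlib
import Groth.Prelude.Def_SchFin
import Groth.Prelude.Def_SchFin2
import Groth.Agent.Lib.Helper8.SchFin.PtSch
import Groth.Agent.Lib.Helper8.SchFin.PairRel

/-!
# The geometric point attached to a maximal pair and an embedding of its residue field (helper8)
-/

set_option autoImplicit false

open TensorProduct

universe u

namespace Groth.Agent.H8.SF

open SchFin

variable {X : RSpace.{u}} {Ω : Type u} [Field Ω]

/-- the morphism from the one-point space with prescribed image point and ring map -/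
def pointHom (x : X.pt) (θ : X.ring x →+* Ω) : Hom (RSpace.point Ω) X where
  fn _ := x
  mono _ _ _ := le_refl x
  app _ := θ
  compat _ b := by
    show θ b = θ (X.res (le_refl x) b)
    rw [X.res_self]

/-- In a tensor product over `R` of an `R`-algebra with a field, `1 ⊗ ω` lies in a prime only if
`ω = 0`. -/
theorem one_tmul_mem_prime_iff {R S : Type u} [CommRing R] [CommRing S] [Algebra R S]
    [Algebra R Ω] (r : Ideal (S ⊗[R] Ω)) [r.IsPrime] (ω : Ω) :
    (1 : S) ⊗ₜ[R] ω ∈ r ↔ ω = 0 := by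
  constructor
  · intro h
    by_contra hω
    have : (1 : S ⊗[R] Ω) ∈ r := by
      have h2 : ((1 : S) ⊗ₜ[R] ω) * ((1 : S) ⊗ₜ[R] ω⁻¹) = 1 := by
        rw [Algebra.TensorProduct.tmul_mul_tmul, mul_one, mul_inv_cancel₀ hω]
        rfl
      rw [← h2]
      exact r.mul_mem_right _ h
    exact (Ideal.IsPrime.ne_top inferInstance) ((Ideal.eq_top_iff_one r).2 this)
  · rintro rfl
    rw [TensorProduct.tmul_zero]
    exact r.zero_mem

theorem pointHom_isSchematic (hX : X.IsSchematic)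
    (hff : ∀ s a b : X.pt, s ≤ a → s ≤ b → (X.up a ∩ X.up b).Nonempty →
      Module.FaithfullyFlat (X.sectRing (X.up a ∩ X.up b)) ((q : ↥(X.up a ∩ X.up b)) → X.ring q.1))
    (a : X.Pair) (ha : ∀ b : X.Pair, X.PairRel a b → b.1 ≤ a.1) (φ : a.κ →+* Ω) :
    (pointHom a.1 (φ.comp (algebraMap (X.ring a.1) a.κ))).IsSchematic := by
  apply hom_point_isSchematic hX
  intro y y' hy hyz hyz'
  letI alg1 : Algebra (X.ring y) (X.ring y') := (X.res hy).toAlgebra
  letI alg2 : Algebra (X.ring y) Ω :=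
    ((φ.comp (algebraMap (X.ring a.1) a.κ)).comp (X.res hyz)).toAlgebra
  show Subsingleton (X.ring y' ⊗[X.ring y] Ω)
  by_contra hns
  rw [not_subsingleton_iff_nontrivial] at hns
  obtain ⟨r, hr⟩ := Ideal.exists_maximal (X.ring y' ⊗[X.ring y] Ω)
  haveI : r.IsPrime := hr.isPrime
  let r' : PrimeSpectrum (X.ring y') :=
    ⟨r.comap (Algebra.TensorProduct.includeLeftRingHom : X.ring y' →+* X.ring y' ⊗[X.ring y] Ω),
      Ideal.comap_isPrime _ r⟩
  have hrel : X.PairRel ⟨a.1, a.2⟩ ⟨y', r'⟩ := by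
    apply pairRel_of_comap_eq_comap hX hff hyz hy a.2 r'
    apply PrimeSpectrum.ext
    apply Ideal.ext
    intro b
    show X.res hyz b ∈ a.2.asIdeal ↔ (X.res hy b) ⊗ₜ[X.ring y] (1 : Ω) ∈ r
    have e1 : (X.res hy b) ⊗ₜ[X.ring y] (1 : Ω) =
        (1 : X.ring y') ⊗ₜ[X.ring y] (φ (algebraMap (X.ring a.1) a.κ (X.res hyz b))) := by
      have h1 : X.res hy b = b • (1 : X.ring y') := by
        rw [Algebra.smul_def, mul_one]; rfl
      have h2 : φ (algebraMap (X.ring a.1) a.κ (X.res hyz b)) = b • (1 : Ω) := by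
        rw [Algebra.smul_def, mul_one]; rfl
      rw [h1, h2, TensorProduct.smul_tmul]
    rw [e1, one_tmul_mem_prime_iff, map_eq_zero_iff φ φ.injective,
      Ideal.algebraMap_residueField_eq_zero]
    exact Iff.rfl
  have := ha ⟨y', r'⟩ hrel
  exact hyz' this

/-- the geometric point attached to a maximal pair and an embedding of its residue field -/
noncomputable def geomPtOfPair [IsAlgClosed Ω] (hX : X.IsSchematic)
    (hff : ∀ s a b : X.pt, s ≤ a → s ≤ b → (X.up a ∩ X.up b).Nonempty →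
      Module.FaithfullyFlat (X.sectRing (X.up a ∩ X.up b)) ((q : ↥(X.up a ∩ X.up b)) → X.ring q.1))
    (a : X.Pair) (ha : ∀ b : X.Pair, X.PairRel a b → b.1 ≤ a.1) (φ : a.κ →+* Ω) : GeomPt X Ω :=
  ⟨pointHom a.1 (φ.comp (algebraMap (X.ring a.1) a.κ)), pointHom_isSchematic hX hff a ha φ⟩

theorem geomPt_ext [IsAlgClosed Ω] (ξ ξ' : GeomPt X Ω)
    (h : (⟨ξ.base, ξ.toField⟩ : Σ x : X.pt, (X.ring x →+* Ω)) = ⟨ξ'.base, ξ'.toField⟩) :
    ξ = ξ' := by
  obtain ⟨⟨fn, mono, app, compat⟩, hs⟩ := ξ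
  obtain ⟨⟨fn', mono', app', compat'⟩, hs'⟩ := ξ'
  have h' : (⟨fn PUnit.unit, app PUnit.unit⟩ : Σ x : X.pt, (X.ring x →+* Ω)) =
      ⟨fn' PUnit.unit, app' PUnit.unit⟩ := h
  have hfn : fn = fn' := by
    funext q
    cases q
    exact congrArg Sigma.fst h'
  subst hfn
  have happ : app = app' := by
    funext q
    cases q
    exact eq_of_heq (Sigma.mk.inj h').2
  subst happ
  rfl

theorem existsUnique_geomPt [IsAlgClosed Ω] (hX : X.IsSchematic)
    (hff : ∀ s a b : X.pt, s ≤ a → s ≤ b → (X.up a ∩ X.up b).Nonempty →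
      Module.FaithfullyFlat (X.sectRing (X.up a ∩ X.up b)) ((q : ↥(X.up a ∩ X.up b)) → X.ring q.1))
    (a : X.Pair) (ha : ∀ b : X.Pair, X.PairRel a b → b.1 ≤ a.1) (φ : a.κ →+* Ω) :
    ∃! ξ : GeomPt X Ω, (⟨ξ.base, ξ.toField⟩ : Σ x : X.pt, (X.ring x →+* Ω)) =
      ⟨a.1, φ.comp (algebraMap (X.ring a.1) a.κ)⟩ := by
  refine ⟨geomPtOfPair hX hff a ha φ, rfl, fun ξ' hξ' => ?_⟩
  apply geomPt_ext
  rw [hξ']
  rfl

end Groth.Agent.H8.SF
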