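import Mathlib
import Groth.Prelude.Def_SchFin
import Groth.Prelude.Def_SchFin2
import Groth.Agent.Lib.Helper8.SchFin.Conn
import Groth.Agent.Lib.Helper8.SchFin.Perm

/-!
# Well-connected = top-connected + pointwise connected (helper8; one direction after helper6)
-/

set_option autoImplicit false

universe u

namespace Groth.Agent.H8.SF

open SchFin

/-- (helper6) connected + pointwise connected implies the poset is connected -/
theorem eqvGen_of_isConnected' (X : RSpace.{u})
    (hC : X.IsConnected) (hP : X.IsPwConnected) (p₀ q₀ : X.pt) :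
    Relation.EqvGen (fun a b : X.pt => a ≤ b) p₀ q₀ := by
  classical
  haveI : ConnectedSpace (PrimeSpectrum (X.sectRing Set.univ)) := hC
  haveI : ∀ p, Nontrivial (X.ring p) := fun p => by
    haveI : ConnectedSpace (PrimeSpectrum (X.ring p)) := hP p
    have : Nonempty (PrimeSpectrum (X.ring p)) := inferInstance
    exact PrimeSpectrum.nonempty_iff_nontrivial.mp this
  let s₀ : (q : ↥(Set.univ : Set X.pt)) → X.ring q.1 := fun q =>
    if Relation.EqvGen (fun a b : X.pt => a ≤ b) p₀ q.1 then 1 else 0
  have hs₀ : s₀ ∈ X.sectRing Set.univ := by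
    intro q q' h
    have hiff : Relation.EqvGen (fun a b : X.pt => a ≤ b) p₀ q.1 ↔
        Relation.EqvGen (fun a b : X.pt => a ≤ b) p₀ q'.1 :=
      ⟨fun hq => Relation.EqvGen.trans _ _ _ hq (Relation.EqvGen.rel _ _ h),
        fun hq => Relation.EqvGen.trans _ _ _ hq
          (Relation.EqvGen.symm _ _ (Relation.EqvGen.rel _ _ h))⟩
    simp only [s₀]
    by_cases hq : Relation.EqvGen (fun a b : X.pt => a ≤ b) p₀ q.1
    · rw [if_pos hq, if_pos (hiff.mp hq), map_one]
    · rw [if_neg hq, if_neg (fun h' => hq (hiff.mpr h')), map_zero]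
  have hidem : IsIdempotentElem (⟨s₀, hs₀⟩ : X.sectRing Set.univ) := by
    apply Subtype.ext
    funext q
    change s₀ q * s₀ q = s₀ q
    simp only [s₀]
    split_ifs <;> simp
  rcases idem_eq_zero_or_one' _ hidem with h | h
  · exfalso
    have := congrArg (fun t : X.sectRing Set.univ => t.1 ⟨p₀, trivial⟩) h
    simp only [s₀, if_pos (Relation.EqvGen.refl p₀)] at this
    exact one_ne_zero this
  · have := congrArg (fun t : X.sectRing Set.univ => t.1 ⟨q₀, trivial⟩) h
    simp only [s₀] at this
    by_contra hq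
    rw [if_neg hq] at this
    exact zero_ne_one this

/-- (helper6) a connected space has a point -/
theorem nonempty_of_isConnected' (X : RSpace.{u}) (hC : X.IsConnected) : Nonempty X.pt := by
  haveI : ConnectedSpace (PrimeSpectrum (X.sectRing Set.univ)) := hC
  have : Nonempty (PrimeSpectrum (X.sectRing Set.univ)) := inferInstance
  haveI : Nontrivial (X.sectRing Set.univ) := PrimeSpectrum.nonempty_iff_nontrivial.mp this
  by_contra hne
  rw [not_nonempty_iff] at hne
  have : (0 : X.sectRing Set.univ) = 1 := by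
    apply Subtype.ext
    funext q
    exact (hne.false q.1).elim
  exact zero_ne_one this

/-- top-connected + pointwise connected implies connected -/
theorem isConnected_of_top_pw (X : RSpace.{u}) (hT : X.IsTopConnected) (hP : X.IsPwConnected) :
    X.IsConnected := by
  obtain ⟨⟨p₀⟩, hconn⟩ := hT
  haveI : ∀ p, Nontrivial (X.ring p) := fun p => by
    haveI : ConnectedSpace (PrimeSpectrum (X.ring p)) := hP p
    have : Nonempty (PrimeSpectrum (X.ring p)) := inferInstance
    exact PrimeSpectrum.nonempty_iff_nontrivial.mp this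
  haveI : Nontrivial (X.sectRing Set.univ) := by
    refine ⟨0, 1, fun h => ?_⟩
    have := congrArg (fun t : X.sectRing Set.univ => t.1 ⟨p₀, trivial⟩) h
    exact zero_ne_one this
  show ConnectedSpace (PrimeSpectrum (X.sectRing Set.univ))
  apply connectedSpace_of_idem
  -- a compatible family vanishing at `p₀` vanishes everywhere if all values are `0` or `1`
  have key : ∀ e : X.sectRing Set.univ, (∀ q, e.1 q = 0 ∨ e.1 q = 1) →
      e.1 ⟨p₀, trivial⟩ = 0 → e = 0 := by
    intro e h01 h0
    have hstep : ∀ a b : X.pt, a ≤ b → (e.1 ⟨a, trivial⟩ = 0 ↔ e.1 ⟨b, trivial⟩ = 0) := by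
      intro a b hab
      have hres : X.res hab (e.1 ⟨a, trivial⟩) = e.1 ⟨b, trivial⟩ :=
        e.2 ⟨a, trivial⟩ ⟨b, trivial⟩ hab
      constructor
      · intro ha
        rw [← hres, ha, map_zero]
      · intro hb
        rcases h01 ⟨a, trivial⟩ with ha | ha
        · exact ha
        · exfalso
          rw [ha, map_one] at hres
          exact one_ne_zero (hres.trans hb)
    have hall : ∀ a b : X.pt, Relation.EqvGen (fun a b : X.pt => a ≤ b) a b →
        (e.1 ⟨a, trivial⟩ = 0 ↔ e.1 ⟨b, trivial⟩ = 0) := by
      intro a b hab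
      induction hab with
      | rel a b h => exact hstep a b h
      | refl a => exact Iff.rfl
      | symm a b _ ih => exact ih.symm
      | trans a b c _ _ ih1 ih2 => exact ih1.trans ih2
    apply Subtype.ext
    funext q
    obtain ⟨q, hq⟩ := q
    exact (hall p₀ q (hconn p₀ q)).1 h0
  intro e he
  have h01 : ∀ q, e.1 q = 0 ∨ e.1 q = 1 := by
    intro q
    haveI : ConnectedSpace (PrimeSpectrum (X.ring q.1)) := hP q.1
    apply idem_eq_zero_or_one'
    have := congrArg (fun t : X.sectRing Set.univ => t.1 q) he.eq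
    exact this
  rcases h01 ⟨p₀, trivial⟩ with h0 | h1
  · left
    exact key e h01 h0
  · right
    have h01' : ∀ q, (1 - e).1 q = 0 ∨ (1 - e).1 q = 1 := by
      intro q
      show (1 : X.ring q.1) - e.1 q = 0 ∨ (1 : X.ring q.1) - e.1 q = 1
      rcases h01 q with h | h
      · right; rw [h, sub_zero]
      · left; rw [h, sub_self]
    have h0' : (1 - e).1 ⟨p₀, trivial⟩ = 0 := by
      show (1 : X.ring p₀) - e.1 ⟨p₀, trivial⟩ = 0
      rw [h1, sub_self]
    have := key (1 - e) h01' h0'
    exact (sub_eq_zero.mp this).symm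

theorem isWellConnected_iff (X : RSpace.{u}) :
    X.IsWellConnected ↔ (X.IsTopConnected ∧ X.IsPwConnected) := by
  constructor
  · rintro ⟨hC, hP⟩
    exact ⟨⟨nonempty_of_isConnected' X hC, eqvGen_of_isConnected' X hC hP⟩, hP⟩
  · rintro ⟨hT, hP⟩
    exact ⟨isConnected_of_top_pw X hT hP, hP⟩

end Groth.Agent.H8.SF
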